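import Cfsg.Agent.Mrg.Omega.NO3b.Exit.TwoFac
import Cfsg.Agent.Mrg.Omega.NO3b.SemiMut
import Cfsg.Agent.Mrg.Omega.NOThreeL.NF.Final


/-!
# All panels together are local (#17875 (2), #18325 (2))

* `sm` : LEMMA SM for a panel over `NoEmp.Lines`;
* `exists_loc_fam` : a nonempty family of panels `(F, T, X)` with two noncentral factors each: some nontrivial
  2-subgroup is normalised by `N_G(C_S(V))` and all `X`;
* `LocG.two` : (C2) for all panels of `LocG` (`Exit/TwoFac.lean`), `LocG.exists_opt`;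
* `LocG.all_loc` : `⟨N_G(B), all X⟩` is 2-local.
-/

set_option autoImplicit false

namespace Cfsg.Agent.Omega.NO3b.Exit

open Subgroup Cfsg
open Cfsg.Agent.ZN (o2 zc zl jj zj)
open Cfsg.Agent.ZN.ChoiceBase hiding mem_zc
open Cfsg.Agent.ZN.ChoiceSit (Syl exists_syl syl_conj o2_le_syl syl_not_dvd)
open Cfsg.Agent.Omega.NO3b.EZero (NotFF cent_symm cj_cent cj_norm cj_eq_cj_iff cl le_cl cj_le_cl cl_le
  le_normalizer_cl le_normalizer_inf_cent oddGen_sup_syl isPGroup_Q0 sq_of_comm Par)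
open Cfsg.Agent.Omega.NOThreeL.Star (Opt)
open Cfsg.Agent.Omega.NO3b.Wc
open Cfsg.Agent.Omega.NO3b.K0 (NoOv FullOff)
open Cfsg.Agent.Omega.NO3b.K0.Mix (Pan Two Fam SM)
open Cfsg.Agent.Omega.NO3b.Alpha (Fl)

universe u

variable {G : Type u} [Group G] [Finite G] {S : Sylow 2 G}

/-- LEMMA SM for a panel. -/
theorem sm {J V F T X L Q0 : Subgroup G} (h : NoEmp.Lines S J V) (hG : IsCharacteristicTwoType G)
    (k : Pan V F T X L Q0) : SM V X := by
  intro g hg hU
  refine h.comm_semi (h.char2 hG) (X := X) (U := cl V X) (le_normalizer_cl V X) k.U_comm k.U_sq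
    (B := (X : Set G)) ?_ (fun b hb => k.o2_norm_line hb) hg hU
  apply le_antisymm
  · exact cl_le fun x hx => le_biSup (fun b => cj b V) hx
  · exact iSup₂_le fun b hb => cj_le_cl hb

/-- **The panels of a nonempty family with two noncentral factors each generate a local group with
`N_G(C_S(V))`.** -/
theorem exists_loc_fam {ι : Type*} [Nonempty ι] {J V : Subgroup G} (hA : FFBr.AStmt.{u})
    (hG : IsCharacteristicTwoType G) (h : NoEmp.Lines S J V) (F T X : ι → Subgroup G)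
    (f : ∀ i, Fl S V (F i) (T i)) (p : ∀ i, Par V (F i) (T i) (X i)) (h2 : ∀ i, Two V (X i)) :
    ∃ R : Subgroup G, R ≠ ⊥ ∧ IsPGroup 2 R ∧
      normalizer (((S : Subgroup G) ⊓ centralizer (V : Set G) : Subgroup G) : Set G) ≤ normalizer (R : Set G) ∧
      ∀ i, X i ≤ normalizer (R : Set G) := by
  by_contra hcon
  have hpan : ∀ i, Pan V (F i) (T i) (X i)
      (normalizer (((S : Subgroup G) ⊓ centralizer (V : Set G) : Subgroup G) : Set G))
      ((S : Subgroup G) ⊓ centralizer (V : Set G)) := fun i =>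
    pan (f i) h (p i) fun g hg => Alpha.ti hG h g hg
  have hfam : Fam V (normalizer (((S : Subgroup G) ⊓ centralizer (V : Set G) : Subgroup G) : Set G))
      ((S : Subgroup G) ⊓ centralizer (V : Set G)) F T X := by
    refine ⟨hpan, fun R hR h1 h3 => ?_⟩
    by_contra hne
    exact hcon ⟨R, hne, hR, h1, h3⟩
  exact hfam.absurd (fun i => K0.noOv hA ((f i).sylX (p i)) ((f i).isMinPar h (p i)))
    (fun i => sm h hG (hpan i)) h2

end Cfsg.Agent.Omega.NO3b.Exit

namespace Cfsg.Agent.Omega.NOThreeL.HypGFrame.LocG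

open Subgroup Cfsg
open Cfsg.Agent.ZN (o2 zc zl jj zj)
open Cfsg.Agent.Omega.NO3b.EZero (NotFF Par cl)
open Cfsg.Agent.Omega.NO3b.Alpha (Fl)
open Cfsg.Agent.Omega.NO3b.Exit (Adm Fr VB)
open Cfsg.Agent.Omega.NO3b.K0.Mix (Two)
open Cfsg.Agent.Omega.NOThreeL.Star (Opt)

universe u

variable {G : Type u} [Group G] [Finite G] {S : Sylow 2 G} {M B : Subgroup G} (h : LocG S M B)
include h

/-- **(C2)** -/
theorem two (hG : IsCharacteristicTwoType G) (hSne : (S : Subgroup G) ≠ ⊥) {F T X : Subgroup G}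
    (f : Fl S (VB (S : Subgroup G) B) F T) (hZF : zc (S : Subgroup G) ≤ F)
    (p : Par (VB (S : Subgroup G) B) F T X) : Two (VB (S : Subgroup G) B) X :=
  (h.fr F T X f hZF p).two h.adm f p FFBr.aStmt FFBr.ffthm hG (NO3b.Final.stmtOff G) hSne h.min

/-- an optimal offender of `⟨V^⟨S,X⟩⟩` -/
theorem exists_optY (hG : IsCharacteristicTwoType G) (hSne : (S : Subgroup G) ≠ ⊥) {F T X : Subgroup G}
    (f : Fl S (VB (S : Subgroup G) B) F T) (hZF : zc (S : Subgroup G) ≤ F)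
    (p : Par (VB (S : Subgroup G) B) F T X) :
    ∃ A, Opt (cl (VB (S : Subgroup G) B) ((S : Subgroup G) ⊔ X)) A ∧ A ≤ B ∧ ¬ A ≤ o2 X :=
  (h.fr F T X f hZF p).exists_optY h.adm hG (NO3b.Final.stmtOff G) hSne h.min

/-- **`⟨N_G(B), all X⟩` is 2-local.** -/
theorem all_loc (hG : IsCharacteristicTwoType G) (hSne : (S : Subgroup G) ≠ ⊥) :
    ∃ R : Subgroup G, R ≠ ⊥ ∧ IsPGroup 2 R ∧ normalizer (B : Set G) ≤ normalizer (R : Set G) ∧
      ∀ F T X : Subgroup G, Fl S (VB (S : Subgroup G) B) F T → zc (S : Subgroup G) ≤ F →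
        Par (VB (S : Subgroup G) B) F T X → X ≤ normalizer (R : Set G) := by
  let ι := {t : Subgroup G × Subgroup G × Subgroup G // Fl S (VB (S : Subgroup G) B) t.1 t.2.1 ∧
    zc (S : Subgroup G) ≤ t.1 ∧ Par (VB (S : Subgroup G) B) t.1 t.2.1 t.2.2}
  obtain ⟨F, T, X, f, hZ, p⟩ := h.ex
  have : Nonempty ι := ⟨⟨(F, T, X), f, hZ, p⟩⟩
  obtain ⟨R, h1, h2, h3, h4⟩ := NO3b.Exit.exists_loc_fam (ι := ι) FFBr.aStmt hG h.adm.lines
    (fun t => t.1.1) (fun t => t.1.2.1) (fun t => t.1.2.2) (fun t => t.2.1) (fun t => t.2.2.2)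
    (fun t => h.two hG hSne t.2.1 t.2.2.1 t.2.2.2)
  rw [h.adm.cs] at h3
  exact ⟨R, h1, h2, h3, fun F T X f hZ p => h4 ⟨(F, T, X), f, hZ, p⟩⟩

end Cfsg.Agent.Omega.NOThreeL.HypGFrame.LocG
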