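import Cfsg.Agent.Mrg.Omega.NO3b.Exit.BO
import Cfsg.Agent.Mrg.Omega.NO3b.K0.Mix.Pan
import Cfsg.Agent.Mrg.Omega.NOThreeL.Star
import Cfsg.Agent.Mrg.Omega.FFBr.Main


/-!
# The bridge group → module for the local exit of NotFF, part 1: the module `U`

`U` an abelian subgroup, `h : H ≤ N_G(U)`; `XX h ≤ Aut(U)` the group induced by `H` on `U`, `pr h : H →* XX h`,
`im h A` the image of `A` (`FFBr`).

* `MU hc` : `U` written additively (`hc : U ≤ C_G(U)`), a `DistribMulAction` of `MulAut U`, so of `XX h` and of all its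
  subgroups; `val : MU hc → G`, `mk`;
* `ad hc K` : `K ∩ U` as an additive subgroup; `smul_ad` : `pr h g • ad K = ad (K^g)`; `mem_fx` : the fixed points;
* `mm_im` : `|Ā| |C_U(Ā)| = |A : C_A(U)| |C_U(A)|`.
-/

set_option autoImplicit false

namespace Cfsg.Agent.Omega.NO3b.Exit.Bridge

open Subgroup Cfsg
open Cfsg.Agent.ZN.ChoiceBase (cj mem_cj cj_mono cj_eq_of_mem_normalizer mem_normalizer_iff_cj)
open Cfsg.Agent.Omega.FF.Basic (fx mm EA)
open Cfsg.Agent.Omega.NO3b.Exit.TT (cf nf mem_cf mem_nf mem_smul)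
open Cfsg.Agent.Omega.FFBr (XX pr im mem_im card_im coe_pr_smul pr_eq_one pr_surjective)
open scoped Pointwise

universe u

variable {G : Type u} [Group G]

/-- `x • K`, the pointwise action of the module files -/
abbrev sm {X : Type*} [Group X] {W : Type*} [AddCommGroup W] [DistribMulAction X W] (x : X) (K : AddSubgroup W) :
    AddSubgroup W := x • K

/-- `U`, additively -/
def MU {U : Subgroup G} (_hc : U ≤ centralizer (U : Set G)) : Type u := Additive U

section basic

variable {U : Subgroup G} (hc : U ≤ centralizer (U : Set G))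

instance : AddCommGroup (MU hc) :=
  { (inferInstance : AddGroup (Additive U)) with
    add_comm := fun a b => Subtype.ext (mem_centralizer_iff.1 (hc (Additive.toMul (α := U) b).2)
      ((Additive.toMul (α := U) a : U) : G) (Additive.toMul (α := U) a).2) }

instance [Finite G] : Finite (MU hc) := inferInstanceAs (Finite U)

/-- the element of `G` -/
def val {U : Subgroup G} {hc : U ≤ centralizer (U : Set G)} (w : MU hc) : G :=
  ((Additive.toMul (α := U) w : U) : G)

/-- the element of `MU hc` -/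
def mk {g : G} (hg : g ∈ U) : MU hc := Additive.ofMul (α := U) ⟨g, hg⟩

variable {hc}

@[simp] theorem val_mk {g : G} (hg : g ∈ U) : val (mk hc hg) = g := rfl

theorem val_mem (w : MU hc) : val w ∈ U := (Additive.toMul (α := U) w).2

@[ext] theorem val_inj {v w : MU hc} (h : val v = val w) : v = w := Subtype.ext h

@[simp] theorem val_add (v w : MU hc) : val (v + w) = val v * val w := rfl

@[simp] theorem val_zero : val (0 : MU hc) = 1 := rfl

@[simp] theorem val_neg (v : MU hc) : val (-v) = (val v)⁻¹ := rfl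

@[simp] theorem val_sub (v w : MU hc) : val (v - w) = val v * (val w)⁻¹ := by
  rw [sub_eq_add_neg, val_add, val_neg]

theorem mk_val (w : MU hc) : mk hc (val_mem w) = w := rfl

variable (hc) in
instance : DistribMulAction (MulAut U) (MU hc) where
  smul x w := Additive.ofMul (α := U) (x (Additive.toMul (α := U) w))
  one_smul _ := rfl
  mul_smul _ _ _ := rfl
  smul_zero x := congrArg (Additive.ofMul (α := U)) (map_one x)
  smul_add x v w := congrArg (Additive.ofMul (α := U))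
    (map_mul x (Additive.toMul (α := U) v) (Additive.toMul (α := U) w))

theorem val_smul_aut (x : MulAut U) (w : MU hc) : val (x • w) = (x (⟨val w, val_mem w⟩ : U) : U) := rfl

variable {H : Subgroup G} (h : H ≤ normalizer (U : Set G))

@[simp] theorem val_smul (g : H) (w : MU hc) : val (pr h g • w) = g * val w * (g : G)⁻¹ := rfl

theorem val_smul_inv (g : H) (w : MU hc) : val ((pr h g)⁻¹ • w) = (g : G)⁻¹ * val w * (g : G) := by
  rw [← map_inv, val_smul, coe_inv, inv_inv]

variable (hc) in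
/-- `K ∩ U` as an additive subgroup -/
def ad (K : Subgroup G) : AddSubgroup (MU hc) where
  carrier := {w | val w ∈ K}
  zero_mem' := K.one_mem
  add_mem' := fun {_ _} hv hw => K.mul_mem hv hw
  neg_mem' := fun {_} hw => K.inv_mem hw

@[simp] theorem mem_ad {K : Subgroup G} {w : MU hc} : w ∈ ad hc K ↔ val w ∈ K := Iff.rfl

theorem ad_mono {K L : Subgroup G} (hKL : K ≤ L) : ad hc K ≤ ad hc L := fun _ hw => hKL hw

theorem ad_le_ad {K L : Subgroup G} (hK : K ≤ U) : ad hc K ≤ ad hc L ↔ K ≤ L :=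
  ⟨fun h1 _ hk => h1 (x := mk hc (hK hk)) hk, ad_mono⟩

theorem ad_inj {K L : Subgroup G} (hK : K ≤ U) (hL : L ≤ U) : ad hc K = ad hc L ↔ K = L :=
  ⟨fun h1 => le_antisymm ((ad_le_ad hK).1 h1.le) ((ad_le_ad hL).1 h1.ge), fun h1 => by rw [h1]⟩

theorem ad_inf (K L : Subgroup G) : ad hc (K ⊓ L) = ad hc K ⊓ ad hc L := rfl

theorem ad_U : ad hc U = ⊤ := eq_top_iff.2 fun w _ => val_mem w

theorem ad_inf_U (K : Subgroup G) : ad hc (U ⊓ K) = ad hc K := by
  rw [ad_inf, ad_U, top_inf_eq]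

theorem ad_bot : ad hc (⊥ : Subgroup G) = ⊥ := by
  ext w
  rw [mem_ad, mem_bot, AddSubgroup.mem_bot]
  exact ⟨fun h1 => val_inj h1, fun h1 => by rw [h1, val_zero]⟩

theorem card_ad (K : Subgroup G) : Nat.card (ad hc K) = Nat.card ↥(U ⊓ K) :=
  Nat.card_congr ⟨fun w => ⟨val w.1, val_mem w.1, w.2⟩, fun x => ⟨mk hc x.2.1, x.2.2⟩, fun _ => rfl, fun _ => rfl⟩

theorem card_ad_of_le {K : Subgroup G} (hK : K ≤ U) : Nat.card (ad hc K) = Nat.card K := by
  rw [card_ad, inf_eq_right.2 hK]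

theorem card_MU : Nat.card (MU hc) = Nat.card U := rfl

/-- the subgroup of `G` -/
def un (W : AddSubgroup (MU hc)) : Subgroup G where
  carrier := {g | ∃ w ∈ W, val w = g}
  one_mem' := ⟨0, W.zero_mem, rfl⟩
  mul_mem' := by
    rintro _ _ ⟨v, hv, rfl⟩ ⟨w, hw, rfl⟩
    exact ⟨v + w, W.add_mem hv hw, rfl⟩
  inv_mem' := by
    rintro _ ⟨v, hv, rfl⟩
    exact ⟨-v, W.neg_mem hv, rfl⟩

theorem mem_un {W : AddSubgroup (MU hc)} {g : G} : g ∈ un W ↔ ∃ w ∈ W, val w = g := Iff.rfl

theorem un_le (W : AddSubgroup (MU hc)) : un W ≤ U := by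
  rintro _ ⟨w, -, rfl⟩
  exact val_mem w

theorem val_mem_un {W : AddSubgroup (MU hc)} {w : MU hc} : val w ∈ un W ↔ w ∈ W := by
  constructor
  · rintro ⟨v, hv, h1⟩
    rwa [← val_inj h1]
  · exact fun hw => ⟨w, hw, rfl⟩

theorem ad_un (W : AddSubgroup (MU hc)) : ad hc (un W) = W := by
  ext w
  rw [mem_ad, val_mem_un]

theorem un_ad (K : Subgroup G) : un (ad hc K) = U ⊓ K := by
  ext g
  constructor
  · rintro ⟨w, hw, rfl⟩
    exact ⟨val_mem w, hw⟩
  · rintro ⟨h1, h2⟩
    exact ⟨mk hc h1, h2, rfl⟩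

/-- `pr g • (K ∩ U) = K^g ∩ U` -/
theorem smul_ad (g : H) (K : Subgroup G) : sm (pr h g) (ad hc K) = ad hc (cj (g : G) K) := by
  ext w
  rw [sm, mem_smul, mem_ad, mem_ad, val_smul_inv, mem_cj]

theorem pr_mem_nf_iff {g : H} {K : Subgroup G} (hK : K ≤ U) :
    pr h g ∈ nf (XX h) (ad hc K) ↔ (g : G) ∈ normalizer (K : Set G) := by
  have h1 := cj_mono (g : G) hK
  rw [cj_eq_of_mem_normalizer (h g.2)] at h1
  have h2 : pr h g ∈ nf (XX h) (ad hc K) ↔ sm (pr h g) (ad hc K) = ad hc K := mem_nf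
  rw [h2, smul_ad, mem_normalizer_iff_cj, ad_inj h1 hK]

theorem pr_smul_eq_iff' {g : H} {w : MU hc} : pr h g • w = w ↔ (g : G) * val w = val w * g := by
  constructor
  · intro h1
    have h2 := congrArg val h1
    rwa [val_smul, mul_inv_eq_iff_eq_mul] at h2
  · intro h1
    apply val_inj
    rw [val_smul, mul_inv_eq_iff_eq_mul, h1]

theorem pr_mem_cf_iff {g : H} {K : Subgroup G} (hK : K ≤ U) :
    pr h g ∈ cf (XX h) (ad hc K) ↔ (g : G) ∈ centralizer (K : Set G) := by
  rw [mem_cf, mem_centralizer_iff]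
  constructor
  · intro h1 k hk
    exact ((pr_smul_eq_iff' h).1 (h1 (mk hc (hK hk)) hk)).symm
  · intro h1 w hw
    exact (pr_smul_eq_iff' h).2 (h1 _ hw).symm

theorem mem_fx_im {A : Subgroup G} (hA : A ≤ H) {w : MU hc} :
    w ∈ fx (MU hc) (im h A) ↔ val w ∈ centralizer (A : Set G) := by
  rw [mem_centralizer_iff]
  constructor
  · intro hw a ha
    exact (pr_smul_eq_iff' h).1 (hw (pr h ⟨a, hA ha⟩) ⟨⟨a, hA ha⟩, ha, rfl⟩)
  · rintro hw _ ⟨a, ha, rfl⟩
    exact (pr_smul_eq_iff' h).2 (hw a ha)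

theorem fx_im {A : Subgroup G} (hA : A ≤ H) : fx (MU hc) (im h A) = ad hc (centralizer (A : Set G)) := by
  ext w
  rw [mem_fx_im h hA, mem_ad]

/-- `MulAut U` acts faithfully -/
theorem faith (x : XX h) (hx : ∀ w : MU hc, x • w = w) : x = 1 := by
  apply FFBr.faith h x
  rintro ⟨v, hv⟩
  exact Subtype.ext (congrArg val (hx (mk hc hv)))

end basic

end Cfsg.Agent.Omega.NO3b.Exit.Bridge
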