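import Cfsg.Agent.Mrg.Omega.FF.GlobFam
import Cfsg.Agent.MinSimple.VModule
import Mathlib

section


/-!
# The local exit of NotFF: best offenders (#18053 (1), (2), helper999)

`X` finite acts faithfully on the elementary abelian 2-group `W`, `V ≤ W`; `N_X(V)` is the unique maximal subgroup of
`X` over the Sylow 2-subgroup `S`; `F ≤ V` is centralised by `X`, `V ∩ V^x ≤ F` for `V^x ≠ V`; `V` is not FF for
`N_X(V)`; `S` moves `V` (`Dat S V F`). `Gen X V` : `W = ⟨V^X⟩` (only where stated).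

* `BO A` : `A` has exponent 2 and `|E| |C_W(E)| ≤ |A| |C_W(A)|` for all `E ≤ A`;
* `Dat.bo_cent` : **(1)** a `BO` group which normalises `V^x` centralises it; `Dat.bo_eq_bot` : `BO` in `O₂(X)` is 1;
* `MB B` : `B` is `BO`, not in `O₂(X)`, and `f(E) < f(B)` for `1 ≠ E < B`, so (`MB.two_mul`) `f(E) ≤ f(B) / 2`;
  `exists_MB` : it exists if `W = ⟨V^X⟩` and some `BO` group is not in `O₂(X)`;
  `MB.quad` : `B` is quadratic;
* `MB.fx_le`, `MB.comm_le` : **(2)** if `V^g` is not `B`-invariant, then `C_{V^g}(B) ≤ F`, `[V^g, N_B(V^g)] ≤ F`;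
  `MB.comm_core` : `[W, B ∩ O₂(X)] ≤ F`.
-/

set_option autoImplicit false

namespace Cfsg.Agent.Omega.NO3b.Exit.TT

open Cfsg.Agent.Omega.FF.Basic Cfsg.Agent.Omega.FF.Quad
open Cfsg (pCore)
open scoped Pointwise

section basic

variable {X : Type*} [Group X] {W : Type*} [AddCommGroup W] [DistribMulAction X W]

/-- `C_X(U)` -/
def cf (X : Type*) [Group X] {W : Type*} [AddCommGroup W] [DistribMulAction X W] (U : AddSubgroup W) :
    Subgroup X where
  carrier := {x | ∀ u ∈ U, x • u = u}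
  one_mem' := fun _ _ => one_smul _ _
  mul_mem' := fun {_ _} ha hb u hu => by rw [mul_smul, hb u hu, ha u hu]
  inv_mem' := fun {_} ha u hu => by rw [inv_smul_eq_iff, ha u hu]

theorem mem_cf {U : AddSubgroup W} {x : X} : x ∈ cf X U ↔ ∀ u ∈ U, x • u = u := Iff.rfl

/-- `N_X(U)` -/
abbrev nf (X : Type*) [Group X] {W : Type*} [AddCommGroup W] [DistribMulAction X W] (U : AddSubgroup W) :
    Subgroup X := MulAction.stabilizer X U

theorem mem_nf {U : AddSubgroup W} {x : X} : x ∈ nf X U ↔ x • U = U := Iff.rfl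

theorem mem_smul {U : AddSubgroup W} {x : X} {w : W} : w ∈ x • U ↔ x⁻¹ • w ∈ U :=
  AddSubgroup.mem_pointwise_smul_iff_inv_smul_mem

theorem smul_mem' {U : AddSubgroup W} {x : X} {w : W} (h : w ∈ U) : x • w ∈ x • U := by
  rw [mem_smul, inv_smul_smul]; exact h

theorem nf_smul {U : AddSubgroup W} {x : X} (h : x ∈ nf X U) {w : W} (hw : w ∈ U) : x • w ∈ U := by
  have h1 := smul_mem' (x := x) hw
  rwa [mem_nf.1 h] at h1

theorem le_cf {U : AddSubgroup W} {A : Subgroup X} : A ≤ cf X U ↔ U ≤ fx W A :=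
  ⟨fun h u hu a ha => h ha u hu, fun h a ha u hu => h hu a ha⟩

theorem cf_le_nf [Finite W] (U : AddSubgroup W) : cf X U ≤ nf X U := by
  intro x hx
  rw [mem_nf]
  ext w
  rw [mem_smul]
  have hx' : x⁻¹ ∈ cf X U := inv_mem hx
  constructor
  · intro h
    have := hx _ h
    rw [smul_inv_smul] at this
    rw [this]; exact h
  · intro h
    rw [hx' _ h]; exact h

theorem nf_conj {U : AddSubgroup W} {x y : X} : y ∈ nf X (x • U) ↔ x⁻¹ * y * x ∈ nf X U := by
  rw [mem_nf, mem_nf, smul_smul, mul_assoc, mul_smul x⁻¹ (y * x) U, inv_smul_eq_iff]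

theorem cf_conj {U : AddSubgroup W} {x y : X} : y ∈ cf X (x • U) ↔ x⁻¹ * y * x ∈ cf X U := by
  rw [mem_cf, mem_cf]
  constructor
  · intro h u hu
    have := h (x • u) (smul_mem' hu)
    rw [mul_smul, mul_smul, this, inv_smul_smul]
  · intro h u hu
    have := h _ (mem_smul.1 hu)
    rw [mul_smul, mul_smul, smul_inv_smul, inv_smul_eq_iff, smul_inv_smul] at this
    exact this

theorem card_smul' (x : X) (U : AddSubgroup W) : Nat.card ↥(x • U) = Nat.card U :=
  card_smul x fun _ => mem_smul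

/-- a `BO` group -/
structure BO (W : Type*) [AddCommGroup W] [DistribMulAction X W] (A : Subgroup X) : Prop where
  ea : EA A
  le : ∀ E : Subgroup X, E ≤ A → mm W E ≤ mm W A

theorem mm_pow [Finite X] [Finite W] (two : ∀ w : W, w + w = 0) {A : Subgroup X} (hA : EA A) :
    ∃ n, mm W A = 2 ^ n := by
  have hf : Fact (Nat.Prime 2) := ⟨Nat.prime_two⟩
  obtain ⟨n, hn⟩ := IsPGroup.iff_card.1 hA.isPGroup
  have h1 : IsPGroup 2 (Multiplicative (fx W A)) := by
    intro x
    refine ⟨1, ?_⟩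
    apply Multiplicative.toAdd.injective
    apply Subtype.ext
    rw [pow_one, toAdd_pow, two_nsmul]
    exact two _
  obtain ⟨m, hm⟩ := IsPGroup.iff_card.1 h1
  refine ⟨n + m, ?_⟩
  have h2 : Nat.card (fx W A) = 2 ^ m := hm
  rw [mm, hn, h2, pow_add]

theorem card_pow [Finite W] (two : ∀ w : W, w + w = 0) (U : AddSubgroup W) : ∃ n, Nat.card U = 2 ^ n := by
  have hf : Fact (Nat.Prime 2) := ⟨Nat.prime_two⟩
  have h1 : IsPGroup 2 (Multiplicative U) := by
    intro x
    refine ⟨1, ?_⟩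
    apply Multiplicative.toAdd.injective
    apply Subtype.ext
    rw [pow_one, toAdd_pow, two_nsmul]
    exact two _
  obtain ⟨m, hm⟩ := IsPGroup.iff_card.1 h1
  exact ⟨m, hm⟩

theorem two_mul_le_of_pow {a b : ℕ} (ha : ∃ n, a = 2 ^ n) (hb : ∃ n, b = 2 ^ n) (h : a < b) : 2 * a ≤ b := by
  obtain ⟨n, rfl⟩ := ha
  obtain ⟨m, rfl⟩ := hb
  have h1 := (Nat.pow_lt_pow_iff_right (by norm_num : 1 < 2)).1 h
  calc 2 * 2 ^ n = 2 ^ (n + 1) := by ring
    _ ≤ 2 ^ m := Nat.pow_le_pow_right (by norm_num) (by omega)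

/-- Timmesfeld's replacement: `f(A)` maximal in `A` and `f(E) < f(A)` for `1 ≠ E < A` imply quadratic action. -/
theorem quad' [Finite X] [Finite W] {A : Subgroup X} (h2 : ∀ v : W, v + v = 0) (hA : EA A) (hne : A ≠ ⊥)
    (hbot : Nat.card W ≤ mm W A) (hmin : ∀ F < A, F ≠ ⊥ → mm W F < mm W A) :
    ∀ a ∈ A, ∀ b ∈ A, ∀ v : W, b • (a • v - v) = a • v - v := by
  intro a ha b hb u
  have hle : st A u ≤ A := fun c hc => hc.1
  have h1 := mm_le_st hA u
  by_cases hst : st A u = ⊥
  · exfalso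
    have hA1 : mm W A = Nat.card W := by
      apply le_antisymm _ hbot
      rw [← mm_bot (V := W) (X := X), ← hst]; exact h1
    have hinj : ∀ a ∈ A, ∀ b ∈ A, (a • u - u) - (b • u - u) ∈ fx W A → a = b := by
      intro a ha b hb h
      have : b⁻¹ * a ∈ st A u := by
        refine ⟨A.mul_mem (A.inv_mem hb) ha, fun d hd => ?_⟩
        set c := b⁻¹ * a with hc
        have hcA : c ∈ A := A.mul_mem (A.inv_mem hb) ha
        have h1 : c • u - u ∈ fx W A := by
          have h3 : (a • u - b • u : W) ∈ fx W A := by convert h using 1; abel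
          have h4 := h3 b⁻¹ (A.inv_mem hb)
          have h5 : c • u - u = b⁻¹ • (a • u - b • u) := by
            rw [smul_sub, smul_smul, inv_smul_smul]
          rw [h5, h4]; exact h3
        have h2 : c • (d • u) = d • (c • u) := by
          rw [smul_smul, smul_smul, hA.comm hcA hd]
        have h3 := h1 d hd
        rw [smul_sub] at h3
        rw [smul_sub, h2]
        have h4 : d • c • u = c • u - u + d • u := by rw [← h3]; abel
        rw [h4]; abel
      rw [hst, Subgroup.mem_bot, inv_mul_eq_one] at this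
      exact this.symm
    have hbij : Function.Bijective (fun x : A × fx W A => ((x.1 : X) • u - u + (x.2 : W) : W)) := by
      rw [Nat.bijective_iff_injective_and_card]
      refine ⟨?_, ?_⟩
      · rintro ⟨a, c⟩ ⟨a', c'⟩ h
        have h' : (a : X) • u - u + (c : W) = (a' : X) • u - u + (c' : W) := h
        have e : (a : X) = a' := by
          apply hinj a a.2 a' a'.2
          have : ((a : X) • u - u) - ((a' : X) • u - u) = (c' : W) - c := by
            have : (a : X) • u - u = (a' : X) • u - u + (c' : W) - c := by rw [← h']; abel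
            rw [this]; abel
          rw [this]; exact (fx W A).sub_mem c'.2 c.2
        rw [e] at h'
        exact Prod.ext (Subtype.ext e) (Subtype.ext (add_left_cancel h'))
      · rw [Nat.card_prod]; exact hA1
    obtain ⟨⟨a, c⟩, hac⟩ := hbij.2 u
    have hac' : (a : X) • u - u + (c : W) = u := hac
    have h3 : (a : X) • u = (u + u) - c := by rw [← sub_eq_zero] at hac' ⊢; rw [← hac']; abel
    rw [h2, zero_sub] at h3
    have h4 : (a : X) • u ∈ fx W A := by rw [h3]; exact (fx W A).neg_mem c.2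
    have h5 : u ∈ fx W A := by
      have := h4 (a : X)⁻¹ (A.inv_mem a.2)
      rw [inv_smul_smul] at this
      rw [this]; exact h4
    apply hne
    rw [Subgroup.eq_bot_iff_forall]
    intro x hx
    apply hinj x hx 1 A.one_mem
    rw [h5 x hx, one_smul, sub_self]; exact (fx W A).zero_mem
  · have : st A u = A := by
      by_contra h
      exact absurd (hmin _ (lt_of_le_of_ne hle h) hst) (not_lt.2 h1)
    have hb' : b ∈ st A u := by rw [this]; exact hb
    exact hb'.2 a ha

end basic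

/-- The hypotheses. -/
structure Dat {X : Type*} [Group X] {W : Type*} [AddCommGroup W] [DistribMulAction X W] (S : Sylow 2 X)
    (V F : AddSubgroup W) : Prop where
  two : ∀ w : W, w + w = 0
  faith : ∀ x : X, (∀ w : W, x • w = w) → x = 1
  SV : (S : Subgroup X) ≤ nf X V
  ne : nf X V ≠ ⊤
  uniq : ∀ K : Subgroup X, (S : Subgroup X) ≤ K → K ≠ ⊤ → K ≤ nf X V
  FV : F ≤ V
  Fx : ∀ (x : X), ∀ f ∈ F, x • f = f
  ti : ∀ x : X, x • V ≠ V → V ⊓ x • V ≤ F
  nff : ∀ A : Subgroup X, IsPGroup 2 A → A ≤ nf X V → (∀ a ∈ A, ∀ v ∈ V, a • a • v = v) → ¬ A ≤ cf X V →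
    Nat.card A * Nat.card ↥(V ⊓ fx W A) < Nat.card V * Nat.card ↥(A ⊓ cf X V)
  mv : ¬ (S : Subgroup X) ≤ cf X V

/-- `W = ⟨V^X⟩` -/
def Gen (X : Type*) [Group X] {W : Type*} [AddCommGroup W] [DistribMulAction X W] (V : AddSubgroup W) : Prop :=
  (⨆ x : X, x • V) = ⊤

namespace Dat

variable {X : Type*} [Group X] [Finite X] {W : Type*} [AddCommGroup W] [Finite W] [DistribMulAction X W]
  {S : Sylow 2 X} {V F : AddSubgroup W} (h : Dat S V F)
include h

omit [Finite X] [Finite W] in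
theorem F_smul (x : X) : x • F = F := by
  ext w
  rw [mem_smul]
  constructor
  · intro hw
    have := h.Fx x _ hw
    rw [smul_inv_smul] at this
    rw [this]; exact hw
  · intro hw
    rw [h.Fx x⁻¹ w hw]; exact hw

omit [Finite X] [Finite W] in
theorem F_le (x : X) : F ≤ x • V := by
  rw [← h.F_smul x]
  exact AddSubgroup.pointwise_smul_le_pointwise_smul_iff.2 h.FV

omit [Finite X] [Finite W] in
theorem F_fx (A : Subgroup X) : F ≤ fx W A := fun f hf a _ => h.Fx a f hf

omit [Finite X] [Finite W] in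
/-- (TI) for two lines -/
theorem ti' {x y : X} (hne : x • V ≠ y • V) : x • V ⊓ y • V ≤ F := by
  have h1 : (x⁻¹ * y) • V ≠ V := by
    intro h0
    apply hne
    have := congrArg (fun U : AddSubgroup W => x • U) h0
    simp only [smul_smul, mul_inv_cancel_left] at this
    exact this.symm
  intro w hw
  have h2 : x⁻¹ • w ∈ F := by
    apply h.ti _ h1
    refine ⟨mem_smul.1 hw.1, ?_⟩
    have h3 : y⁻¹ • w ∈ V := mem_smul.1 hw.2
    have e : ((x⁻¹ * y)⁻¹ • x⁻¹ • w : W) = y⁻¹ • w := by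
      rw [smul_smul]; congr 1; group
    exact mem_smul.2 (by rw [e]; exact h3)
  have h3 := h.Fx x _ h2
  rw [smul_inv_smul] at h3
  rw [h3]; exact h2

omit [Finite X] [Finite W] in
/-- NF for the line `V^x` -/
theorem nff' (x : X) {A : Subgroup X} (hA : IsPGroup 2 A) (hAn : A ≤ nf X (x • V))
    (hsq : ∀ a ∈ A, ∀ v ∈ x • V, a • a • v = v) (hne : ¬ A ≤ cf X (x • V)) :
    Nat.card A * Nat.card ↥(x • V ⊓ fx W A) < Nat.card V * Nat.card ↥(A ⊓ cf X (x • V)) := by
  have h1 := h.nff (cj x⁻¹ A) (isPGroup_cj _ hA) (fun a ha => by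
      rw [mem_cj, inv_inv] at ha
      have h2 := hAn ha
      rw [nf_conj] at h2
      have e : x⁻¹ * (x * a * x⁻¹) * x = a := by group
      rwa [e] at h2) (fun a ha v hv => by
      rw [mem_cj, inv_inv] at ha
      have h2 := hsq _ ha _ (smul_mem' (x := x) hv)
      rw [smul_smul, smul_smul] at h2
      have e : x * a * x⁻¹ * (x * a * x⁻¹) * x = x * (a * a) := by group
      rw [e, mul_smul] at h2
      rw [smul_smul]
      exact smul_left_cancel x h2) (fun h0 => hne (fun a ha => by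
      rw [cf_conj]
      have h2 := h0 (mem_cj_of (g := x⁻¹) ha)
      rwa [inv_inv] at h2))
  rw [card_cj] at h1
  have e1 : Nat.card ↥(V ⊓ fx W (cj x⁻¹ A)) = Nat.card ↥(x • V ⊓ fx W A) := by
    refine (card_smul x fun v => ?_).symm
    constructor
    · rintro ⟨h2, h3⟩
      exact ⟨mem_smul.1 h2, smul_mem_fx_cj h3⟩
    · rintro ⟨h2, h3⟩
      have h3' := mem_fx_cj.1 h3
      rw [inv_inv, smul_inv_smul] at h3'
      exact ⟨mem_smul.2 h2, h3'⟩
  have e2 : Nat.card ↥(cj x⁻¹ A ⊓ cf X V) = Nat.card ↥(A ⊓ cf X (x • V)) := by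
    have e3 : cj x⁻¹ A ⊓ cf X V = cj x⁻¹ (A ⊓ cf X (x • V)) := by
      ext a
      rw [mem_cj, inv_inv, Subgroup.mem_inf, Subgroup.mem_inf, mem_cj, inv_inv, cf_conj]
      have e : x⁻¹ * (x * a * x⁻¹) * x = a := by group
      rw [e]
    rw [e3, card_cj]
  rw [e1, e2] at h1
  exact h1

/-- **(1)** a `BO` group which normalises a line centralises it. -/
theorem bo_cent {A : Subgroup X} (hA : BO W A) {x : X} (hx : A ≤ nf X (x • V)) : A ≤ cf X (x • V) := by
  by_contra hne
  have h1 := h.nff' x hA.ea.isPGroup hx (fun a ha v _ => by rw [smul_smul, hA.ea a ha, one_smul]) hne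
  set E := A ⊓ cf X (x • V) with hE
  have h2 := hA.le E inf_le_left
  have h3 : x • V ⊔ fx W A ≤ fx W E := by
    refine sup_le ?_ (fx_anti inf_le_left)
    exact le_cf.1 inf_le_right
  have h4 := card_sup_inf (x • V) (fx W A)
  have h5 := card_le h3
  rw [card_smul'] at h4
  rw [mm, mm] at h2
  have h6 : Nat.card V * Nat.card E ≤ Nat.card A * Nat.card ↥(x • V ⊓ fx W A) := by
    have p : 0 < Nat.card (fx W A) := Nat.card_pos
    refine Nat.le_of_mul_le_mul_right ?_ p
    calc Nat.card V * Nat.card E * Nat.card (fx W A) = Nat.card E * (Nat.card V * Nat.card (fx W A)) := by ring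
      _ = Nat.card E * (Nat.card ↥(x • V ⊔ fx W A) * Nat.card ↥(x • V ⊓ fx W A)) := by rw [h4]
      _ ≤ Nat.card E * (Nat.card (fx W E) * Nat.card ↥(x • V ⊓ fx W A)) :=
        Nat.mul_le_mul_left _ (Nat.mul_le_mul_right _ h5)
      _ = Nat.card E * Nat.card (fx W E) * Nat.card ↥(x • V ⊓ fx W A) := by ring
      _ ≤ Nat.card A * Nat.card (fx W A) * Nat.card ↥(x • V ⊓ fx W A) := Nat.mul_le_mul_right _ h2
      _ = _ := by ring
  exact absurd h1 (not_lt.2 h6)

omit h [Finite W] [Finite X] in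
theorem core_le (S : Sylow 2 X) : pCore 2 X ≤ (S : Subgroup X) := Lib.Cores.pCore_le_sylow S

omit [Finite W] in
theorem core_nf (x : X) : pCore 2 X ≤ nf X (x • V) := by
  intro q hq
  rw [nf_conj]
  have hn : (pCore 2 X).Normal := Lib.Cores.pCore_normal 2
  have h1 : x⁻¹ * q * x ∈ pCore 2 X := by
    have := hn.conj_mem q hq x⁻¹
    rwa [inv_inv] at this
  exact h.SV (core_le S h1)

omit [Finite X] [Finite W] in
/-- A subgroup which centralises all lines is trivial. -/
theorem eq_bot_of (hgen : Gen X V) {A : Subgroup X} (hA : ∀ x : X, A ≤ cf X (x • V)) : A = ⊥ := by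
  rw [Subgroup.eq_bot_iff_forall]
  intro a ha
  apply h.faith
  intro w
  have h1 : (⨆ x : X, x • V) ≤ fx W A := iSup_le fun x => le_cf.1 (hA x)
  rw [hgen] at h1
  exact h1 (AddSubgroup.mem_top w) a ha

/-- A `BO` group in `O₂(X)` is trivial. -/
theorem bo_eq_bot (hgen : Gen X V) {A : Subgroup X} (hA : BO W A) (hQ : A ≤ pCore 2 X) : A = ⊥ :=
  h.eq_bot_of hgen fun x => h.bo_cent hA (hQ.trans (h.core_nf x))

end Dat

/-- A `BO` group which is not contained in `O₂(X)`, strictly better than its proper subgroups. -/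
structure MB {X : Type*} [Group X] (W : Type*) [AddCommGroup W] [DistribMulAction X W] (B : Subgroup X) : Prop where
  bo : BO W B
  nle : ¬ B ≤ pCore 2 X
  lt : ∀ E : Subgroup X, E < B → E ≠ ⊥ → mm W E < mm W B

theorem exists_MB {X : Type*} [Group X] [Finite X] {W : Type*} [AddCommGroup W] [Finite W] [DistribMulAction X W]
    {S : Sylow 2 X} {V F : AddSubgroup W} (h : Dat S V F) (hgen : Gen X V)
    {A : Subgroup X} (hA : BO W A) (hnle : ¬ A ≤ pCore 2 X) : ∃ B ≤ A, MB W B := by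
  obtain ⟨B, hB, hmin⟩ := Set.exists_min_image {B : Subgroup X | B ≤ A ∧ BO W B ∧ ¬ B ≤ pCore 2 X}
    (fun A => Nat.card A) (Set.toFinite _) ⟨A, le_rfl, hA, hnle⟩
  refine ⟨B, hB.1, hB.2.1, hB.2.2, fun E hE hne => lt_of_le_of_ne (hB.2.1.le E hE.le) fun heq => ?_⟩
  have hbo : BO W E := ⟨hB.2.1.ea.mono hE.le, fun E' h' => by rw [heq]; exact hB.2.1.le E' (h'.trans hE.le)⟩
  by_cases hQ : E ≤ pCore 2 X
  · exact hne (h.bo_eq_bot hgen hbo hQ)
  · exact hE.ne (Subgroup.eq_of_le_of_card_ge hE.le (hmin E ⟨hE.le.trans hB.1, hbo, hQ⟩))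

namespace MB

variable {X : Type*} [Group X] [Finite X] {W : Type*} [AddCommGroup W] [Finite W] [DistribMulAction X W]
  {S : Sylow 2 X} {V F : AddSubgroup W} {B : Subgroup X} (m : MB W B) (h : Dat S V F)

include m in
omit [Finite X] [Finite W] in
theorem ne_bot : B ≠ ⊥ := fun h0 => m.nle (h0 ▸ bot_le)

include m h

/-- `f(E) ≤ f(B) / 2` for `1 ≠ E < B` -/
theorem two_mul {E : Subgroup X} (hE : E < B) (hne : E ≠ ⊥) : 2 * mm W E ≤ mm W B :=
  two_mul_le_of_pow (mm_pow h.two (m.bo.ea.mono hE.le)) (mm_pow h.two m.bo.ea) (m.lt E hE hne)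

omit [Finite X] [Finite W] h in
theorem card_le_mm : Nat.card W ≤ mm W B := by
  rw [← mm_bot (X := X) (V := W)]
  exact m.bo.le ⊥ bot_le

/-- `B` is quadratic. -/
theorem quad : ∀ a ∈ B, ∀ b ∈ B, ∀ w : W, b • (a • w - w) = a • w - w := by
  exact quad' h.two m.bo.ea m.ne_bot m.card_le_mm fun E hE hne => m.lt E hE hne

omit [Finite X] [Finite W] m in
/-- `C_{V^g}(b) ≤ F` if `b` moves the line `V^g` -/
theorem fe_inf {g b : X} (hb : b ∉ nf X (g • V)) : g • V ⊓ fe W b ≤ F := by
  rintro v ⟨h1, h2⟩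
  refine h.ti' (x := g) (y := b * g) ?_ ⟨h1, ?_⟩
  · intro h0
    apply hb
    rw [mem_nf, ← mul_smul]
    exact h0.symm
  · rw [mul_smul]
    have h3 := smul_mem' (x := b) h1
    have h4 : b • v = v := h2
    rwa [h4] at h3

omit [Finite X] [Finite W] m in
/-- **(2)** `C_{V^g}(B) ≤ F` -/
theorem fx_le {g : X} (hg : ¬ B ≤ nf X (g • V)) : g • V ⊓ fx W B ≤ F := by
  rw [SetLike.not_le_iff_exists] at hg
  obtain ⟨b, hb, hbn⟩ := hg
  exact (inf_le_inf_left _ (fx_le_fe hb)).trans (fe_inf h hbn)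

/-- **(2)** `[V^g, N_B(V^g)] ≤ F` -/
theorem comm_le {g : X} (hg : ¬ B ≤ nf X (g • V)) {b : X} (hb : b ∈ B) (hbg : b ∈ nf X (g • V)) {v : W}
    (hv : v ∈ g • V) : b • v - v ∈ F := by
  apply fx_le h hg
  exact ⟨AddSubgroup.sub_mem _ (nf_smul hbg hv) hv, fun c hc => m.quad h b hb c hc v⟩

/-- `[W, B ∩ O₂(X)] ≤ F` -/
theorem comm_core (hgen : Gen X V) {b : X} (hb : b ∈ B) (hbQ : b ∈ pCore 2 X) (w : W) : b • w - w ∈ F := by
  let K : AddSubgroup W :=
    { carrier := {w | b • w - w ∈ F}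
      zero_mem' := by
        show b • (0 : W) - 0 ∈ F
        rw [smul_zero, sub_zero]; exact F.zero_mem
      add_mem' := fun {v w} hv hw => by
        show b • (v + w) - (v + w) ∈ F
        have e : b • (v + w) - (v + w) = (b • v - v) + (b • w - w) := by rw [smul_add]; abel
        rw [e]; exact F.add_mem hv hw
      neg_mem' := fun {v} hv => by
        show b • (-v) - (-v) ∈ F
        have e : b • (-v) - (-v) = -(b • v - v) := by rw [smul_neg]; abel
        rw [e]; exact F.neg_mem hv }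
  have h1 : (⨆ x : X, x • V) ≤ K := by
    refine iSup_le fun x => ?_
    intro v hv
    show b • v - v ∈ F
    by_cases hx : B ≤ nf X (x • V)
    · have h2 := h.bo_cent m.bo hx hb v hv
      rw [h2, sub_self]; exact F.zero_mem
    · exact m.comm_le h hx hb (h.core_nf x hbQ) hv
  rw [hgen] at h1
  exact h1 (AddSubgroup.mem_top w)

end MB

end Cfsg.Agent.Omega.NO3b.Exit.TT

end

section


/-!
# The second half of LOC (#18653, helper776), part 3: Schur's lemma for abelian groups with operators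

`A` : a finite irreducible `Y`-module (additive group), `class IsIrr Y A`.

* `KK Y A` : the finite field `End_Y(A)` (instances `Field`, `Finite`, `Module (KK Y A) A`, `SMulCommClass`);
* `HomY Y A W` : the additive group `Hom_Y(A, W)`, a `KK Y A`-space by `(κ f) a = f (κ a)`;
* `HomY.inj` : a nonzero element is injective; `HomY.ind` : `A ⊗ Hom_Y(A, W) → W` is injective, in the form
  `f i` linearly independent, `∑ f i (a i) = 0` implies `a i = 0`; `HomY.ind'` : the same with independent `a i`;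
* `HomY.fact` : if `f A ∩ g A ≠ 0` then `g ∈ K f`.
-/

set_option autoImplicit false

namespace Cfsg.Agent.Omega.NO3b.Exit.Ten

universe u v w

/-- `A` is an irreducible `Y`-module. -/
class IsIrr (Y : Type u) (A : Type v) [Group Y] [AddCommGroup A] [DistribMulAction Y A] : Prop where
  ne : ∃ a : A, a ≠ 0
  irr : ∀ N : AddSubgroup A, (∀ k : Y, ∀ n ∈ N, k • n ∈ N) → N = ⊥ ∨ N = ⊤

/-- `Hom_Y(A, W)` -/
def HomY (Y : Type u) (A : Type v) (W : Type w) [Group Y] [AddCommGroup A] [DistribMulAction Y A] [AddCommGroup W]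
    [DistribMulAction Y W] : AddSubgroup (A →+ W) where
  carrier := {f | ∀ (k : Y) (a : A), f (k • a) = k • f a}
  zero_mem' := fun k a => by simp
  add_mem' := fun {f g} hf hg k a => by
    rw [AddMonoidHom.add_apply, AddMonoidHom.add_apply, hf, hg, smul_add]
  neg_mem' := fun {f} hf k a => by
    rw [AddMonoidHom.neg_apply, AddMonoidHom.neg_apply, hf, smul_neg]

section homY

variable {Y : Type u} {A : Type v} {W : Type w} [Group Y] [AddCommGroup A] [DistribMulAction Y A] [AddCommGroup W]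
  [DistribMulAction Y W]

theorem mem_HomY {f : A →+ W} : f ∈ HomY Y A W ↔ ∀ (k : Y) (a : A), f (k • a) = k • f a := Iff.rfl

/-- a nonzero homomorphism from an irreducible module is injective -/
theorem inj_of_ne [hI : IsIrr Y A] {f : A →+ W} (hf : ∀ (k : Y) (a : A), f (k • a) = k • f a) (h0 : f ≠ 0) :
    Function.Injective f := by
  rcases hI.irr f.ker (fun k n hn => by
    rw [AddMonoidHom.mem_ker] at hn ⊢
    rw [hf, hn, smul_zero]) with h | h
  · exact (AddMonoidHom.ker_eq_bot_iff f).1 h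
  · exfalso
    apply h0
    ext a
    have : a ∈ f.ker := by rw [h]; trivial
    exact this

end homY

section field

variable (Y : Type u) (A : Type v) [Group Y] [AddCommGroup A] [DistribMulAction Y A]

/-- `End_Y(A)` -/
def EndY : Subring (AddMonoid.End A) where
  carrier := {f | ∀ (k : Y) (a : A), f (k • a) = k • f a}
  one_mem' := fun k a => rfl
  zero_mem' := fun k a => (smul_zero k).symm
  add_mem' := fun {f g} hf hg k a => by
    change f (k • a) + g (k • a) = k • (f a + g a)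
    rw [hf, hg, smul_add]
  neg_mem' := fun {f} hf k a => by
    change - f (k • a) = k • (- f a)
    rw [hf, smul_neg]
  mul_mem' := fun {f g} hf hg k a => by
    change f (g (k • a)) = k • (f (g a))
    rw [hg, hf]

/-- the field `End_Y(A)` -/
def KK : Type v := EndY Y A

variable [Finite A] [hI : IsIrr Y A]

instance : Finite (EndY Y A) :=
  Finite.of_injective (fun f => (f : AddMonoid.End A) : EndY Y A → A → A)
    fun _ _ h => Subtype.ext (DFunLike.coe_injective h)

instance : Finite (KK Y A) := inferInstanceAs (Finite (EndY Y A))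

theorem isField : IsField (EndY Y A) := by
  have hinj : ∀ f : EndY Y A, f ≠ 0 → Function.Injective (f : AddMonoid.End A) := by
    intro f hf
    exact inj_of_ne (Y := Y) (f := ((f : AddMonoid.End A) : A →+ A)) f.2 fun h => hf (Subtype.ext h)
  have hnt : Nontrivial (EndY Y A) := by
    obtain ⟨a, ha⟩ := hI.ne
    refine ⟨⟨0, 1, fun h => ha ?_⟩⟩
    have h1 : ((0 : EndY Y A) : AddMonoid.End A) a = ((1 : EndY Y A) : AddMonoid.End A) a := by rw [h]
    exact h1.symm
  have hnz : NoZeroDivisors (EndY Y A) := by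
    refine ⟨fun {f g} h => ?_⟩
    by_cases hf : f = 0
    · exact Or.inl hf
    · right
      apply Subtype.ext
      apply DFunLike.ext
      intro a
      refine hinj f hf ?_
      have h1 : ((f * g : EndY Y A) : AddMonoid.End A) a = ((0 : EndY Y A) : AddMonoid.End A) a := by rw [h]
      change (f : AddMonoid.End A) ((g : AddMonoid.End A) a) = (f : AddMonoid.End A) (0 : A)
      rw [map_zero]
      exact h1
  have : IsDomain (EndY Y A) := NoZeroDivisors.to_isDomain _
  exact Finite.isDomain_to_isField _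

@[irreducible] noncomputable def KK.fld : Field (KK Y A) := IsField.toField (R := EndY Y A) (isField Y A)

noncomputable instance : Field (KK Y A) := KK.fld Y A

variable {Y A}

theorem KK.val_one : ((1 : KK Y A).1 : AddMonoid.End A) = 1 := by with_unfolding_all rfl

theorem KK.val_zero : ((0 : KK Y A).1 : AddMonoid.End A) = 0 := by with_unfolding_all rfl

theorem KK.val_mul (x y : KK Y A) : ((x * y).1 : AddMonoid.End A) = x.1 * y.1 := by with_unfolding_all rfl

theorem KK.val_add (x y : KK Y A) : ((x + y).1 : AddMonoid.End A) = x.1 + y.1 := by with_unfolding_all rfl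

noncomputable instance : SMul (KK Y A) A := ⟨fun κ a => (κ.1 : AddMonoid.End A) a⟩

noncomputable instance : Module (KK Y A) A where
  one_smul a := by
    change ((1 : KK Y A).1 : AddMonoid.End A) a = a
    rw [KK.val_one]; rfl
  mul_smul x y a := by
    change ((x * y).1 : AddMonoid.End A) a = x.1 (y.1 a)
    rw [KK.val_mul]; rfl
  smul_zero κ := map_zero (κ.1 : AddMonoid.End A)
  smul_add κ a b := map_add (κ.1 : AddMonoid.End A) a b
  add_smul x y a := by
    change ((x + y).1 : AddMonoid.End A) a = x.1 a + y.1 a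
    rw [KK.val_add]; rfl
  zero_smul a := by
    change ((0 : KK Y A).1 : AddMonoid.End A) a = 0
    rw [KK.val_zero]; rfl

variable (Y A)

omit [Finite A] hI in
theorem KK.smul_def (κ : KK Y A) (a : A) : κ • a = (κ.1 : AddMonoid.End A) a := rfl

instance : SMulCommClass Y (KK Y A) A := ⟨fun k κ a => (κ.2 k a).symm⟩

instance : SMulCommClass (KK Y A) Y A := ⟨fun κ k a => κ.2 k a⟩

/-- an element of the field from a `Y`-endomorphism -/
def KK.mk (f : A →+ A) (hf : ∀ (k : Y) (a : A), f (k • a) = k • f a) : KK Y A := ⟨f, hf⟩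

omit [Finite A] hI in
theorem KK.mk_smul (f : A →+ A) (hf : ∀ (k : Y) (a : A), f (k • a) = k • f a) (a : A) :
    KK.mk Y A f hf • a = f a := rfl

end field

section module

variable {Y : Type u} {A : Type v} {W : Type w} [Group Y] [AddCommGroup A] [DistribMulAction Y A] [AddCommGroup W]
  [DistribMulAction Y W] [Finite A] [hI : IsIrr Y A]

omit [Finite A] hI in
theorem KK.smul_smul_comm (k : Y) (κ : KK Y A) (a : A) : κ • k • a = k • κ • a := κ.2 k a

noncomputable instance : SMul (KK Y A) (HomY Y A W) :=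
  ⟨fun κ f => ⟨(f : A →+ W).comp (κ.1 : AddMonoid.End A), fun k a => by
    change (f : A →+ W) (κ • k • a) = k • (f : A →+ W) (κ • a)
    rw [KK.smul_smul_comm, f.2]⟩⟩

omit [Finite A] hI in
theorem HomY.smul_apply (κ : KK Y A) (f : HomY Y A W) (a : A) :
    ((κ • f : HomY Y A W) : A →+ W) a = (f : A →+ W) (κ • a) := rfl

noncomputable instance : Module (KK Y A) (HomY Y A W) where
  one_smul f := by
    apply Subtype.ext
    ext a
    rw [HomY.smul_apply, one_smul]
  mul_smul κ l f := by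
    apply Subtype.ext
    ext a
    rw [HomY.smul_apply, HomY.smul_apply, HomY.smul_apply, smul_smul, mul_comm]
  smul_zero κ := rfl
  smul_add κ f g := rfl
  add_smul κ l f := by
    apply Subtype.ext
    ext a
    rw [AddSubgroup.coe_add, AddMonoidHom.add_apply, HomY.smul_apply, HomY.smul_apply, HomY.smul_apply, add_smul,
      map_add]
  zero_smul f := by
    apply Subtype.ext
    ext a
    rw [HomY.smul_apply, zero_smul, map_zero]
    rfl

omit [Finite A] in
theorem HomY.inj {f : HomY Y A W} (h0 : f ≠ 0) : Function.Injective (f : A →+ W) :=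
  inj_of_ne f.2 fun h => h0 (Subtype.ext h)

omit [Finite A] in
theorem HomY.eq_zero {f : HomY Y A W} {a : A} (h : (f : A →+ W) a = 0) (ha : a ≠ 0) : f = 0 := by
  by_contra hf
  exact ha (HomY.inj hf (h.trans (map_zero _).symm))

/-- if `f A ∩ g A ≠ 0` then `g ∈ K f` -/
theorem HomY.fact {f g : HomY Y A W} {a b : A} (hab : (f : A →+ W) a = (g : A →+ W) b) (ha : a ≠ 0) :
    ∃ κ : KK Y A, f = κ • g := by
  by_cases hg : g = 0
  · subst hg
    exact ⟨0, by rw [zero_smul]; exact HomY.eq_zero (hab.trans rfl) ha⟩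
  have hgi := HomY.inj hg
  let N : AddSubgroup A := ((g : A →+ W).range).comap (f : A →+ W)
  have hN : N = ⊤ := by
    rcases hI.irr N (fun k n hn => by
      obtain ⟨c, hc⟩ := hn
      refine ⟨k • c, ?_⟩
      rw [g.2, hc, f.2]) with h | h
    · exfalso
      apply ha
      have : a ∈ N := ⟨b, hab.symm⟩
      rw [h] at this
      exact this
    · exact h
  have h1 : ∀ x : A, ∃ c : A, (g : A →+ W) c = (f : A →+ W) x := fun x => by
    have : x ∈ N := by rw [hN]; trivial
    exact this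
  choose c hc using h1
  have hadd : ∀ x y : A, c (x + y) = c x + c y := fun x y => hgi (by rw [hc, map_add, map_add, hc, hc])
  refine ⟨KK.mk Y A (AddMonoidHom.mk' c hadd) (fun k x => hgi ?_), ?_⟩
  · change (g : A →+ W) (c (k • x)) = (g : A →+ W) (k • c x)
    rw [hc, f.2, g.2, hc]
  · apply Subtype.ext
    ext x
    exact (hc x).symm

/-- `A ⊗ Hom_Y(A, W) → W` is injective. -/
theorem HomY.ind {ι : Type*} {f : ι → HomY Y A W} (hf : LinearIndependent (KK Y A) f) (s : Finset ι) :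
    ∀ a : ι → A, ∑ i ∈ s, (f i : A →+ W) (a i) = 0 → ∀ i ∈ s, a i = 0 := by
  classical
  induction s using Finset.induction_on with
  | empty => intro a _ i hi; simp at hi
  | insert j s hj ih =>
    intro a h
    rw [Finset.sum_insert hj] at h
    by_cases h0 : a j = 0
    · rw [h0, map_zero, zero_add] at h
      intro i hi
      rcases Finset.mem_insert.1 hi with rfl | hi
      · exact h0
      · exact ih a h i hi
    exfalso
    let N : AddSubgroup A :=
      { carrier := {x | ∃ b : ι → A, (f j : A →+ W) x = ∑ i ∈ s, (f i : A →+ W) (b i)}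
        zero_mem' := ⟨0, by simp⟩
        add_mem' := by
          rintro x y ⟨b, hb⟩ ⟨c, hc⟩
          refine ⟨b + c, ?_⟩
          rw [map_add, hb, hc, ← Finset.sum_add_distrib]
          exact Finset.sum_congr rfl fun i _ => by rw [Pi.add_apply, map_add]
        neg_mem' := by
          rintro x ⟨b, hb⟩
          refine ⟨-b, ?_⟩
          rw [map_neg, hb, ← Finset.sum_neg_distrib]
          exact Finset.sum_congr rfl fun i _ => by rw [Pi.neg_apply, map_neg] }
    have hN : N = ⊤ := by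
      rcases hI.irr N (by
        rintro k x ⟨b, hb⟩
        refine ⟨fun i => k • b i, ?_⟩
        rw [(f j).2, hb, Finset.smul_sum]
        exact Finset.sum_congr rfl fun i _ => ((f i).2 k (b i)).symm) with h1 | h1
      · exfalso
        apply h0
        have : a j ∈ N := by
          refine ⟨-a, ?_⟩
          rw [eq_neg_of_add_eq_zero_left h, ← Finset.sum_neg_distrib]
          exact Finset.sum_congr rfl fun i _ => by rw [Pi.neg_apply, map_neg]
        rw [h1] at this
        exact this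
      · exact h1
    have h1 : ∀ x : A, ∃ b : ι → A, (f j : A →+ W) x = ∑ i ∈ s, (f i : A →+ W) (b i) := fun x => by
      have : x ∈ N := by rw [hN]; trivial
      exact this
    choose b hb using h1
    have huniq : ∀ c c' : ι → A, ∑ i ∈ s, (f i : A →+ W) (c i) = ∑ i ∈ s, (f i : A →+ W) (c' i) →
        ∀ i ∈ s, c i = c' i := by
      intro c c' hcc i hi
      have h2 := ih (c - c') (by
        have e : ∑ i ∈ s, (f i : A →+ W) ((c - c') i) =
            ∑ i ∈ s, (f i : A →+ W) (c i) - ∑ i ∈ s, (f i : A →+ W) (c' i) := by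
          rw [← Finset.sum_sub_distrib]
          exact Finset.sum_congr rfl fun i _ => by rw [Pi.sub_apply, map_sub]
        rw [e, hcc, sub_self]) i hi
      exact sub_eq_zero.1 h2
    have hadd : ∀ x y : A, ∀ i ∈ s, b (x + y) i = b x i + b y i := by
      intro x y
      refine huniq (b (x + y)) (fun i => b x i + b y i) ?_
      rw [← hb, map_add, hb, hb, ← Finset.sum_add_distrib]
      exact Finset.sum_congr rfl fun i _ => by rw [map_add]
    have hsm : ∀ (k : Y) (x : A), ∀ i ∈ s, b (k • x) i = k • b x i := by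
      intro k x
      refine huniq (b (k • x)) (fun i => k • b x i) ?_
      rw [← hb, (f j).2, hb, Finset.smul_sum]
      exact Finset.sum_congr rfl fun i _ => ((f i).2 k _).symm
    let κ : ι → KK Y A := fun i =>
      if hi : i ∈ s then KK.mk Y A (AddMonoidHom.mk' (fun x => b x i) fun x y => hadd x y i hi)
        fun k x => hsm k x i hi else 0
    have hκ : ∀ i ∈ s, ∀ x : A, κ i • x = b x i := by
      intro i hi x
      simp only [κ, dif_pos hi]
      rfl
    have hj' : f j = ∑ i ∈ s, κ i • f i := by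
      apply Subtype.ext
      ext x
      rw [hb, AddSubgroup.val_finsetSum, AddMonoidHom.finsetSum_apply]
      exact Finset.sum_congr rfl fun i hi => by rw [HomY.smul_apply, hκ i hi]
    rw [linearIndependent_iff'] at hf
    have h3 := hf (insert j s) (fun i => if i = j then 1 else - κ i) (by
      rw [Finset.sum_insert hj, if_pos rfl, one_smul]
      have e : ∑ i ∈ s, (if i = j then (1 : KK Y A) else - κ i) • f i = - ∑ i ∈ s, κ i • f i := by
        rw [← Finset.sum_neg_distrib]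
        refine Finset.sum_congr rfl fun i hi => ?_
        rw [if_neg (by rintro rfl; exact hj hi), neg_smul]
      rw [e, ← hj', add_neg_cancel]) j (Finset.mem_insert_self _ _)
    rw [if_pos rfl] at h3
    exact one_ne_zero h3

instance [Finite W] : Finite (HomY Y A W) :=
  Finite.of_injective (fun f => ((f : A →+ W) : A → W)) fun _ _ h => Subtype.ext (DFunLike.coe_injective h)

/-- `A ⊗ Hom_Y(A, W) → W` is injective, second form. -/
theorem HomY.ind' [Finite W] {ι : Type*} {a : ι → A} (ha : LinearIndependent (KK Y A) a) (s : Finset ι)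
    (f : ι → HomY Y A W) (h : ∑ i ∈ s, (f i : A →+ W) (a i) = 0) : ∀ i ∈ s, f i = 0 := by
  classical
  have hfin : Module.Finite (KK Y A) (HomY Y A W) := Module.Finite.of_finite
  let b := Module.finBasis (KK Y A) (HomY Y A W)
  have h1 : ∀ i, f i = ∑ j, b.repr (f i) j • b j := fun i => (b.sum_repr (f i)).symm
  have h2 : ∀ i, (f i : A →+ W) (a i) = ∑ j, (b j : A →+ W) (b.repr (f i) j • a i) := by
    intro i
    conv_lhs => rw [h1 i]
    rw [AddSubgroup.val_finsetSum, AddMonoidHom.finsetSum_apply]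
    exact Finset.sum_congr rfl fun j _ => HomY.smul_apply _ _ _
  have h3 : ∑ j, (b j : A →+ W) (∑ i ∈ s, b.repr (f i) j • a i) = 0 := by
    rw [← h]
    rw [Finset.sum_congr rfl fun i (_ : i ∈ s) => h2 i, Finset.sum_comm]
    exact Finset.sum_congr rfl fun j _ => map_sum _ _ _
  have h4 := HomY.ind b.linearIndependent Finset.univ _ h3
  intro i hi
  rw [h1 i]
  refine Finset.sum_eq_zero fun j _ => ?_
  rw [linearIndependent_iff'] at ha
  rw [ha s (fun i => b.repr (f i) j) (h4 j (Finset.mem_univ j)) i hi, zero_smul]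

end module

end Cfsg.Agent.Omega.NO3b.Exit.Ten

end

section


/-!
# The second half of LOC (#18653, helper776), part 4: `V₀ = A ⊗_K E`, abstract form

`Y` acts on the finite additive groups `A` (irreducible), `U ≥ C ≥ V ≥ F`; `β : A → Hom(U, V)`, `β a u = [u, a]`,
is additive and `β (k a) u = k β a u`, trivial on `C`; `A₀ ≤ A`; `Q ≤ Y` centralises `F`, `A₀`, `A / A₀`;
`[a, Q] = A₀`, `V = β(a, U) + F` and `β a u ∈ F ⇒ u ∈ C` for `a ∉ A₀` (`structure Mdl`).  `K = KK Y A = End_Y(A)`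
(a finite field), `E = HomY Y A U = Hom_Y(A, U)` (a `K`-space).

* `Mdl.val_inj` : `f a ∈ F`, `a ∉ A₀` implies `f = 0`; `Mdl.psi : U →+ E`; `psi_surj`, `psi_eq_zero` : `U / C = E`;
* `Mdl.smul_mem` : `A₀` is a `K`-subspace; `Mdl.line` : `A = K a + A₀` for `a ∉ A₀`;
* `Mdl.trans` : every `K`-transvection with axis `A₀` is induced by `Q`; `Mdl.axis`, `Mdl.trans'` : every
  transvection of `A` is induced by a conjugate of an element of `Q`;
* `Mdl.act` : **(8)** an automorphism of `U` normalising `Y`, trivial on `F`, acts on `V₀ = A ⊗ E` as `g ⊗ 1`, where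
  `g` is `K`-linear and trivial on `A₀`.
-/

set_option autoImplicit false

namespace Cfsg.Agent.Omega.NO3b.Exit.Ten

universe u v w

/-- The abstract situation. -/
structure Mdl {Y : Type u} {A : Type v} {U : Type w} [Group Y] [AddCommGroup A] [DistribMulAction Y A]
    [AddCommGroup U] [DistribMulAction Y U] (V F C : AddSubgroup U) (A₀ : AddSubgroup A) (Q : Subgroup Y)
    (β : A →+ U →+ U) : Prop where
  eq : ∀ (k : Y) (a : A) (u : U), β (k • a) u = k • β a u
  mem : ∀ a u, β a u ∈ V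
  inF : ∀ a ∈ A₀, ∀ u, β a u ∈ F
  bC : ∀ a, ∀ c ∈ C, β a c = 0
  faith : ∀ a, (∀ u, β a u = 0) → a = 0
  FV : F ≤ V
  VC : V ≤ C
  inC : ∀ a ∉ A₀, ∀ u, β a u ∈ F → u ∈ C
  span : ∀ a ∉ A₀, ∀ v ∈ V, ∃ u, v - β a u ∈ F
  yV : ∀ (k : Y) (u : U), k • u - u ∈ V
  qA : ∀ d ∈ Q, ∀ a ∈ A₀, d • a = a
  qF : ∀ d ∈ Q, ∀ f ∈ F, d • f = f
  qU : ∀ d ∈ Q, ∀ u : U, d • u - u ∈ F
  com : ∀ d ∈ Q, ∀ a, d • a - a ∈ A₀
  surj : ∀ a ∉ A₀, ∀ s ∈ A₀, ∃ d ∈ Q, d • a - a = s
  ne : ∃ s ∈ A₀, s ≠ 0
  nt : ∃ a, a ∉ A₀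

namespace Mdl

variable {Y : Type u} {A : Type v} {U : Type w} [Group Y] [AddCommGroup A] [DistribMulAction Y A]
  [AddCommGroup U] [DistribMulAction Y U] {V F C : AddSubgroup U} {A₀ : AddSubgroup A} {Q : Subgroup Y}
  {β : A →+ U →+ U}

/-- `ψ : U → E = Hom_Y(A, U)` -/
def psi (D : Mdl V F C A₀ Q β) : U →+ HomY Y A U where
  toFun u := ⟨AddMonoidHom.mk' (fun a => β a u) fun a b => by rw [map_add, AddMonoidHom.add_apply], fun k a => D.eq k a u⟩
  map_zero' := by
    apply Subtype.ext; ext a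
    exact map_zero (β a)
  map_add' u v := by
    apply Subtype.ext; ext a
    exact map_add (β a) u v

variable (D : Mdl V F C A₀ Q β)

theorem psi_apply (u : U) (a : A) : (D.psi u : A →+ U) a = β a u := rfl

include D

/-- `f a ∈ F`, `a ∉ A₀` implies `f = 0`. -/
theorem val_inj [IsIrr Y A] {f : HomY Y A U} {a : A} (ha : a ∉ A₀) (hf : (f : A →+ U) a ∈ F) : f = 0 := by
  obtain ⟨s, hs, hs0⟩ := D.ne
  obtain ⟨d, hd, rfl⟩ := D.surj a ha s hs
  refine HomY.eq_zero (a := d • a - a) ?_ hs0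
  rw [map_sub, f.2, D.qF d hd _ hf, sub_self]

/-- the values of `f ∈ E` lie in `V` -/
theorem val_mem [hI : IsIrr Y A] (f : HomY Y A U) (a : A) : (f : A →+ U) a ∈ V := by
  let N : AddSubgroup A := AddSubgroup.closure {x | ∃ (k : Y) (b : A), x = k • b - b}
  have hN : N = ⊤ := by
    rcases hI.irr N (fun k n hn => by
      have e : k • n = (k • n - n) + n := by abel
      rw [e]
      exact N.add_mem (AddSubgroup.subset_closure ⟨k, n, rfl⟩) hn) with h | h
    · exfalso
      obtain ⟨s, hs, hs0⟩ := D.ne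
      obtain ⟨b, hb⟩ := D.nt
      obtain ⟨d, hd, rfl⟩ := D.surj b hb s hs
      apply hs0
      have : d • b - b ∈ N := AddSubgroup.subset_closure ⟨d, b, rfl⟩
      rw [h] at this
      exact this
    · exact h
  have h1 : a ∈ N := by rw [hN]; trivial
  induction h1 using AddSubgroup.closure_induction with
  | mem x hx =>
    obtain ⟨k, b, rfl⟩ := hx
    rw [map_sub, f.2]
    exact D.yV k _
  | zero => rw [map_zero]; exact zero_mem _
  | add x y _ _ hx hy => rw [map_add]; exact V.add_mem hx hy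
  | neg x _ hx => rw [map_neg]; exact V.neg_mem hx

theorem psi_eq_zero {u : U} : D.psi u = 0 ↔ u ∈ C := by
  constructor
  · intro h
    obtain ⟨a, ha⟩ := D.nt
    refine D.inC a ha u ?_
    have h1 : (D.psi u : A →+ U) a = 0 := by rw [h]; rfl
    rw [psi_apply] at h1
    rw [h1]; exact zero_mem _
  · intro hu
    apply Subtype.ext; ext a
    exact D.bC a u hu

/-- `U / C = E` -/
theorem psi_surj [IsIrr Y A] (f : HomY Y A U) : ∃ u, D.psi u = f := by
  obtain ⟨a, ha⟩ := D.nt
  obtain ⟨u, hu⟩ := D.span a ha _ (D.val_mem f a)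
  refine ⟨u, ?_⟩
  have h1 : f - D.psi u = 0 := D.val_inj ha (by
    rw [AddSubgroup.coe_sub, AddMonoidHom.sub_apply, psi_apply]
    exact hu)
  exact (sub_eq_zero.1 h1).symm

/-- `E → V / F`, `f ↦ f a`, is bijective. -/
theorem val_surj [IsIrr Y A] {a : A} (ha : a ∉ A₀) {v : U} (hv : v ∈ V) :
    ∃ f : HomY Y A U, v - (f : A →+ U) a ∈ F := by
  obtain ⟨u, hu⟩ := D.span a ha v hv
  exact ⟨D.psi u, hu⟩

theorem exists_ne : ∃ f : HomY Y A U, f ≠ 0 := by
  obtain ⟨s, -, hs0⟩ := D.ne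
  by_contra hcon
  push Not at hcon
  apply hs0
  refine D.faith s fun u => ?_
  rw [← D.psi_apply, hcon (D.psi u)]
  rfl

variable [Finite A] [hI : IsIrr Y A]

/-- `A₀` is a `K`-subspace -/
theorem smul_mem (κ : KK Y A) {s : A} (hs : s ∈ A₀) : κ • s ∈ A₀ := by
  by_contra hcon
  obtain ⟨t, ht, ht0⟩ := D.ne
  obtain ⟨d, hd, rfl⟩ := D.surj _ hcon t ht
  apply ht0
  rw [smul_comm, ← smul_sub, D.qA d hd s hs, sub_self, smul_zero]

/-- `A₀` as a `K`-subspace -/
def sub : Submodule (KK Y A) A where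
  carrier := A₀
  zero_mem' := zero_mem _
  add_mem' := fun ha hb => A₀.add_mem ha hb
  smul_mem' := fun κ _ hs => D.smul_mem κ hs

theorem mem_sub {a : A} : a ∈ D.sub ↔ a ∈ A₀ := Iff.rfl

/-- `A = K a + A₀` -/
theorem line {a b : A} (ha : a ∉ A₀) : ∃ κ : KK Y A, b - κ • a ∈ A₀ := by
  by_cases hb : b ∈ A₀
  · exact ⟨0, by rwa [zero_smul, sub_zero]⟩
  obtain ⟨f, hf⟩ := D.exists_ne
  obtain ⟨g, hg⟩ := D.val_surj ha (D.val_mem f b)
  obtain ⟨s, hs, hs0⟩ := D.ne
  obtain ⟨d, hd, rfl⟩ := D.surj b hb s hs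
  have h1 : (f : A →+ U) (d • b - b) = (g : A →+ U) (d • a - a) := by
    rw [map_sub, map_sub, f.2, g.2]
    have h2 := D.qF d hd _ hg
    rw [smul_sub] at h2
    rw [sub_eq_sub_iff_sub_eq_sub, h2]
  obtain ⟨κ, hκ⟩ := HomY.fact h1 hs0
  have hκ0 : κ ≠ 0 := by
    rintro rfl
    rw [zero_smul] at hκ
    exact hf hκ
  refine ⟨κ⁻¹, ?_⟩
  by_contra hcon
  apply hf
  refine D.val_inj hcon ?_
  have h3 : (f : A →+ U) (κ⁻¹ • a) = (g : A →+ U) a := by
    rw [hκ, HomY.smul_apply, smul_smul, mul_inv_cancel₀ hκ0, one_smul]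
  rw [map_sub, h3]
  exact hg

/-- every transvection with axis `A₀` is induced by `Q`. -/
theorem trans (φ : A →ₗ[KK Y A] A) (h1 : ∀ a, φ a ∈ A₀) (h2 : ∀ s ∈ A₀, φ s = 0) :
    ∃ d ∈ Q, ∀ a, d • a = a + φ a := by
  obtain ⟨a, ha⟩ := D.nt
  obtain ⟨d, hd, hda⟩ := D.surj a ha _ (h1 a)
  refine ⟨d, hd, fun b => ?_⟩
  obtain ⟨κ, hκ⟩ := D.line (b := b) ha
  have e : b = κ • a + (b - κ • a) := by abel
  have h3 := D.qA d hd _ hκ
  have h4 : d • (κ • a) = κ • a + κ • φ a := by
    rw [smul_comm, ← hda, ← smul_add]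
    congr 1
    abel
  have h5 : φ b = κ • φ a := by
    conv_lhs => rw [e]
    rw [map_add, map_smul, h2 _ hκ, add_zero]
  conv_lhs => rw [e]
  rw [smul_add, h3, h4, h5]
  abel

/-- `Q` acts on `A` as a group of transvections with axis `A₀`. -/
theorem exists_trans {d : Y} (hd : d ∈ Q) : ∃ φ : A →ₗ[KK Y A] A, (∀ a, φ a ∈ A₀) ∧ (∀ s ∈ A₀, φ s = 0) ∧
    ∀ a, d • a = a + φ a := by
  refine ⟨{ toFun := fun a => d • a - a, map_add' := fun a b => by rw [smul_add]; abel,
            map_smul' := fun κ a => by rw [RingHom.id_apply, smul_comm, ← smul_sub] }, ?_, ?_, ?_⟩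
  · exact fun a => D.com d hd a
  · intro s hs
    change d • s - s = 0
    rw [D.qA d hd s hs, sub_self]
  · intro a
    change d • a = a + (d • a - a)
    abel

/-- **(8)** -/
theorem act [Finite U] (μ : U →+ U) (hμ : Function.Injective μ) (h1 : ∀ k : Y, ∃ k' : Y, ∀ u, μ (k • u) = k' • μ u)
    (h2 : ∀ k' : Y, ∃ k : Y, ∀ u, μ (k • u) = k' • μ u) (hF : ∀ f ∈ F, μ f = f) :
    ∃ g : A →ₗ[KK Y A] A, Function.Injective g ∧ (∀ s ∈ A₀, g s = s) ∧
      ∀ (f : HomY Y A U) (a : A), μ ((f : A →+ U) a) = (f : A →+ U) (g a) := by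
  classical
  obtain ⟨s₀, hs₀, hs0⟩ := D.ne
  have hfF : ∀ (f : HomY Y A U) {s : A}, s ∈ A₀ → (f : A →+ U) s ∈ F := by
    intro f s hs
    obtain ⟨u, rfl⟩ := D.psi_surj f
    exact D.inF s hs u
  -- `μ f A ≤ f A`
  have h3 : ∀ (f : HomY Y A U) (a : A), ∃ b : A, μ ((f : A →+ U) a) = (f : A →+ U) b := by
    intro f
    let N : AddSubgroup A := ((f : A →+ U).range).comap (μ.comp (f : A →+ U))
    have hN : N = ⊤ := by
      rcases hI.irr N (fun k n hn => by
        obtain ⟨b, hb⟩ := hn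
        obtain ⟨k', hk'⟩ := h1 k
        refine ⟨k' • b, ?_⟩
        rw [f.2, hb, AddMonoidHom.comp_apply, AddMonoidHom.comp_apply, f.2, hk']) with h | h
      · exfalso
        apply hs0
        have : s₀ ∈ N := ⟨s₀, (hF _ (hfF f hs₀)).symm⟩
        rw [h] at this
        exact this
      · exact h
    intro a
    have : a ∈ N := by rw [hN]; trivial
    obtain ⟨b, hb⟩ := this
    exact ⟨b, hb.symm⟩
  choose G hG using h3
  have hGadd : ∀ (f : HomY Y A U), f ≠ 0 → ∀ a b, G f (a + b) = G f a + G f b := fun f hf a b =>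
    HomY.inj hf (by rw [← hG, map_add, map_add, map_add, ← hG, ← hG])
  have hGA : ∀ (f : HomY Y A U), f ≠ 0 → ∀ s ∈ A₀, G f s = s := fun f hf s hs =>
    HomY.inj hf (by rw [← hG, hF _ (hfF f hs)])
  -- commutation with `K`
  have hGK : ∀ (f : HomY Y A U), f ≠ 0 → ∀ (κ : KK Y A) a, G f (κ • a) = κ • G f a := by
    intro f hf κ
    let g : A →+ A := AddMonoidHom.mk' (G f) (hGadd f hf)
    have hgi : Function.Injective g := by
      intro a b hab
      have hab' : G f a = G f b := hab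
      exact HomY.inj hf (hμ (by rw [hG, hG, hab']))
    have hgb : Function.Bijective g := ⟨hgi, Finite.injective_iff_surjective.1 hgi⟩
    obtain ⟨r, hr⟩ := hgb.2.hasRightInverse
    have hr' : ∀ a, r (g a) = a := fun a => hgi (hr _)
    have hradd : ∀ a b, r (a + b) = r a + r b := fun a b => hgi (by rw [hr, map_add, hr, hr])
    have hgk : ∀ k : Y, ∃ k₁ : Y, ∀ a, g (k₁ • a) = k • g a := by
      intro k
      obtain ⟨k₁, hk₁⟩ := h2 k
      refine ⟨k₁, fun a => HomY.inj hf ?_⟩
      change (f : A →+ U) (G f (k₁ • a)) = (f : A →+ U) (k • G f a)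
      rw [← hG, f.2, f.2, hk₁, hG]
    have hrk : ∀ k : Y, ∃ k₁ : Y, (∀ a, g (k₁ • a) = k • g a) ∧ ∀ a, r (k • a) = k₁ • r a := by
      intro k
      obtain ⟨k₁, hk₁⟩ := hgk k
      exact ⟨k₁, hk₁, fun a => hgi (by rw [hr, hk₁, hr])⟩
    let κ' : KK Y A := KK.mk Y A (AddMonoidHom.mk' (fun a => g (κ • r a)) fun a b => by
      rw [hradd, smul_add, map_add]) fun k a => by
        obtain ⟨k₁, hk₁, hk₁'⟩ := hrk k
        change g (κ • r (k • a)) = k • g (κ • r a)
        rw [hk₁', KK.smul_smul_comm, hk₁]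
    have hκ' : ∀ a, κ' • a = g (κ • r a) := fun a => rfl
    have hrs : r s₀ = s₀ := hgi (by rw [hr]; exact (hGA f hf s₀ hs₀).symm)
    have h5 : κ' • s₀ = κ • s₀ := by
      rw [hκ', hrs]
      exact hGA f hf _ (D.smul_mem κ hs₀)
    have h6 : κ' = κ := by
      by_contra hne
      apply hs0
      have h7 : (κ' - κ) • s₀ = 0 := by rw [sub_smul, h5, sub_self]
      have h8 : (κ' - κ) ≠ 0 := sub_ne_zero.2 hne
      rw [← one_smul (KK Y A) s₀, ← inv_mul_cancel₀ h8, mul_smul, h7, smul_zero]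
    intro a
    have h9 := hκ' (g a)
    rw [h6, hr'] at h9
    exact h9.symm
  -- all `G f` are equal
  obtain ⟨f₀, hf₀⟩ := D.exists_ne
  have hall : ∀ f : HomY Y A U, f ≠ 0 → ∀ a, G f a = G f₀ a := by
    intro f hf a
    by_cases hdep : ∃ κ : KK Y A, f = κ • f₀
    · obtain ⟨κ, hκ⟩ := hdep
      apply HomY.inj hf
      rw [← hG, hκ, HomY.smul_apply, HomY.smul_apply, hG, hGK f₀ hf₀]
    · have hli : LinearIndependent (KK Y A) ![f, f₀] := by
        rw [LinearIndependent.pair_iff]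
        intro x y hxy
        have hx : x = 0 := by
          by_contra hx
          apply hdep
          refine ⟨-(x⁻¹ * y), ?_⟩
          rw [neg_smul, mul_smul, eq_neg_of_add_eq_zero_right hxy, smul_neg, neg_neg, smul_smul,
            inv_mul_cancel₀ hx, one_smul]
        refine ⟨hx, ?_⟩
        by_contra hy
        rw [hx, zero_smul, zero_add] at hxy
        apply hf₀
        rw [← one_smul (KK Y A) f₀, ← inv_mul_cancel₀ hy, mul_smul, hxy, smul_zero]
      have hsum : f + f₀ ≠ 0 := by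
        intro h0
        apply hdep
        exact ⟨-1, by rw [neg_smul, one_smul]; exact eq_neg_of_add_eq_zero_left h0⟩
      have h4 := HomY.ind hli Finset.univ ![G (f + f₀) a - G f a, G (f + f₀) a - G f₀ a] (by
        rw [Fin.sum_univ_two]
        simp only [Matrix.cons_val_zero, Matrix.cons_val_one]
        have h5 := hG (f + f₀) a
        rw [AddSubgroup.coe_add, AddMonoidHom.add_apply, map_add, hG, hG, AddMonoidHom.add_apply] at h5
        rw [map_sub, map_sub]
        rw [sub_add_sub_comm, ← h5, sub_self])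
      have h6 := h4 0 (Finset.mem_univ _)
      have h7 := h4 1 (Finset.mem_univ _)
      simp only [Matrix.cons_val_zero, Matrix.cons_val_one] at h6 h7
      rw [← sub_eq_zero.1 h6, sub_eq_zero.1 h7]
  refine ⟨{ toFun := G f₀, map_add' := hGadd f₀ hf₀, map_smul' := fun κ a => hGK f₀ hf₀ κ a }, ?_, ?_, ?_⟩
  · intro a b hab
    have hab' : G f₀ a = G f₀ b := hab
    exact HomY.inj hf₀ (hμ (by rw [hG, hG, hab']))
  · exact fun s hs => hGA f₀ hf₀ s hs
  · intro f a
    change μ ((f : A →+ U) a) = (f : A →+ U) (G f₀ a)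
    by_cases hf : f = 0
    · rw [hf]
      change μ 0 = 0
      exact map_zero μ
    · rw [hG, hall f hf]

/-- `A / A₀ = K`: the functional with kernel `A₀` -/
theorem exists_dual : ∃ φ : Module.Dual (KK Y A) A, φ ≠ 0 ∧ ∀ a, φ a = 0 ↔ a ∈ A₀ := by
  obtain ⟨a, ha⟩ := D.nt
  have huniq : ∀ κ κ' : KK Y A, ∀ b, b - κ • a ∈ A₀ → b - κ' • a ∈ A₀ → κ = κ' := by
    intro κ κ' b h1 h2
    by_contra hne
    have h3 : κ - κ' ≠ 0 := sub_ne_zero.2 hne
    apply ha
    have h4 : (κ - κ') • a ∈ A₀ := by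
      have e : (κ - κ') • a = (b - κ' • a) - (b - κ • a) := by rw [sub_smul]; abel
      rw [e]
      exact A₀.sub_mem h2 h1
    have h5 := D.smul_mem (κ - κ')⁻¹ h4
    rwa [smul_smul, inv_mul_cancel₀ h3, one_smul] at h5
  have h1 : ∀ b, ∃ κ : KK Y A, b - κ • a ∈ A₀ := fun b => D.line ha
  choose c hc using h1
  let φ : Module.Dual (KK Y A) A :=
    { toFun := c
      map_add' := fun x y => huniq _ _ (x + y) (hc _) (by
        have e : x + y - (c x + c y) • a = (x - c x • a) + (y - c y • a) := by rw [add_smul]; abel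
        rw [e]
        exact A₀.add_mem (hc x) (hc y))
      map_smul' := fun κ x => huniq _ _ (κ • x) (hc _) (by
        rw [RingHom.id_apply, smul_eq_mul, mul_smul, ← smul_sub]
        exact D.smul_mem κ (hc x)) }
  have hφ : ∀ x, φ x = c x := fun _ => rfl
  refine ⟨φ, ?_, ?_⟩
  · intro h
    have h2 := hc a
    rw [← hφ, h, LinearMap.zero_apply, zero_smul, sub_zero] at h2
    exact ha h2
  · intro x
    rw [hφ]
    constructor
    · intro h
      have h2 := hc x
      rwa [h, zero_smul, sub_zero] at h2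
    · intro h
      exact huniq _ _ x (hc x) (by rwa [zero_smul, sub_zero])

/-- a transvection whose axis is a conjugate of `A₀` -/
theorem trans_of {k : Y} {φ : Module.Dual (KK Y A) A} (h1 : ∀ a, φ a = 0 ↔ k⁻¹ • a ∈ A₀) {a : A} (ha : φ a = 0) :
    ∃ d ∈ Q, ∀ x, (k * d * k⁻¹) • x = x + φ x • a := by
  let χ : A →ₗ[KK Y A] A :=
    { toFun := fun x => φ (k • x) • (k⁻¹ • a)
      map_add' := fun x y => by rw [smul_add, map_add, add_smul]
      map_smul' := fun κ x => by
        rw [RingHom.id_apply, smul_comm k κ x, map_smul, smul_eq_mul, mul_smul] }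
  have hχ : ∀ x, χ x = φ (k • x) • (k⁻¹ • a) := fun _ => rfl
  obtain ⟨d, hd, hd'⟩ := D.trans χ (fun x => by
    rw [hχ]
    exact D.smul_mem _ ((h1 a).1 ha)) (fun s hs => by
    rw [hχ, (h1 (k • s)).2 (by rwa [inv_smul_smul]), zero_smul])
  refine ⟨d, hd, fun x => ?_⟩
  rw [mul_smul, mul_smul, hd', hχ, smul_add, smul_inv_smul, smul_comm k (φ x) (k⁻¹ • a), smul_inv_smul]

/-- every hyperplane is a conjugate of `A₀` -/
theorem axis {φ : Module.Dual (KK Y A) A} (hφ : φ ≠ 0) : ∃ k : Y, ∀ a, φ a = 0 ↔ k⁻¹ • a ∈ A₀ := by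
  classical
  have hadd : ∀ φ χ : Module.Dual (KK Y A) A, (∃ k : Y, ∀ a, φ a = 0 ↔ k⁻¹ • a ∈ A₀) →
      (∃ k : Y, ∀ a, χ a = 0 ↔ k⁻¹ • a ∈ A₀) → (∃ a, φ a = 0 ∧ χ a ≠ 0) →
      ∃ k : Y, ∀ a, (φ + χ) a = 0 ↔ k⁻¹ • a ∈ A₀ := by
    rintro φ χ ⟨k, hk⟩ ⟨l, hl⟩ ⟨a, ha, ha'⟩
    obtain ⟨d, -, hd⟩ := D.trans_of hk (a := (χ a)⁻¹ • a) (by rw [map_smul, ha, smul_zero])
    refine ⟨(k * d * k⁻¹)⁻¹ * l, fun x => ?_⟩
    have h1 : χ ((k * d * k⁻¹) • x) = (φ + χ) x := by
      rw [hd, map_add, map_smul, map_smul, smul_eq_mul, smul_eq_mul, inv_mul_cancel₀ ha', mul_one, add_comm]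
      rfl
    rw [← h1, hl, mul_inv_rev, inv_inv, mul_smul l⁻¹]
  obtain ⟨φ₀, hφ₀, hφ₀'⟩ := D.exists_dual
  let Λ : Submodule (KK Y A) (Module.Dual (KK Y A) A) :=
    { carrier := {φ | φ = 0 ∨ ∃ k : Y, ∀ a, φ a = 0 ↔ k⁻¹ • a ∈ A₀}
      zero_mem' := Or.inl rfl
      smul_mem' := by
        rintro κ φ (rfl | ⟨k, hk⟩)
        · left; exact smul_zero κ
        · by_cases hκ : κ = 0
          · left; rw [hκ]; exact zero_smul (KK Y A) φ
          · right
            refine ⟨k, fun a => ?_⟩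
            rw [LinearMap.smul_apply, smul_eq_mul, mul_eq_zero, or_iff_right hκ, hk]
      add_mem' := by
        rintro φ χ (rfl | h1) (rfl | h2)
        · left; exact add_zero 0
        · right; rw [zero_add]; exact h2
        · right; rw [add_zero]; exact h1
        · by_cases hx : ∃ a, φ a = 0 ∧ χ a ≠ 0
          · right; exact hadd φ χ h1 h2 hx
          · push Not at hx
            by_cases hs : φ + χ = 0
            · left; exact hs
            · right
              obtain ⟨k, hk⟩ := h1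
              refine ⟨k, fun a => ?_⟩
              rw [← hk]
              constructor
              · intro ha
                by_contra hne
                apply hs
                -- `x - (φ a)⁻¹ φ x • a ∈ ker φ ≤ ker (φ + χ)`
                ext x
                have h3 : φ (x - (φ x * (φ a)⁻¹) • a) = 0 := by
                  rw [map_sub, map_smul, smul_eq_mul, mul_assoc, inv_mul_cancel₀ hne, mul_one, sub_self]
                have h4 : (φ + χ) (x - (φ x * (φ a)⁻¹) • a) = 0 := by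
                  rw [LinearMap.add_apply, h3, hx _ h3, add_zero]
                rw [map_sub, map_smul, ha, smul_zero, sub_zero] at h4
                rw [h4]; rfl
              · intro ha
                rw [LinearMap.add_apply, ha, hx _ ha, add_zero] }
  have hΛ : Λ.dualCoannihilator = ⊥ := by
    let N : AddSubgroup A :=
      { carrier := {a | ∀ φ ∈ Λ, φ a = 0}
        zero_mem' := fun φ _ => map_zero φ
        add_mem' := fun {a b} ha hb φ hφ => by rw [map_add, ha φ hφ, hb φ hφ, add_zero]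
        neg_mem' := fun {a} ha φ hφ => by rw [map_neg, ha φ hφ, neg_zero] }
    have hN : N = ⊥ := by
      rcases hI.irr N (by
        intro k n hn φ hφ
        let φ' : Module.Dual (KK Y A) A :=
          { toFun := fun x => φ (k • x)
            map_add' := fun x y => by rw [smul_add, map_add]
            map_smul' := fun κ x => by rw [RingHom.id_apply, smul_comm k κ x, map_smul] }
        have h1 : φ' ∈ Λ := by
          rcases hφ with rfl | ⟨l, hl⟩
          · left; rfl
          · right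
            refine ⟨k⁻¹ * l, fun a => ?_⟩
            change φ (k • a) = 0 ↔ _
            rw [hl, mul_inv_rev, inv_inv, mul_smul]
        exact hn φ' h1) with h | h
      · exact h
      · exfalso
        apply hφ₀
        ext x
        have h1 : x ∈ N := by rw [h]; trivial
        exact h1 φ₀ (Or.inr ⟨1, fun a => by rw [inv_one, one_smul, hφ₀']⟩)
    rw [eq_bot_iff]
    intro a ha
    rw [Submodule.mem_dualCoannihilator] at ha
    have h1 : a ∈ N := ha
    rw [hN] at h1
    exact h1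
  have hfin : Module.Finite (KK Y A) A := Module.Finite.of_finite
  have hT : Λ = ⊤ := by
    rw [← Subspace.dualCoannihilator_dualAnnihilator_eq (W := Λ), hΛ, Submodule.dualAnnihilator_bot]
  have h1 : φ ∈ Λ := by rw [hT]; trivial
  exact h1.resolve_left hφ

/-- every transvection is induced by a conjugate of an element of `Q` -/
theorem trans' (φ : Module.Dual (KK Y A) A) {a : A} (ha : φ a = 0) :
    ∃ k : Y, ∃ d ∈ Q, ∀ x, (k * d * k⁻¹) • x = x + φ x • a := by
  by_cases hφ : φ = 0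
  · exact ⟨1, 1, one_mem _, fun x => by rw [hφ, LinearMap.zero_apply, zero_smul, add_zero]; simp⟩
  · obtain ⟨k, hk⟩ := D.axis hφ
    obtain ⟨d, hd, h⟩ := D.trans_of hk ha
    exact ⟨k, d, hd, h⟩

omit [Finite A] in
/-- `V = f(a) + F` -/
theorem V_span {v : U} (hv : v ∈ V) : ∃ (a : A) (f : HomY Y A U), v - (f : A →+ U) a ∈ F := by
  obtain ⟨a, ha⟩ := D.nt
  obtain ⟨f, hf⟩ := D.val_surj ha hv
  exact ⟨a, f, hf⟩

/-- **(8)**, 2-elements. -/
theorem act_two [Finite U] (two : ∀ a : A, a + a = 0) (μ : U →+ U) (hμ : Function.Injective μ)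
    (h1 : ∀ k : Y, ∃ k' : Y, ∀ u, μ (k • u) = k' • μ u)
    (h2 : ∀ k' : Y, ∃ k : Y, ∀ u, μ (k • u) = k' • μ u) (hF : ∀ f ∈ F, μ f = f) {j : ℕ}
    (hj : ∀ v ∈ V, μ^[2 ^ j] v = v) : ∃ d ∈ Q, ∀ v ∈ V, μ v = d • v := by
  obtain ⟨g, hgi, hgA, hg⟩ := D.act μ hμ h1 h2 hF
  obtain ⟨a, ha⟩ := D.nt
  obtain ⟨f₀, hf₀⟩ := D.exists_ne
  have ha0 : a ≠ 0 := fun h => ha (by rw [h]; exact zero_mem _)
  have hc2 : (1 : KK Y A) + 1 = 0 := by
    by_contra hne
    apply ha0
    have h3 : ((1 : KK Y A) + 1) • a = 0 := by rw [add_smul, one_smul, two]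
    rw [← one_smul (KK Y A) a, ← inv_mul_cancel₀ hne, mul_smul, h3, smul_zero]
  have hchar : CharP (KK Y A) 2 := by
    have : ((2 : ℕ) : KK Y A) = 0 := by rw [Nat.cast_ofNat, ← one_add_one_eq_two, hc2]
    exact CharTwo.of_one_ne_zero_of_two_eq_zero one_ne_zero (by rw [← one_add_one_eq_two, hc2])
  have hgn : ∀ (n : ℕ) (f : HomY Y A U) (x : A), μ^[n] ((f : A →+ U) x) = (f : A →+ U) (g^[n] x) := by
    intro n f
    induction n with
    | zero => intro x; rfl
    | succ n ih => intro x; rw [Function.iterate_succ_apply', ih, hg, Function.iterate_succ_apply']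
  have hgj : ∀ x, g^[2 ^ j] x = x := fun x =>
    HomY.inj hf₀ (by rw [← hgn, hj _ (D.val_mem f₀ x)])
  obtain ⟨c, hc⟩ := D.line (b := g a) ha
  have hcn : ∀ n : ℕ, g^[n] a - c ^ n • a ∈ A₀ := by
    intro n
    induction n with
    | zero => rw [Function.iterate_zero, pow_zero, one_smul, id, sub_self]; exact zero_mem _
    | succ n ih =>
      rw [Function.iterate_succ_apply']
      have e : g (g^[n] a) - c ^ (n + 1) • a = (g^[n] a - c ^ n • a) + c ^ n • (g a - c • a) := by
        have e1 : g (g^[n] a - c ^ n • a) = g^[n] a - c ^ n • a := hgA _ ih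
        rw [map_sub, map_smul] at e1
        rw [smul_sub, smul_smul, ← pow_succ, ← e1]
        abel
      rw [e]
      exact A₀.add_mem ih (D.smul_mem _ hc)
  have hc1 : c = 1 := by
    have h3 := hcn (2 ^ j)
    rw [hgj] at h3
    have h4 : (1 - c ^ 2 ^ j) • a ∈ A₀ := by rw [sub_smul, one_smul]; exact h3
    have h5 : 1 - c ^ 2 ^ j = 0 := by
      by_contra hne
      apply ha
      have h6 := D.smul_mem (1 - c ^ 2 ^ j)⁻¹ h4
      rwa [smul_smul, inv_mul_cancel₀ hne, one_smul] at h6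
    have : Fact (Nat.Prime 2) := ⟨Nat.prime_two⟩
    have h6 : (1 - c) ^ 2 ^ j = 0 := by rw [sub_pow_char_pow, one_pow, h5]
    exact (sub_eq_zero.1 (pow_eq_zero_iff (pow_ne_zero j two_ne_zero) |>.1 h6)).symm
  have hgA' : ∀ x, g x - x ∈ A₀ := by
    intro x
    obtain ⟨κ, hκ⟩ := D.line (b := x) ha
    rw [hc1, one_smul] at hc
    have e : g x - x = (g (x - κ • a) - (x - κ • a)) + κ • (g a - a) := by
      rw [map_sub, map_smul, smul_sub]; abel
    rw [e, hgA _ hκ, sub_self, zero_add]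
    exact D.smul_mem κ hc
  obtain ⟨d, hd, hd'⟩ := D.trans (g - LinearMap.id) (fun x => by
    rw [LinearMap.sub_apply, LinearMap.id_apply]; exact hgA' x) (fun s hs => by
    rw [LinearMap.sub_apply, LinearMap.id_apply, hgA s hs, sub_self])
  refine ⟨d, hd, fun v hv => ?_⟩
  obtain ⟨x, f, hf⟩ := D.V_span hv
  have e : v = (f : A →+ U) x + (v - (f : A →+ U) x) := by abel
  have h3 : g x = d • x := by rw [hd', LinearMap.sub_apply, LinearMap.id_apply]; abel
  rw [e, map_add, smul_add, hF _ hf, D.qF d hd _ hf, hg, h3, f.2]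

end Mdl

end Cfsg.Agent.Omega.NO3b.Exit.Ten

end

section


/-!
# LEMMA DESCENT (helper255, bb 20076): `V₀ = U₁^k`, equivariantly

A group `H` acts on a finite additive group `V` of exponent 2, `X ≤ H` is normalised by the 2-group `S`,
`Z = C_V(S)`, `V = ⟨Z^X⟩`, and all `z ∈ Z#` have the same annihilator in the ring `ring X` generated by `X` in
`End V`.

* `orb X z` : the `X`-submodule generated by `z`;
* `Dat.irr` : `orb X z` is an irreducible `⟨X, S⟩`-module;
* `Dat.exists_iso` : for `z, z' ∈ Z#` there is an `X`- and `S`-equivariant isomorphism `orb X z ≃ orb X z'` which maps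
  `z` to `z'`;
* `Dat.exists_fam` : `V` is the direct sum of `orb X z`, `z ∈ F ⊆ Z#`;
* `Dat.exists_pow` : `V = U₁^k`, `X`- and `S`-equivariantly.
-/

set_option autoImplicit false

namespace Cfsg.Agent.Omega.NO3b.Exit.Descent

open Subgroup

universe u v

section base

variable {H : Type u} {V : Type v} [Group H] [AddCommGroup V] [DistribMulAction H V]

/-- `v ↦ x v` -/
def op (V : Type v) [AddCommGroup V] [DistribMulAction H V] (x : H) : AddMonoid.End V :=
  DistribMulAction.toAddMonoidEnd H V x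

theorem op_apply (x : H) (v : V) : op V x v = x • v := rfl

theorem op_mul (x y : H) : op V (x * y) = op V x * op V y := map_mul _ x y

theorem op_one : op V (1 : H) = 1 := map_one _

/-- the ring generated by `X` in `End V` -/
def ring (V : Type v) [AddCommGroup V] [DistribMulAction H V] (X : Subgroup H) :
    AddSubgroup (AddMonoid.End V) :=
  AddSubgroup.closure {a | ∃ x ∈ X, a = op V x}

theorem op_mem {X : Subgroup H} {x : H} (hx : x ∈ X) : op V x ∈ ring V X :=
  AddSubgroup.subset_closure ⟨x, hx, rfl⟩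

theorem one_mem' (X : Subgroup H) : (1 : AddMonoid.End V) ∈ ring V X := by
  rw [← op_one (H := H)]; exact op_mem X.one_mem

theorem op_mul_mem {X : Subgroup H} {x : H} (hx : x ∈ X) {a : AddMonoid.End V} (ha : a ∈ ring V X) :
    op V x * a ∈ ring V X := by
  have h : ring V X ≤ (ring V X).comap (AddMonoidHom.mulLeft (op V x)) := by
    refine (AddSubgroup.closure_le _).2 ?_
    rintro _ ⟨y, hy, rfl⟩
    change op V x * op V y ∈ ring V X
    rw [← op_mul]
    exact op_mem (X.mul_mem hx hy)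
  exact h ha

theorem conj_mem {X : Subgroup H} {s : H} (hs : ∀ x ∈ X, s * x * s⁻¹ ∈ X) {a : AddMonoid.End V}
    (ha : a ∈ ring V X) : op V s * a * op V s⁻¹ ∈ ring V X := by
  have h : ring V X ≤ (ring V X).comap
      ((AddMonoidHom.mulRight (op V s⁻¹)).comp (AddMonoidHom.mulLeft (op V s))) := by
    refine (AddSubgroup.closure_le _).2 ?_
    rintro _ ⟨y, hy, rfl⟩
    change op V s * op V y * op V s⁻¹ ∈ ring V X
    rw [← op_mul, ← op_mul]
    exact op_mem (hs y hy)
  exact h ha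

/-- an `X`-invariant subgroup is invariant under `ring X` -/
theorem apply_mem {X : Subgroup H} {A : AddSubgroup V} (hA : ∀ x ∈ X, ∀ v ∈ A, x • v ∈ A) {v : V} (hv : v ∈ A)
    {a : AddMonoid.End V} (ha : a ∈ ring V X) : a v ∈ A := by
  have h : ring V X ≤ A.comap (AddMonoidHom.eval v) := by
    refine (AddSubgroup.closure_le _).2 ?_
    rintro _ ⟨y, hy, rfl⟩
    exact hA y hy v hv
  exact h ha

/-- the `X`-submodule generated by `z` -/
def orb (X : Subgroup H) (z : V) : AddSubgroup V := (ring V X).map (AddMonoidHom.eval z)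

theorem mem_orb {X : Subgroup H} {z v : V} : v ∈ orb X z ↔ ∃ a ∈ ring V X, a z = v := Iff.rfl

theorem self_mem (X : Subgroup H) (z : V) : z ∈ orb X z := mem_orb.2 ⟨1, one_mem' X, rfl⟩

theorem smul_mem_orb {X : Subgroup H} {x : H} (hx : x ∈ X) {z v : V} (hv : v ∈ orb X z) : x • v ∈ orb X z := by
  obtain ⟨a, ha, rfl⟩ := mem_orb.1 hv
  exact mem_orb.2 ⟨op V x * a, op_mul_mem hx ha, rfl⟩

theorem orb_le {X : Subgroup H} {A : AddSubgroup V} (hA : ∀ x ∈ X, ∀ v ∈ A, x • v ∈ A) {z : V} (hz : z ∈ A) :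
    orb X z ≤ A := by
  intro v hv
  obtain ⟨a, ha, rfl⟩ := mem_orb.1 hv
  exact apply_mem hA hz ha

theorem smul_apply {s : H} {z : V} (hz : s • z = z)
    {a : AddMonoid.End V} : s • a z = (op V s * a * op V s⁻¹) z := by
  have h : s⁻¹ • z = z := by rw [inv_smul_eq_iff, hz]
  change s • a z = s • a (s⁻¹ • z)
  rw [h]

theorem smul_mem_orb' {X : Subgroup H} {s : H} (hs : ∀ x ∈ X, s * x * s⁻¹ ∈ X) {z : V} (hz : s • z = z) {v : V}
    (hv : v ∈ orb X z) : s • v ∈ orb X z := by
  obtain ⟨a, ha, rfl⟩ := mem_orb.1 hv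
  exact mem_orb.2 ⟨_, conj_mem hs ha, (smul_apply hz).symm⟩

/-- A 2-group fixes an element `≠ 0` of an invariant subgroup `≠ 0` of exponent 2. -/
theorem exists_fix [Finite V] {S : Subgroup H} (hS : IsPGroup 2 S) (h2 : ∀ v : V, v + v = 0) {A : AddSubgroup V}
    (hA : ∀ s ∈ S, ∀ v ∈ A, s • v ∈ A) (hne : A ≠ ⊥) : ∃ z ∈ A, z ≠ 0 ∧ ∀ s ∈ S, s • z = z := by
  classical
  have : Fact (Nat.Prime 2) := ⟨Nat.prime_two⟩
  let act : MulAction S A :=
    { smul := fun s v => ⟨(s : H) • (v : V), hA s s.2 v v.2⟩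
      one_smul := fun v => Subtype.ext (one_smul H (v : V))
      mul_smul := fun s t v => Subtype.ext (mul_smul (s : H) (t : H) (v : V)) }
  obtain ⟨a, ha, hane⟩ := (AddSubgroup.bot_or_exists_ne_zero A).resolve_left hne
  have hd : 2 ∣ Nat.card A := by
    have h1 : addOrderOf (⟨a, ha⟩ : A) = 2 := by
      refine addOrderOf_eq_prime (Subtype.ext ?_) fun h0 => hane (congrArg Subtype.val h0)
      change (2 : ℕ) • a = 0
      rw [two_nsmul, h2]
    rw [← h1]
    exact addOrderOf_dvd_natCard _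
  obtain ⟨b, hb, hne'⟩ := hS.exists_fixed_point_of_prime_dvd_card_of_fixed_point A hd
    (a := (0 : A)) (fun s => Subtype.ext (smul_zero (s : H)))
  exact ⟨b, b.2, fun h0 => hne' (Subtype.ext h0.symm), fun s hs => congrArg Subtype.val (hb ⟨s, hs⟩)⟩

/-- The situation. -/
structure Dat (V : Type v) [AddCommGroup V] [DistribMulAction H V] (X S : Subgroup H) : Prop where
  two : IsPGroup 2 S
  exp : ∀ v : V, v + v = 0
  norm : ∀ s ∈ S, ∀ x ∈ X, s * x * s⁻¹ ∈ X
  gen : ∀ A : AddSubgroup V, (∀ x ∈ X, ∀ v ∈ A, x • v ∈ A) → (∀ z : V, (∀ s ∈ S, s • z = z) → z ∈ A) → A = ⊤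
  ann : ∀ z z' : V, z ≠ 0 → (∀ s ∈ S, s • z = z) → (∀ s ∈ S, s • z' = z') → ∀ a ∈ ring V X, a z = 0 → a z' = 0

end base

namespace Dat

variable {H : Type u} {V : Type v} [Group H] [AddCommGroup V] [DistribMulAction H V] [Finite V]
  {X S : Subgroup H} (D : Dat V X S)
include D

omit [Finite V] in
theorem smul_S {s : H} (hs : s ∈ S) {z v : V} (hz : ∀ s ∈ S, s • z = z) (hv : v ∈ orb X z) : s • v ∈ orb X z :=
  smul_mem_orb' (D.norm s hs) (hz s hs) hv

omit [Finite V] in
/-- The isomorphism. -/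
theorem exists_iso {z z' : V} (hz : z ≠ 0) (hzS : ∀ s ∈ S, s • z = z) (hz' : z' ≠ 0)
    (hzS' : ∀ s ∈ S, s • z' = z') :
    ∃ f : orb X z ≃+ orb X z', (∀ x ∈ X, ∀ v w : orb X z, (w : V) = x • (v : V) → (f w : V) = x • (f v : V)) ∧
      (∀ s ∈ S, ∀ v w : orb X z, (w : V) = s • (v : V) → (f w : V) = s • (f v : V)) ∧
      ∀ v : orb X z, (v : V) = z → (f v : V) = z' := by
  have key : ∀ a ∈ ring V X, ∀ b ∈ ring V X, a z = b z ↔ a z' = b z' := by
    intro a ha b hb
    constructor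
    · intro h
      have h1 := D.ann z z' hz hzS hzS' (a - b) (sub_mem ha hb) (by
        change a z - b z = 0
        rw [h, sub_self])
      exact sub_eq_zero.1 h1
    · intro h
      have h1 := D.ann z' z hz' hzS' hzS (a - b) (sub_mem ha hb) (by
        change a z' - b z' = 0
        rw [h, sub_self])
      exact sub_eq_zero.1 h1
  have hc : ∀ v : orb X z, ∃ a ∈ ring V X, a z = v := fun v => mem_orb.1 v.2
  choose c hcm hcz using hc
  have hc' : ∀ v : orb X z', ∃ a ∈ ring V X, a z' = v := fun v => mem_orb.1 v.2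
  choose c' hcm' hcz' using hc'
  let f : orb X z ≃+ orb X z' :=
    { toFun := fun v => ⟨c v z', mem_orb.2 ⟨_, hcm v, rfl⟩⟩
      invFun := fun v => ⟨c' v z, mem_orb.2 ⟨_, hcm' v, rfl⟩⟩
      left_inv := fun v => Subtype.ext (by
        change c' _ z = v
        rw [← hcz v]
        exact (key _ (hcm' _) _ (hcm v)).2 (hcz' _))
      right_inv := fun v => Subtype.ext (by
        change c _ z' = v
        rw [← hcz' v]
        exact (key _ (hcm _) _ (hcm' v)).1 (hcz _))
      map_add' := fun v w => Subtype.ext (by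
        change c (v + w) z' = c v z' + c w z'
        refine (key _ (hcm _) (c v + c w) (add_mem (hcm v) (hcm w))).1 ?_
        change c (v + w) z = c v z + c w z
        rw [hcz, hcz, hcz]
        rfl) }
  have hf : ∀ v : orb X z, (f v : V) = c v z' := fun v => rfl
  refine ⟨f, ?_, ?_, ?_⟩
  · intro x hx v w hw
    rw [hf, hf]
    refine (key _ (hcm w) (op V x * c v) (op_mul_mem hx (hcm v))).1 ?_
    rw [hcz, hw, ← hcz v]
    rfl
  · intro s hs v w hw
    rw [hf, hf, smul_apply (hzS' s hs)]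
    refine (key _ (hcm w) _ (conj_mem (D.norm s hs) (hcm v))).1 ?_
    rw [hcz, hw, ← smul_apply (hzS s hs), hcz v]
  · intro v hv
    rw [hf]
    exact (key _ (hcm v) 1 (one_mem' X)).1 (by rw [hcz, hv]; rfl)

omit [Finite V] in
theorem card_orb {z z' : V} (hz : z ≠ 0) (hzS : ∀ s ∈ S, s • z = z) (hz' : z' ≠ 0)
    (hzS' : ∀ s ∈ S, s • z' = z') : Nat.card (orb X z) = Nat.card (orb X z') := by
  obtain ⟨f, -⟩ := D.exists_iso hz hzS hz' hzS'
  exact Nat.card_congr f.toEquiv

/-- `orb X z` is irreducible. -/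
theorem irr {z : V} (hz : z ≠ 0) (hzS : ∀ s ∈ S, s • z = z) {A : AddSubgroup V} (hA : A ≤ orb X z) (hne : A ≠ ⊥)
    (hX : ∀ x ∈ X, ∀ v ∈ A, x • v ∈ A) (hS : ∀ s ∈ S, ∀ v ∈ A, s • v ∈ A) : A = orb X z := by
  obtain ⟨z', hz'A, hz', hzS'⟩ := exists_fix D.two D.exp hS hne
  have h1 : orb X z' ≤ A := orb_le hX hz'A
  have h2 : Nat.card (orb X z) ≤ Nat.card A := by
    rw [D.card_orb hz hzS hz' hzS']
    exact AddSubgroup.card_le_of_le h1
  exact AddSubgroup.eq_of_le_of_card_ge hA h2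

/-- **`V` is a direct sum.** -/
theorem exists_fam : ∃ F : Finset V, (∀ z ∈ F, z ≠ 0 ∧ ∀ s ∈ S, s • z = z) ∧
    iSupIndep (fun z : F => orb X (z : V)) ∧ (⨆ z : F, orb X (z : V)) = ⊤ := by
  classical
  have : Fintype V := Fintype.ofFinite V
  let P : Finset (Finset V) := Finset.univ.filter fun F =>
    (∀ z ∈ F, z ≠ 0 ∧ ∀ s ∈ S, s • z = z) ∧ F.SupIndep (orb X)
  have hP : P.Nonempty := ⟨∅, by
    rw [Finset.mem_filter]
    exact ⟨Finset.mem_univ _, by simp, Finset.supIndep_empty _⟩⟩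
  obtain ⟨F, hF, hmax⟩ := P.exists_max_image Finset.card hP
  rw [Finset.mem_filter] at hF
  obtain ⟨-, hF1, hF2⟩ := hF
  refine ⟨F, hF1, hF2.independent, ?_⟩
  set B : AddSubgroup V := ⨆ z : F, orb X (z : V) with hB
  have hBX : ∀ x ∈ X, ∀ v ∈ B, x • v ∈ B := by
    intro x hx v hv
    have h : B ≤ B.comap (op V x) := iSup_le fun z w hw =>
      (le_iSup (fun z : F => orb X (z : V)) z) (smul_mem_orb hx hw)
    exact h hv
  have hBS : ∀ s ∈ S, ∀ v ∈ B, s • v ∈ B := by
    intro s hs v hv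
    have h : B ≤ B.comap (op V s) := iSup_le fun z w hw =>
      (le_iSup (fun z : F => orb X (z : V)) z) (D.smul_S hs (hF1 z z.2).2 hw)
    exact h hv
  refine D.gen B hBX fun z hzS => ?_
  by_contra hzB
  have hz0 : z ≠ 0 := fun h0 => hzB (h0 ▸ B.zero_mem)
  have hinf : orb X z ⊓ B = ⊥ := by
    by_contra hne
    have h := D.irr hz0 hzS (A := orb X z ⊓ B) inf_le_left hne
      (fun x hx v hv => ⟨smul_mem_orb hx hv.1, hBX x hx v hv.2⟩)
      (fun s hs v hv => ⟨D.smul_S hs hzS hv.1, hBS s hs v hv.2⟩)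
    exact hzB ((h.symm.le (self_mem X z)).2)
  have hzF : z ∉ F := fun hz => hzB ((le_iSup (fun z : F => orb X (z : V)) ⟨z, hz⟩) (self_mem X z))
  have hsup : F.sup (orb X) = B := by
    rw [Finset.sup_eq_iSup, hB, iSup_subtype]
  have h1 : (insert z F) ∈ P := by
    rw [Finset.mem_filter]
    refine ⟨Finset.mem_univ _, ?_, hF2.insert ?_⟩
    · intro w hw
      rcases Finset.mem_insert.1 hw with rfl | hw
      · exact ⟨hz0, hzS⟩
      · exact hF1 w hw
    · rw [hsup, disjoint_iff, hinf]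
  have h2 := hmax _ h1
  rw [Finset.card_insert_of_notMem hzF] at h2
  omega

/-- **`V = U₁^k`, `X`- and `S`-equivariantly.** -/
theorem exists_pow : ∃ (k : ℕ) (U : Fin k → AddSubgroup V),
    (∀ j, ∃ z : V, z ≠ 0 ∧ (∀ s ∈ S, s • z = z) ∧ U j = orb X z) ∧ iSupIndep U ∧ (⨆ j, U j) = ⊤ ∧
    ∀ i j, ∃ f : U i ≃+ U j, (∀ x ∈ X, ∀ v w : U i, (w : V) = x • (v : V) → (f w : V) = x • (f v : V)) ∧
      ∀ s ∈ S, ∀ v w : U i, (w : V) = s • (v : V) → (f w : V) = s • (f v : V) := by
  obtain ⟨F, hF1, hF2, hF3⟩ := D.exists_fam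
  let e : Fin F.card ≃ F := F.equivFin.symm
  refine ⟨F.card, fun j => orb X (e j : V), fun j => ⟨e j, (hF1 _ (e j).2).1, (hF1 _ (e j).2).2, rfl⟩,
    hF2.comp e.injective, ?_, ?_⟩
  · rw [← hF3]
    exact e.surjective.iSup_comp (fun z : F => orb X (z : V))
  · intro i j
    obtain ⟨f, h1, h2, -⟩ := D.exists_iso (hF1 _ (e i).2).1 (hF1 _ (e i).2).2 (hF1 _ (e j).2).1 (hF1 _ (e j).2).2
    exact ⟨f, h1, h2⟩

end Dat

end Cfsg.Agent.Omega.NO3b.Exit.Descent

end

section


/-!
# Descent (helper255, bb 20076), part 2: one block `A ⊗_K E`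

`Y` acts irreducibly on the finite additive group `A` of exponent 2, `K = KK Y A = End_Y(A)`, and `Y` induces all
`K`-transvections of `A`; `T ≤ Y` a subgroup of odd index (a Sylow 2-subgroup).

* `fix_line` : `C_A(T) ≤ K n` for `0 ≠ n ∈ C_A(T)`;
* `img Y A U` : `⟨f a | f ∈ Hom_Y(A, U), a ∈ A⟩ = A ⊗ E`;
* `exists_of_fix` : `w ∈ img`, fixed by `T`, is `f n` for some `f ∈ Hom_Y(A, U)`;
* `ann_blk` : two elements `w ≠ 0`, `w'` of `img` fixed by `T`: every element of the ring generated by `Y` which kills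
  `w` kills `w'`.
-/

set_option autoImplicit false

namespace Cfsg.Agent.Omega.NO3b.Exit.Descent

open Subgroup Cfsg.Agent.Omega.NO3b.Exit.Ten

universe u v w

section blk

variable {Y : Type u} {A : Type v} [Group Y] [AddCommGroup A] [DistribMulAction Y A] [Finite A] [hI : IsIrr Y A]

/-- `Y` induces all transvections -/
def AllTv (Y : Type u) (A : Type v) [Group Y] [AddCommGroup A] [DistribMulAction Y A] [Finite A] [IsIrr Y A] :
    Prop :=
  ∀ (φ : Module.Dual (KK Y A) A) (a : A), φ a = 0 → ∃ k : Y, ∀ x : A, k • x = x + φ x • a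

/-- `C_A(T)` is a line. -/
theorem fix_line (htv : AllTv Y A) (two : ∀ a : A, a + a = 0) {T : Subgroup Y} (hT : ¬ 2 ∣ T.index)
    {n : A} (hn0 : n ≠ 0) (hn : ∀ t ∈ T, t • n = n) {n' : A} (hn' : ∀ t ∈ T, t • n' = n') :
    ∃ κ : KK Y A, n' = κ • n := by
  classical
  by_contra hcon
  push Not at hcon
  have hTn : T ≤ MulAction.stabilizer Y n := fun t ht => hn t ht
  let Yn := MulAction.stabilizer Y n
  let O : Set A := MulAction.orbit Yn n'
  -- the orbit has odd length
  have hodd : ¬ 2 ∣ Nat.card O := by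
    have h1 : Nat.card O = (MulAction.stabilizer Yn n').index := by
      rw [Subgroup.index]
      exact Nat.card_congr (MulAction.orbitEquivQuotientStabilizer Yn n')
    have h2 : T.subgroupOf Yn ≤ MulAction.stabilizer Yn n' := fun t ht => hn' (t : Y) ht
    have h3 : (MulAction.stabilizer Yn n').index ∣ (T.subgroupOf Yn).index := Subgroup.index_dvd_of_le h2
    have h4 : (T.subgroupOf Yn).index ∣ T.index := by
      have := Subgroup.relIndex_mul_index hTn
      exact ⟨_, this.symm⟩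
    intro h5
    exact hT ((h5.trans (h1 ▸ h3)).trans h4)
  -- translation by `n`
  have hmem : ∀ x ∈ O, x + n ∈ O := by
    rintro x ⟨y, rfl⟩
    have hx : ∀ κ : KK Y A, (y : Y) • n' ≠ κ • n := by
      intro κ hκ
      apply hcon κ
      have hy : (y : Y)⁻¹ • n = n := by rw [inv_smul_eq_iff]; exact (MulAction.mem_stabilizer_iff.1 y.2).symm
      calc n' = (y : Y)⁻¹ • (y : Y) • n' := (inv_smul_smul _ _).symm
        _ = (y : Y)⁻¹ • κ • n := by rw [hκ]
        _ = κ • (y : Y)⁻¹ • n := (KK.smul_smul_comm _ _ _).symm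
        _ = κ • n := by rw [hy]
    -- a functional with `φ n = 0`, `φ (y n') = 1`
    have hli : (y : Y) • n' ∉ Submodule.span (KK Y A) ({n} : Set A) := by
      intro h
      obtain ⟨κ, hκ⟩ := Submodule.mem_span_singleton.1 h
      exact hx κ hκ.symm
    obtain ⟨φ, hφ1, hφ2⟩ := Submodule.exists_dual_map_eq_bot_of_notMem hli inferInstance
    have hφn : φ n = 0 := by
      have h : φ n ∈ (Submodule.span (KK Y A) ({n} : Set A)).map φ :=
        ⟨n, Submodule.mem_span_singleton_self n, rfl⟩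
      rw [hφ2, Submodule.mem_bot] at h
      exact h
    set c := φ ((y : Y) • n') with hc
    obtain ⟨k, hk⟩ := htv (c⁻¹ • φ) n (by rw [LinearMap.smul_apply, hφn, smul_zero])
    have hkn : k • n = n := by
      rw [hk, LinearMap.smul_apply, hφn, smul_zero, zero_smul, add_zero]
    have hky : k • (y : Y) • n' = (y : Y) • n' + n := by
      rw [hk, LinearMap.smul_apply, ← hc, smul_eq_mul, inv_mul_cancel₀ hφ1, one_smul]
    refine ⟨(⟨k, hkn⟩ : Yn) * y, ?_⟩
    change (k * (y : Y)) • n' = (y : Y) • n' + n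
    rw [mul_smul, hky]
  apply hodd
  have hfin : Fintype O := Fintype.ofFinite O
  have h6 : ∑ x : O, (1 : ZMod 2) = 0 := by
    refine Finset.sum_involution (fun x _ => (⟨(x : A) + n, hmem x x.2⟩ : O)) ?_ ?_ ?_ ?_
    · intro x _; decide
    · intro x _ _ h0
      apply hn0
      have h7 := congrArg Subtype.val h0
      exact left_eq_add.1 h7.symm
    · intro x _; exact Finset.mem_univ _
    · intro x _
      apply Subtype.ext
      change (x : A) + n + n = x
      rw [add_assoc, two, add_zero]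
  rw [Finset.sum_const, Finset.card_univ, nsmul_eq_mul, mul_one] at h6
  rw [Nat.card_eq_fintype_card]
  exact (ZMod.natCast_eq_zero_iff _ 2).1 h6

variable (Y A) in
/-- `A ⊗ E` -/
def img (U : Type w) [AddCommGroup U] [DistribMulAction Y U] : AddSubgroup U :=
  AddSubgroup.closure {u | ∃ (f : HomY Y A U) (a : A), u = (f : A →+ U) a}

variable {U : Type w} [AddCommGroup U] [DistribMulAction Y U]

omit [Finite A] hI in
theorem mem_img (f : HomY Y A U) (a : A) : (f : A →+ U) a ∈ img Y A U :=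
  AddSubgroup.subset_closure ⟨f, a, rfl⟩

/-- elements of `img` in coordinates -/
theorem exists_coord [Finite U] : ∃ (d : ℕ) (f : Fin d → HomY Y A U), LinearIndependent (KK Y A) f ∧
    ∀ w ∈ img Y A U, ∃ a : Fin d → A, w = ∑ i, (f i : A →+ U) (a i) := by
  have hfin : Finite (A →+ U) := Finite.of_injective (fun f => (f : A → U)) DFunLike.coe_injective
  have hfin2 : Finite (HomY Y A U) := inferInstance
  have hfin3 : Module.Finite (KK Y A) (HomY Y A U) := Module.Finite.of_finite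
  let b := Module.finBasis (KK Y A) (HomY Y A U)
  refine ⟨_, b, b.linearIndependent, fun w hw => ?_⟩
  let N : AddSubgroup U :=
    { carrier := {w | ∃ a : Fin (Module.finrank (KK Y A) (HomY Y A U)) → A, w = ∑ i, ((b i : HomY Y A U) : A →+ U) (a i)}
      zero_mem' := ⟨0, by simp⟩
      add_mem' := by
        rintro x y ⟨a, rfl⟩ ⟨c, rfl⟩
        refine ⟨a + c, ?_⟩
        rw [← Finset.sum_add_distrib]
        exact Finset.sum_congr rfl fun i _ => by rw [Pi.add_apply, map_add]
      neg_mem' := by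
        rintro x ⟨a, rfl⟩
        refine ⟨-a, ?_⟩
        rw [← Finset.sum_neg_distrib]
        exact Finset.sum_congr rfl fun i _ => by rw [Pi.neg_apply, map_neg] }
  have h : img Y A U ≤ N := by
    refine (AddSubgroup.closure_le _).2 ?_
    rintro _ ⟨f, a, rfl⟩
    refine ⟨fun i => b.repr f i • a, ?_⟩
    have e : f = ∑ i, b.repr f i • b i := (b.sum_repr f).symm
    conv_lhs => rw [e]
    rw [AddSubgroup.val_finsetSum, AddMonoidHom.finsetSum_apply]
    exact Finset.sum_congr rfl fun i _ => by rw [HomY.smul_apply]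
  exact h hw

/-- a fixed element of `A ⊗ E` is pure -/
theorem exists_of_fix [Finite U] (htv : AllTv Y A) (two : ∀ a : A, a + a = 0) {T : Subgroup Y}
    (hT : ¬ 2 ∣ T.index) {n : A} (hn0 : n ≠ 0) (hn : ∀ t ∈ T, t • n = n) {w : U} (hw : w ∈ img Y A U)
    (hwT : ∀ t ∈ T, t • w = w) : ∃ f : HomY Y A U, w = (f : A →+ U) n := by
  obtain ⟨d, f, hf, hco⟩ := exists_coord (Y := Y) (A := A) (U := U)
  obtain ⟨a, rfl⟩ := hco w hw
  have h1 : ∀ t ∈ T, ∀ i, t • a i = a i := by
    intro t ht i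
    have h2 := hwT t ht
    rw [Finset.smul_sum] at h2
    have h3 := HomY.ind hf Finset.univ (fun i => t • a i - a i) (by
      rw [← sub_eq_zero.2 h2, ← Finset.sum_sub_distrib]
      exact Finset.sum_congr rfl fun i _ => by rw [map_sub, (f i).2]) i (Finset.mem_univ _)
    exact sub_eq_zero.1 h3
  choose κ hκ using fun i => fix_line htv two hT hn0 hn (fun t ht => h1 t ht i)
  refine ⟨∑ i, κ i • f i, ?_⟩
  rw [AddSubgroup.val_finsetSum, AddMonoidHom.finsetSum_apply]
  exact Finset.sum_congr rfl fun i _ => by rw [HomY.smul_apply, ← hκ]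

omit [Finite A] hI in
/-- `f` commutes with the rings generated by `Y` -/
theorem exists_ring (X : Subgroup Y) {c : AddMonoid.End U} (hc : c ∈ ring U X) :
    ∃ c' ∈ ring A X, ∀ (f : HomY Y A U) (a : A), c ((f : A →+ U) a) = (f : A →+ U) (c' a) := by
  induction hc using AddSubgroup.closure_induction with
  | mem c hc =>
    obtain ⟨x, hx, rfl⟩ := hc
    exact ⟨op A x, op_mem hx, fun f a => (f.2 x a).symm⟩
  | zero => exact ⟨0, zero_mem _, fun f a => (map_zero (f : A →+ U)).symm⟩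
  | add c d _ _ hc hd =>
    obtain ⟨c', hc', h1⟩ := hc
    obtain ⟨d', hd', h2⟩ := hd
    refine ⟨c' + d', add_mem hc' hd', fun f a => ?_⟩
    change c ((f : A →+ U) a) + d ((f : A →+ U) a) = (f : A →+ U) (c' a + d' a)
    rw [h1, h2, map_add]
  | neg c _ hc =>
    obtain ⟨c', hc', h1⟩ := hc
    refine ⟨-c', neg_mem hc', fun f a => ?_⟩
    change - c ((f : A →+ U) a) = (f : A →+ U) (- c' a)
    rw [h1, map_neg]

/-- **(ANN) for one block.** -/
theorem ann_blk [Finite U] (htv : AllTv Y A) (two : ∀ a : A, a + a = 0) {T : Subgroup Y} (hT2 : IsPGroup 2 T)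
    (hT : ¬ 2 ∣ T.index) {w w' : U} (hw : w ∈ img Y A U) (hwT : ∀ t ∈ T, t • w = w) (hw0 : w ≠ 0)
    (hw' : w' ∈ img Y A U) (hwT' : ∀ t ∈ T, t • w' = w') {c : AddMonoid.End U} (hc : c ∈ ring U (⊤ : Subgroup Y))
    (h0 : c w = 0) : c w' = 0 := by
  obtain ⟨n, -, hn0, hn⟩ := exists_fix (V := A) (H := Y) hT2 two (A := ⊤) (fun _ _ _ _ => trivial) (by
    intro h
    obtain ⟨a, ha⟩ := hI.ne
    have : a ∈ (⊤ : AddSubgroup A) := trivial
    rw [h] at this
    exact ha this)
  obtain ⟨f, rfl⟩ := exists_of_fix htv two hT hn0 hn hw hwT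
  obtain ⟨f', rfl⟩ := exists_of_fix htv two hT hn0 hn hw' hwT'
  obtain ⟨c', -, hcc⟩ := exists_ring (A := A) ⊤ hc
  have hf0 : f ≠ 0 := by
    rintro rfl
    exact hw0 rfl
  rw [hcc] at h0 ⊢
  have h1 : c' n = 0 := HomY.inj hf0 (h0.trans (map_zero _).symm)
  rw [h1, map_zero]

end blk

end Cfsg.Agent.Omega.NO3b.Exit.Descent

end

section


/-!
# Descent (helper255, bb 20076), part 3: group form

`V` an elementary abelian 2-subgroup of the finite group `G`, normalised by `X` and by the 2-group `S`, `S ≤ N_G(X)`,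
`V = ⟨C_V(S)^X⟩`, and all elements `≠ 1` of `C_V(S)` have the same annihilator in `F₂[X]` (`GDat`).

* `GDat.exists_pow` : `V` is the direct product of subgroups `U j`, `j : Fin k`, normalised by `X` and `S`, irreducible
  under `⟨X, S⟩`, and for all `i`, `j` there is an `X`- and `S`-equivariant isomorphism `U i ≃* U j`.
-/

set_option autoImplicit false

namespace Cfsg.Agent.Omega.NO3b.Exit.Descent

open Subgroup

universe u

variable {G : Type u} [Group G]

/-- `V` as a module for `H ≤ N_G(V)`. -/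
def VM {H V : Subgroup G} (_ : H ≤ normalizer (V : Set G)) (_ : V ≤ centralizer (V : Set G)) : Type u :=
  Additive ↥V

namespace VM

variable {H V : Subgroup G} {hH : H ≤ normalizer (V : Set G)} {hV : V ≤ centralizer (V : Set G)}

/-- the underlying element -/
def val (v : VM hH hV) : G := ((Additive.toMul v : ↥V) : G)

def mk (g : G) (hg : g ∈ V) : VM hH hV := Additive.ofMul ⟨g, hg⟩

theorem val_mk (g : G) (hg : g ∈ V) : (mk g hg : VM hH hV).val = g := rfl

theorem val_mem (v : VM hH hV) : v.val ∈ V := (Additive.toMul v : ↥V).2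

theorem ext {v w : VM hH hV} (h : v.val = w.val) : v = w := Subtype.ext h

instance : AddCommGroup (VM hH hV) :=
  { (inferInstance : AddGroup (Additive ↥V)) with
    add_comm := fun v w => ext (mem_centralizer_iff.1 (hV (val_mem w)) _ (val_mem v)) }

theorem val_add (v w : VM hH hV) : (v + w).val = v.val * w.val := rfl

theorem val_zero : (0 : VM hH hV).val = 1 := rfl

theorem val_neg (v : VM hH hV) : (-v).val = v.val⁻¹ := rfl

instance : DistribMulAction H (VM hH hV) where
  smul h v := mk ((h : G) * v.val * (h : G)⁻¹) ((mem_normalizer_iff.1 (hH h.2) _).1 v.val_mem)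
  one_smul v := ext (by change (1 : G) * v.val * (1 : G)⁻¹ = v.val; group)
  mul_smul h k v := ext (by
    change ((h * k : H) : G) * v.val * ((h * k : H) : G)⁻¹ = h * (k * v.val * (k : G)⁻¹) * (h : G)⁻¹
    rw [Subgroup.coe_mul]; group)
  smul_zero h := ext (by change (h : G) * 1 * (h : G)⁻¹ = 1; group)
  smul_add h v w := ext (by
    change (h : G) * (v.val * w.val) * (h : G)⁻¹ = h * v.val * (h : G)⁻¹ * (h * w.val * (h : G)⁻¹)
    group)

theorem val_smul (h : H) (v : VM hH hV) : (h • v).val = h * v.val * (h : G)⁻¹ := rfl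

instance [Finite G] : Finite (VM hH hV) := Finite.of_injective (fun v => v.val) fun _ _ h => ext h

/-- the subgroup of `G` -/
def toG (A : AddSubgroup (VM hH hV)) : Subgroup G where
  carrier := {g | ∃ hg : g ∈ V, (mk g hg : VM hH hV) ∈ A}
  one_mem' := ⟨one_mem _, A.zero_mem⟩
  mul_mem' := by
    rintro x y ⟨hx, hx'⟩ ⟨hy, hy'⟩
    exact ⟨mul_mem hx hy, A.add_mem hx' hy'⟩
  inv_mem' := by
    rintro x ⟨hx, hx'⟩
    exact ⟨inv_mem hx, A.neg_mem hx'⟩

/-- the subgroup of the module -/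
def ofG (K : Subgroup G) : AddSubgroup (VM hH hV) where
  carrier := {v | v.val ∈ K}
  zero_mem' := K.one_mem
  add_mem' := fun {v w} (hv : v.val ∈ K) (hw : w.val ∈ K) => K.mul_mem hv hw
  neg_mem' := fun {v} (hv : v.val ∈ K) => K.inv_mem hv

theorem mem_toG {A : AddSubgroup (VM hH hV)} {g : G} : g ∈ toG A ↔ ∃ hg : g ∈ V, (mk g hg : VM hH hV) ∈ A := Iff.rfl

theorem mem_ofG {K : Subgroup G} {v : VM hH hV} : v ∈ (ofG K : AddSubgroup (VM hH hV)) ↔ v.val ∈ K := Iff.rfl

theorem val_mem_toG {A : AddSubgroup (VM hH hV)} {v : VM hH hV} (hv : v ∈ A) : v.val ∈ toG A := ⟨v.val_mem, hv⟩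

theorem of_val_mem {A : AddSubgroup (VM hH hV)} {v : VM hH hV} (hv : v.val ∈ toG A) : v ∈ A := hv.2

theorem toG_le (A : AddSubgroup (VM hH hV)) : toG A ≤ V := fun _ h => h.1

theorem toG_mono {A B : AddSubgroup (VM hH hV)} (h : A ≤ B) : toG A ≤ toG B := fun _ hg => ⟨hg.1, h hg.2⟩

theorem toG_top : toG (⊤ : AddSubgroup (VM hH hV)) = V :=
  le_antisymm (toG_le _) fun _ hg => ⟨hg, trivial⟩

theorem toG_bot : toG (⊥ : AddSubgroup (VM hH hV)) = ⊥ := by
  rw [eq_bot_iff]
  rintro g ⟨hg, hg'⟩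
  rw [AddSubgroup.mem_bot] at hg'
  have h := congrArg val hg'
  exact mem_bot.2 h

theorem toG_inf (A B : AddSubgroup (VM hH hV)) : toG (A ⊓ B) = toG A ⊓ toG B := by
  ext g
  constructor
  · rintro ⟨hg, h1, h2⟩
    exact ⟨⟨hg, h1⟩, ⟨hg, h2⟩⟩
  · rintro ⟨⟨hg, h1⟩, ⟨_, h2⟩⟩
    exact ⟨hg, h1, h2⟩

theorem toG_iSup {κ : Sort*} (A : κ → AddSubgroup (VM hH hV)) : toG (⨆ i, A i) = ⨆ i, toG (A i) := by
  apply le_antisymm
  · have h : (⨆ i, A i) ≤ ofG (⨆ i, toG (A i)) := iSup_le fun i v hv =>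
      (le_iSup (fun i => toG (A i)) i) (val_mem_toG hv)
    rintro g ⟨hg, hg'⟩
    exact h hg'
  · exact iSup_le fun i => toG_mono (le_iSup A i)

theorem indep_toG {κ : Type*} {A : κ → AddSubgroup (VM hH hV)} (h : iSupIndep A) :
    iSupIndep fun i => toG (A i) := by
  rw [iSupIndep_def] at h ⊢
  intro i
  have h1 := h i
  rw [disjoint_iff] at h1 ⊢
  have e : (⨆ (j) (_ : j ≠ i), toG (A j)) = toG (⨆ (j) (_ : j ≠ i), A j) := by
    rw [toG_iSup]
    exact iSup_congr fun j => (toG_iSup _).symm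
  rw [e, ← toG_inf, h1, toG_bot]

/-- an isomorphism -/
noncomputable def isoG {A B : AddSubgroup (VM hH hV)} (f : A ≃+ B) : toG A ≃* toG B where
  toFun g := ⟨((f ⟨mk g.1 g.2.1, g.2.2⟩ : B) : VM hH hV).val, val_mem_toG (f _).2⟩
  invFun g := ⟨((f.symm ⟨mk g.1 g.2.1, g.2.2⟩ : A) : VM hH hV).val, val_mem_toG (f.symm _).2⟩
  left_inv g := Subtype.ext (by
    change ((f.symm (f ⟨mk g.1 g.2.1, g.2.2⟩) : A) : VM hH hV).val = g
    rw [f.symm_apply_apply]
    rfl)
  right_inv g := Subtype.ext (by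
    change ((f (f.symm ⟨mk g.1 g.2.1, g.2.2⟩) : B) : VM hH hV).val = g
    rw [f.apply_symm_apply]
    rfl)
  map_mul' g g' := Subtype.ext (by
    have e : (⟨mk (g * g' : toG A).1 (g * g').2.1, (g * g').2.2⟩ : A) =
        ⟨mk g.1 g.2.1, g.2.2⟩ + ⟨mk g'.1 g'.2.1, g'.2.2⟩ := rfl
    change ((f ⟨mk (g * g' : toG A).1 (g * g').2.1, (g * g').2.2⟩ : B) : VM hH hV).val = _
    rw [e, map_add]
    rfl)

theorem isoG_val {A B : AddSubgroup (VM hH hV)} (f : A ≃+ B) {v : A} {g : toG A} (h : (g : G) = (v : VM hH hV).val) :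
    ((isoG f g : toG B) : G) = ((f v : B) : VM hH hV).val := by
  have e : (⟨mk g.1 g.2.1, g.2.2⟩ : A) = v := Subtype.ext (ext h)
  change ((f ⟨mk g.1 g.2.1, g.2.2⟩ : B) : VM hH hV).val = _
  rw [e]

end VM

/-- The situation of LEMMA DESCENT, group form. -/
structure GDat (V X S : Subgroup G) : Prop where
  comm : V ≤ centralizer (V : Set G)
  sq : ∀ v ∈ V, v * v = 1
  two : IsPGroup 2 S
  SV : S ≤ normalizer (V : Set G)
  XV : X ≤ normalizer (V : Set G)
  SX : S ≤ normalizer (X : Set G)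
  gen : ∀ A : Subgroup G, A ≤ V → X ≤ normalizer (A : Set G) → V ⊓ centralizer (S : Set G) ≤ A → A = V
  ann : ∀ z z' : G, z ∈ V → z ≠ 1 → z ∈ centralizer (S : Set G) → z' ∈ V → z' ∈ centralizer (S : Set G) →
    ∀ l : List G, (∀ x ∈ l, x ∈ X) → (l.map fun x => x * z * x⁻¹).prod = 1 →
      (l.map fun x => x * z' * x⁻¹).prod = 1

namespace GDat

variable [Finite G] {V X S : Subgroup G} (D : GDat V X S)
include D

omit [Finite G] in
/-- elements of `ring` are sums of lists -/
theorem exists_list {H : Subgroup G} (hH : H ≤ normalizer (V : Set G)) {X' : Subgroup H}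
    {c : AddMonoid.End (VM hH D.comm)} (hc : c ∈ ring (VM hH D.comm) X') :
    ∃ l : List G, (∀ x ∈ l, ∃ x' ∈ X', (x' : G) = x) ∧
      ∀ v : VM hH D.comm, (c v).val = (l.map fun x => x * v.val * x⁻¹).prod := by
  have hneg : ∀ v : VM hH D.comm, -v = v := fun v => VM.ext (by
    rw [VM.val_neg]
    exact inv_eq_of_mul_eq_one_left (D.sq _ v.val_mem))
  induction hc using AddSubgroup.closure_induction with
  | mem c hc =>
    obtain ⟨x, hx, rfl⟩ := hc
    refine ⟨[(x : G)], fun y hy => ⟨x, hx, (List.mem_singleton.1 hy).symm⟩, fun v => ?_⟩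
    rw [List.map_cons, List.map_nil, List.prod_cons, List.prod_nil, mul_one]
    rfl
  | zero => exact ⟨[], by simp, fun v => rfl⟩
  | add c d _ _ hc hd =>
    obtain ⟨l, hl, h1⟩ := hc
    obtain ⟨m, hm, h2⟩ := hd
    refine ⟨l ++ m, fun x hx => ?_, fun v => ?_⟩
    · rcases List.mem_append.1 hx with h | h
      · exact hl x h
      · exact hm x h
    · rw [List.map_append, List.prod_append, ← h1, ← h2]
      rfl
  | neg c _ hc =>
    obtain ⟨l, hl, h1⟩ := hc
    refine ⟨l, hl, fun v => ?_⟩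
    rw [← h1]
    change (-(c v)).val = _
    rw [hneg]

/-- **LEMMA DESCENT.** -/
theorem exists_pow : ∃ (k : ℕ) (U : Fin k → Subgroup G), (∀ j, U j ≤ V) ∧ iSupIndep U ∧ (⨆ j, U j) = V ∧
    (∀ j, U j ≠ ⊥) ∧ (∀ j, X ≤ normalizer (U j : Set G)) ∧ (∀ j, S ≤ normalizer (U j : Set G)) ∧
    (∀ j, ∀ A : Subgroup G, A ≤ U j → A ≠ ⊥ → X ≤ normalizer (A : Set G) → S ≤ normalizer (A : Set G) → A = U j) ∧
    ∀ i j, ∃ f : U i ≃* U j, (∀ x ∈ X, ∀ v w : U i, (w : G) = x * v * x⁻¹ → (f w : G) = x * f v * x⁻¹) ∧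
      ∀ s ∈ S, ∀ v w : U i, (w : G) = s * v * s⁻¹ → (f w : G) = s * f v * s⁻¹ := by
  classical
  set H : Subgroup G := X ⊔ S with hHdef
  have hH : H ≤ normalizer (V : Set G) := sup_le D.XV D.SV
  let X' : Subgroup H := X.subgroupOf H
  let S' : Subgroup H := S.subgroupOf H
  have hfix : ∀ z : VM hH D.comm, (∀ s ∈ S', s • z = z) → z.val ∈ V ⊓ centralizer (S : Set G) := by
    intro z hz
    refine ⟨z.val_mem, mem_centralizer_iff.2 fun s hs => ?_⟩
    have h1 := congrArg VM.val (hz ⟨s, (le_sup_right : S ≤ H) hs⟩ (mem_subgroupOf.2 hs))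
    rw [VM.val_smul] at h1
    exact mul_inv_eq_iff_eq_mul.1 h1
  have hfix' : ∀ z : VM hH D.comm, z.val ∈ centralizer (S : Set G) → ∀ s ∈ S', s • z = z := by
    intro z hz s hs
    refine VM.ext ?_
    rw [VM.val_smul, mul_inv_eq_iff_eq_mul]
    exact mem_centralizer_iff.1 hz _ (mem_subgroupOf.1 hs)
  have hXn : ∀ A : AddSubgroup (VM hH D.comm), (∀ x ∈ X', ∀ v ∈ A, x • v ∈ A) → X ≤ normalizer (VM.toG A : Set G) := by
    intro A hA
    have key : ∀ x ∈ X, ∀ g ∈ VM.toG A, x * g * x⁻¹ ∈ VM.toG A := by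
      rintro x hx g ⟨hg, hg'⟩
      exact VM.val_mem_toG (hA ⟨x, (le_sup_left : X ≤ H) hx⟩ (mem_subgroupOf.2 hx) _ hg')
    intro x hx
    rw [mem_normalizer_iff]
    intro g
    refine ⟨key x hx g, fun h => ?_⟩
    have h1 := key x⁻¹ (inv_mem hx) _ h
    have e : x⁻¹ * (x * g * x⁻¹) * x⁻¹⁻¹ = g := by group
    rwa [e] at h1
  have hSn : ∀ A : AddSubgroup (VM hH D.comm), (∀ x ∈ S', ∀ v ∈ A, x • v ∈ A) → S ≤ normalizer (VM.toG A : Set G) := by
    intro A hA
    have key : ∀ x ∈ S, ∀ g ∈ VM.toG A, x * g * x⁻¹ ∈ VM.toG A := by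
      rintro x hx g ⟨hg, hg'⟩
      exact VM.val_mem_toG (hA ⟨x, (le_sup_right : S ≤ H) hx⟩ (mem_subgroupOf.2 hx) _ hg')
    intro x hx
    rw [mem_normalizer_iff]
    intro g
    refine ⟨key x hx g, fun h => ?_⟩
    have h1 := key x⁻¹ (inv_mem hx) _ h
    have e : x⁻¹ * (x * g * x⁻¹) * x⁻¹⁻¹ = g := by group
    rwa [e] at h1
  have E : Dat (VM hH D.comm) X' S' :=
    { two := D.two.comap_of_injective _ (subtype_injective H)
      exp := fun v => VM.ext (D.sq _ v.val_mem)
      norm := fun s hs x hx => (mem_normalizer_iff.1 (D.SX (mem_subgroupOf.1 hs)) _).1 (mem_subgroupOf.1 hx)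
      gen := by
        intro A hA hZ
        have h1 := D.gen (VM.toG A) (VM.toG_le A) (hXn A hA) (by
          intro z hz
          exact ⟨hz.1, hZ _ (hfix' _ hz.2)⟩)
        rw [eq_top_iff]
        intro v _
        exact VM.of_val_mem (h1.symm ▸ v.val_mem)
      ann := by
        intro z z' hz0 hz hz' c hc h0
        obtain ⟨l, hl, h1⟩ := D.exists_list hH hc
        have h2 := hfix z hz
        have h3 := hfix z' hz'
        refine VM.ext ?_
        rw [h1, VM.val_zero]
        refine D.ann z.val z'.val h2.1 (fun h => hz0 (VM.ext h)) h2.2 h3.1 h3.2 l ?_ ?_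
        · intro x hx
          obtain ⟨x', hx', rfl⟩ := hl x hx
          exact mem_subgroupOf.1 hx'
        · rw [← h1, h0, VM.val_zero] }
  obtain ⟨k, U, hU, hind, htop, hiso⟩ := E.exists_pow
  have hUX : ∀ j, ∀ x ∈ X', ∀ v ∈ U j, x • v ∈ U j := by
    intro j x hx v hv
    obtain ⟨z, -, -, hz⟩ := hU j
    rw [hz] at hv ⊢
    exact smul_mem_orb hx hv
  have hUS : ∀ j, ∀ s ∈ S', ∀ v ∈ U j, s • v ∈ U j := by
    intro j s hs v hv
    obtain ⟨z, -, hzS, hz⟩ := hU j
    rw [hz] at hv ⊢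
    exact E.smul_S hs hzS hv
  refine ⟨k, fun j => VM.toG (U j), fun j => VM.toG_le _, VM.indep_toG hind, ?_, ?_, fun j => hXn _ (hUX j),
    fun j => hSn _ (hUS j), ?_, ?_⟩
  · rw [← VM.toG_iSup, htop, VM.toG_top]
  · intro j h0
    obtain ⟨z, hz0, -, hz⟩ := hU j
    apply hz0
    have h1 : z.val ∈ VM.toG (U j) := VM.val_mem_toG (by rw [hz]; exact self_mem X' z)
    have h2 : z.val ∈ (⊥ : Subgroup G) := h0 ▸ h1
    exact VM.ext (mem_bot.1 h2)
  · intro j A hA hne hAX hAS
    obtain ⟨z, hz0, hzS, hz⟩ := hU j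
    have h1 := E.irr hz0 hzS (A := VM.ofG A) (by
      intro v hv
      rw [← hz]
      exact VM.of_val_mem (hA hv)) (by
      intro h0
      apply hne
      rw [eq_bot_iff]
      intro g hg
      have h2 : (VM.mk g (hA hg).1 : VM hH D.comm) ∈ (VM.ofG A : AddSubgroup (VM hH D.comm)) := hg
      rw [h0, AddSubgroup.mem_bot] at h2
      exact mem_bot.2 (congrArg VM.val h2)) (by
      intro x hx v hv
      exact (mem_normalizer_iff.1 (hAX (mem_subgroupOf.1 hx)) _).1 hv) (by
      intro x hx v hv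
      exact (mem_normalizer_iff.1 (hAS (mem_subgroupOf.1 hx)) _).1 hv)
    refine le_antisymm hA ?_
    rintro g ⟨hg, hg'⟩
    rw [hz, ← h1] at hg'
    exact hg'
  · intro i j
    obtain ⟨f, h1, h2⟩ := hiso i j
    refine ⟨VM.isoG f, ?_, ?_⟩
    · intro x hx v w hw
      let v' : U i := ⟨VM.mk v.1 v.2.1, v.2.2⟩
      let w' : U i := ⟨VM.mk w.1 w.2.1, w.2.2⟩
      have h3 := h1 ⟨x, (le_sup_left : X ≤ H) hx⟩ (mem_subgroupOf.2 hx) v' w' (VM.ext hw)
      rw [VM.isoG_val f (v := w') rfl, VM.isoG_val f (v := v') rfl, h3, VM.val_smul]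
    · intro x hx v w hw
      let v' : U i := ⟨VM.mk v.1 v.2.1, v.2.2⟩
      let w' : U i := ⟨VM.mk w.1 w.2.1, w.2.2⟩
      have h3 := h2 ⟨x, (le_sup_right : S ≤ H) hx⟩ (mem_subgroupOf.2 hx) v' w' (VM.ext hw)
      rw [VM.isoG_val f (v := w') rfl, VM.isoG_val f (v := v') rfl, h3, VM.val_smul]

end GDat

end Cfsg.Agent.Omega.NO3b.Exit.Descent

end

section


/-!
# The local exit of NotFF: TYPE 2 (#18053 (3), helper999)

`MB.typeTwo` : if `|B : N_B(V^g)| = 2` for one line `V^g` which is not `B`-invariant, then `T2 B V F`: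
`|B : B ∩ O₂(X)| = 2`, `f(B) = |W|`, `C_W(B ∩ O₂(X)) = C_W(B)`, `|B| |F| = |V|`, and for every line `V^x` which is
not `B`-invariant `W = V^x C_W(B)`, `V^x ∩ C_W(B) = F`, `N_B(V^x) = B ∩ O₂(X)` acts faithfully on `V^x`.
-/

set_option autoImplicit false

namespace Cfsg.Agent.Omega.NO3b.Exit.TT

open Cfsg.Agent.Omega.FF.Basic Cfsg.Agent.Omega.FF.Quad
open Cfsg (pCore)
open scoped Pointwise

variable {X : Type*} [Group X] [Finite X] {W : Type*} [AddCommGroup W] [Finite W] [DistribMulAction X W]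
  {S : Sylow 2 X} {V F : AddSubgroup W} {B : Subgroup X}

/-- The conclusion of (3) for the line `V^x`. -/
structure T2x (B : Subgroup X) (V F : AddSubgroup W) (x : X) : Prop where
  sup : x • V ⊔ fx W B = ⊤
  inf : x • V ⊓ fx W B = F
  nf_eq : B ⊓ nf X (x • V) = B ⊓ pCore 2 X
  cf_eq : B ⊓ pCore 2 X ⊓ cf X (x • V) = ⊥
  inf₀ : x • V ⊓ fx W (B ⊓ pCore 2 X) = F

/-- The conclusion of (3): TYPE 2. -/
structure T2 (B : Subgroup X) (V F : AddSubgroup W) : Prop where
  idx : 2 * Nat.card ↥(B ⊓ pCore 2 X) = Nat.card B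
  card : Nat.card B * Nat.card F = Nat.card V
  mm_eq : mm W B = Nat.card W
  fx_eq : fx W (B ⊓ pCore 2 X) = fx W B
  all : ∀ x : X, ¬ B ≤ nf X (x • V) → T2x B V F x

theorem card_inf_lt {G : Type*} [Group G] [Finite G] {A C : Subgroup G} (hA : IsPGroup 2 A) (hne : ¬ A ≤ C) :
    2 * Nat.card ↥(A ⊓ C) ≤ Nat.card A := by
  have hf : Fact (Nat.Prime 2) := ⟨Nat.prime_two⟩
  have h1 : Nat.card ↥(A ⊓ C) < Nat.card A := by
    refine lt_of_le_of_ne (Subgroup.card_le_of_le inf_le_left) fun h => hne ?_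
    have := Subgroup.eq_of_le_of_card_ge (inf_le_left : A ⊓ C ≤ A) h.ge
    rw [← this]; exact inf_le_right
  exact two_mul_le_of_pow (IsPGroup.iff_card.1 (hA.to_le inf_le_left)) (IsPGroup.iff_card.1 hA) h1

/-- The elements which are trivial on `W / F`. -/
def KF (X : Type*) [Group X] {W : Type*} [AddCommGroup W] [DistribMulAction X W] (F : AddSubgroup W)
    (hF : ∀ x : X, ∀ f ∈ F, x • f = f) : Subgroup X where
  carrier := {x | ∀ w : W, x • w - w ∈ F}
  one_mem' := fun w => by rw [one_smul, sub_self]; exact F.zero_mem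
  mul_mem' := fun {a b} ha hb w => by
    have e : (a * b) • w - w = (a • (b • w - w)) + (a • w - w) := by rw [mul_smul, smul_sub]; abel
    rw [e, hF a _ (hb w)]; exact F.add_mem (hb w) (ha w)
  inv_mem' := fun {a} ha w => by
    have h1 := ha (a⁻¹ • w)
    rw [smul_inv_smul] at h1
    have e : a⁻¹ • w - w = -(w - a⁻¹ • w) := by abel
    rw [e]; exact F.neg_mem h1

namespace Dat

variable (h : Dat S V F)
include h

omit [Finite X] [Finite W] in
theorem KF_two {x : X} (hx : ∀ w : W, x • w - w ∈ F) : x * x = 1 := by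
  apply h.faith
  intro w
  have h1 := h.Fx x _ (hx w)
  have h2 : x • x • w = (x • w - w) + x • w := by
    have := h1
    rw [smul_sub] at this
    rw [← this]; abel
  rw [mul_smul, h2]
  have h3 := h.two (x • w)
  have e : (x • w - w) + x • w = (x • w + x • w) - w := by abel
  rw [e, h3, zero_sub]
  exact neg_eq_of_add_eq_zero_left (h.two w)

omit [Finite W] [Finite X] in
theorem KF_le : KF X F h.Fx ≤ pCore 2 X := by
  refine Lib.Cores.le_pCore ⟨fun a ha g => ?_⟩ ?_
  · intro w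
    have h1 := ha (g⁻¹ • w)
    have h2 := h.Fx g _ h1
    have e : (g * a * g⁻¹) • w - w = g • (a • g⁻¹ • w - g⁻¹ • w) := by
      rw [smul_sub, smul_inv_smul, mul_smul, mul_smul]
    rw [e, h2]; exact h1
  · intro x
    refine ⟨1, Subtype.ext ?_⟩
    have := h.KF_two x.2
    simpa [pow_two] using this

/-- `|V / F| > 2` -/
theorem two_lt : 2 * Nat.card F < Nat.card V := by
  by_contra hcon
  rw [not_lt] at hcon
  have hsq : ∀ a ∈ (S : Subgroup X), ∀ v ∈ V, a • a • v = v := by
    intro a ha v hv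
    have hmem : a • v - v ∈ F := by
      by_contra hne
      -- `0`, `v`, `a v - v` in different cosets
      have hvF : v ∉ F := fun h0 => hne (by rw [h.Fx a v h0, sub_self]; exact F.zero_mem)
      have havV := nf_smul (h.SV ha) hv
      have havF : a • v ∉ F := fun h0 => hvF (by
        have := h.Fx a⁻¹ _ h0
        rw [inv_smul_smul] at this
        rw [this]; exact h0)
      have h3 : F.relIndex V ≤ 2 := by
        have := card_mul_relIndex h.FV
        have p : 0 < Nat.card F := Nat.card_pos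
        rw [← this] at hcon
        by_contra h4
        rw [not_le] at h4
        have : Nat.card F * 3 ≤ Nat.card F * F.relIndex V := Nat.mul_le_mul_left _ h4
        omega
      have h4 : F.relIndex V ≠ 1 := by
        intro h5
        rw [AddSubgroup.relIndex_eq_one] at h5
        exact hvF (h5 hv)
      have h5 : F.relIndex V ≠ 0 := AddSubgroup.index_ne_zero_of_finite
      have h6 : F.relIndex V = 2 := by omega
      have h7 := AddSubgroup.add_mem_iff_of_index_two (H := F.addSubgroupOf V) h6 (a := ⟨a • v, havV⟩)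
        (b := ⟨v, hv⟩)
      have h8 : a • v + v ∈ F := by
        have : (⟨a • v, havV⟩ + ⟨v, hv⟩ : V) ∈ F.addSubgroupOf V := by
          rw [h7]
          simp only [AddSubgroup.mem_addSubgroupOf]
          exact ⟨fun h9 => absurd h9 havF, fun h9 => absurd h9 hvF⟩
        exact this
      apply hne
      have e : a • v - v = a • v + v - (v + v) := by abel
      rw [e, h.two, sub_zero]; exact h8
    have h1 := h.Fx a _ hmem
    have h2 : a • a • v = (a • v - v) + a • v := by
      rw [smul_sub] at h1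
      rw [← h1]; abel
    have e : (a • v - v) + a • v = (a • v + a • v) - v := by abel
    rw [h2, e, h.two, zero_sub]
    exact neg_eq_of_add_eq_zero_left (h.two v)
  have h1 := h.nff S S.isPGroup' h.SV hsq h.mv
  have h2 : Nat.card F ≤ Nat.card ↥(V ⊓ fx W (S : Subgroup X)) := card_le (le_inf h.FV (h.F_fx _))
  have h3 := card_inf_lt S.isPGroup' h.mv
  have h4 : Nat.card V * Nat.card ↥((S : Subgroup X) ⊓ cf X V) ≤
      Nat.card ↥(S : Subgroup X) * Nat.card ↥(V ⊓ fx W (S : Subgroup X)) := by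
    calc Nat.card V * Nat.card ↥((S : Subgroup X) ⊓ cf X V)
        ≤ (2 * Nat.card F) * Nat.card ↥((S : Subgroup X) ⊓ cf X V) := Nat.mul_le_mul_right _ hcon
      _ = (2 * Nat.card ↥((S : Subgroup X) ⊓ cf X V)) * Nat.card F := by ring
      _ ≤ Nat.card ↥(S : Subgroup X) * Nat.card F := Nat.mul_le_mul_right _ h3
      _ ≤ _ := Nat.mul_le_mul_left _ h2
  exact absurd h1 (not_lt.2 h4)

end Dat

namespace MB

variable (m : MB W B) (h : Dat S V F)
include m h

/-- (3) for one line -/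
theorem one {g : X} (hg : ¬ B ≤ nf X (g • V)) (hidx : 2 * Nat.card ↥(B ⊓ nf X (g • V)) = Nat.card B) :
    T2x B V F g ∧ 2 * Nat.card ↥(B ⊓ pCore 2 X) = Nat.card B ∧ Nat.card B * Nat.card F = Nat.card V ∧
      mm W B = Nat.card W ∧ fx W (B ⊓ pCore 2 X) = fx W B := by
  set Bg := B ⊓ nf X (g • V) with hBg
  have hBgB : Bg < B := lt_of_le_of_ne inf_le_left fun h0 => hg (by rw [← h0]; exact inf_le_right)
  have hinf : g • V ⊓ fx W B = F :=
    le_antisymm (fx_le h hg) (le_inf (h.F_le g) (h.F_fx B))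
  have hs := card_sup_inf (g • V) (fx W B)
  rw [hinf, card_smul'] at hs
  have hW := m.card_le_mm
  have p1 : 0 < Nat.card (fx W B) := Nat.card_pos
  have pF : 0 < Nat.card F := Nat.card_pos
  have hVF : ¬ g • V ≤ F := by
    intro h0
    apply hg
    have h1 : g • V = F := le_antisymm h0 (h.F_le g)
    intro b _
    rw [mem_nf, h1, h.F_smul]
  have hne : Bg ≠ ⊥ := by
    intro h0
    have hc : Nat.card B = 2 := by rw [← hidx, h0, Subgroup.card_bot]
    rw [mm, hc] at hW
    have h1 := card_le_top (g • V ⊔ fx W B)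
    have h2 : Nat.card V * Nat.card (fx W B) ≤ 2 * Nat.card F * Nat.card (fx W B) := by
      rw [← hs]
      calc Nat.card ↥(g • V ⊔ fx W B) * Nat.card F ≤ (2 * Nat.card (fx W B)) * Nat.card F :=
            Nat.mul_le_mul_right _ (h1.trans hW)
        _ = _ := by ring
    exact absurd h.two_lt (not_lt.2 (Nat.le_of_mul_le_mul_right h2 p1))
  -- `C_W(B_g) = C_W(B)`
  have hfx : fx W Bg = fx W B := by
    refine (eq_of_card_le (fx_anti hBgB.le) ?_).symm
    have h1 := m.two_mul h hBgB hne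
    rw [mm, mm, ← hidx] at h1
    have p : 0 < 2 * Nat.card Bg := Nat.mul_pos (by norm_num) Nat.card_pos
    refine Nat.le_of_mul_le_mul_left ?_ p
    calc 2 * Nat.card Bg * Nat.card (fx W Bg) = 2 * (Nat.card Bg * Nat.card (fx W Bg)) := by ring
      _ ≤ _ := h1
  have hmv : ¬ Bg ≤ cf X (g • V) := by
    intro h0
    apply hVF
    rw [← hinf, ← hfx]
    exact le_inf le_rfl (le_cf.1 h0)
  set E := Bg ⊓ cf X (g • V) with hE
  have hea : EA Bg := m.bo.ea.mono hBgB.le
  have h1 := h.nff' g hea.isPGroup inf_le_right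
    (fun a ha v _ => by rw [smul_smul, hea a ha, one_smul]) hmv
  rw [hfx, hinf] at h1
  have hf : Fact (Nat.Prime 2) := ⟨Nat.prime_two⟩
  have h2 : 2 * (Nat.card Bg * Nat.card F) ≤ Nat.card V * Nat.card E := by
    refine two_mul_le_of_pow ?_ ?_ h1
    · obtain ⟨a, ha⟩ := IsPGroup.iff_card.1 hea.isPGroup
      obtain ⟨b, hb⟩ := card_pow h.two F
      exact ⟨a + b, by rw [ha, hb, pow_add]⟩
    · obtain ⟨a, ha⟩ := IsPGroup.iff_card.1 (hea.isPGroup.to_le (inf_le_left : E ≤ Bg))
      obtain ⟨b, hb⟩ := card_pow h.two V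
      exact ⟨b + a, by rw [ha, hb, pow_add]⟩
  have h3 : g • V ⊔ fx W B ≤ fx W E :=
    sup_le (le_cf.1 inf_le_right) (fx_anti (inf_le_left.trans hBgB.le))
  have h4 := card_le h3
  have h5 : mm W B ≤ mm W E := by
    rw [mm, mm, ← hidx]
    refine Nat.le_of_mul_le_mul_right ?_ pF
    calc 2 * Nat.card Bg * Nat.card (fx W B) * Nat.card F
        = 2 * (Nat.card Bg * Nat.card F) * Nat.card (fx W B) := by ring
      _ ≤ Nat.card V * Nat.card E * Nat.card (fx W B) := Nat.mul_le_mul_right _ h2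
      _ = Nat.card E * (Nat.card V * Nat.card (fx W B)) := by ring
      _ = Nat.card E * (Nat.card ↥(g • V ⊔ fx W B) * Nat.card F) := by rw [hs]
      _ = Nat.card E * Nat.card ↥(g • V ⊔ fx W B) * Nat.card F := by ring
      _ ≤ Nat.card E * Nat.card (fx W E) * Nat.card F :=
        Nat.mul_le_mul_right _ (Nat.mul_le_mul_left _ h4)
  have hE0 : E = ⊥ := by
    by_contra h0
    have h6 : 2 * mm W E ≤ mm W B := m.two_mul h (lt_of_le_of_lt (inf_le_left : E ≤ Bg) hBgB) h0
    have p : 0 < mm W B := Nat.mul_pos Nat.card_pos Nat.card_pos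
    omega
  rw [hE0, mm_bot] at h5
  have hmm : mm W B = Nat.card W := le_antisymm h5 hW
  rw [hE0, Subgroup.card_bot, mul_one] at h2
  -- equality everywhere
  have h6 : Nat.card ↥(g • V ⊔ fx W B) = Nat.card W ∧ Nat.card V = 2 * (Nat.card Bg * Nat.card F) := by
    have h7 := card_le_top (g • V ⊔ fx W B)
    have h8 : Nat.card W * Nat.card F = 2 * (Nat.card Bg * Nat.card F) * Nat.card (fx W B) := by
      rw [← hmm, mm, ← hidx]; ring
    have h9 : Nat.card W * Nat.card F ≤ Nat.card ↥(g • V ⊔ fx W B) * Nat.card F := by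
      rw [h8, hs]; exact Nat.mul_le_mul_right _ h2
    have h10 := le_antisymm h7 (Nat.le_of_mul_le_mul_right h9 pF)
    refine ⟨h10, ?_⟩
    have h11 : Nat.card V * Nat.card (fx W B) = 2 * (Nat.card Bg * Nat.card F) * Nat.card (fx W B) := by
      rw [← hs, h10, h8]
    exact Nat.eq_of_mul_eq_mul_right p1 h11
  have hsup : g • V ⊔ fx W B = ⊤ := by
    apply eq_of_card_le le_top
    rw [card_top, h6.1]
  -- `B_g ≤ O₂(X)`
  have hBgQ : Bg ≤ pCore 2 X := by
    refine le_trans (fun b hb => ?_) h.KF_le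
    intro w
    have hw : w ∈ g • V ⊔ fx W B := by rw [hsup]; exact AddSubgroup.mem_top w
    obtain ⟨v, hv, c, hc, rfl⟩ := mem_sup hw
    have e : b • (v + c) - (v + c) = (b • v - v) + (b • c - c) := by rw [smul_add]; abel
    rw [e, hc b (hBgB.le hb), sub_self, add_zero]
    exact m.comm_le h hg (hBgB.le hb) hb.2 hv
  have hBg0 : Bg = B ⊓ pCore 2 X :=
    le_antisymm (le_inf inf_le_left hBgQ) (le_inf inf_le_left (inf_le_right.trans (h.core_nf g)))
  refine ⟨⟨hsup, hinf, hBg0, ?_, ?_⟩, ?_, ?_, hmm, ?_⟩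
  · rw [← hBg0]; exact hE0
  · rw [← hBg0, hfx]; exact hinf
  · rw [← hBg0]; exact hidx
  · rw [h6.2, ← hidx]; ring
  · rw [← hBg0]; exact hfx

/-- **(3) TYPE 2** -/
theorem typeTwo {g : X} (hg : ¬ B ≤ nf X (g • V)) (hidx : 2 * Nat.card ↥(B ⊓ nf X (g • V)) = Nat.card B) :
    T2 B V F := by
  obtain ⟨-, h1, h2, h3, h4⟩ := m.one h hg hidx
  refine ⟨h1, h2, h3, h4, fun x hx => (m.one h hx ?_).1⟩
  have h5 : B ⊓ pCore 2 X ≤ B ⊓ nf X (x • V) := le_inf inf_le_left (inf_le_right.trans (h.core_nf x))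
  have h6 := Subgroup.card_le_of_le h5
  have h7 := card_inf_lt m.bo.ea.isPGroup hx
  omega

/-- TYPE 2 from `|B : B ∩ O₂(X)| = 2`, if `B` moves some line -/
theorem typeTwo' {g : X} (hg : ¬ B ≤ nf X (g • V)) (hidx : 2 * Nat.card ↥(B ⊓ pCore 2 X) = Nat.card B) :
    T2 B V F := by
  refine m.typeTwo h hg ?_
  have h5 : B ⊓ pCore 2 X ≤ B ⊓ nf X (g • V) := le_inf inf_le_left (inf_le_right.trans (h.core_nf g))
  have h6 := Subgroup.card_le_of_le h5
  have h7 := card_inf_lt m.bo.ea.isPGroup hg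
  omega

/-- `[W, B ∩ O₂(X)] ≤ F` in TYPE 2 -/
theorem T2.comm_core {B : Subgroup X} {V F : AddSubgroup W} (t : T2 B V F) (m : MB W B) (h : Dat S V F) {g : X}
    (hg : ¬ B ≤ nf X (g • V)) {b : X} (hb : b ∈ B ⊓ pCore 2 X) (w : W) : b • w - w ∈ F := by
  have tx := t.all g hg
  have hw : w ∈ g • V ⊔ fx W B := by rw [tx.sup]; exact AddSubgroup.mem_top w
  obtain ⟨v, hv, c, hc, rfl⟩ := mem_sup hw
  have e : b • (v + c) - (v + c) = (b • v - v) + (b • c - c) := by rw [smul_add]; abel
  rw [e, hc b hb.1, sub_self, add_zero]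
  have hb' : b ∈ B ⊓ nf X (g • V) := by rw [tx.nf_eq]; exact hb
  exact m.comm_le h hg hb.1 hb'.2 hv

end MB

end Cfsg.Agent.Omega.NO3b.Exit.TT

end

section


/-!
# END5 (#23013), the block lemma: the stabilisers of two different points generate

`Y` acts irreducibly on the finite additive group `A` of exponent 2, `K = End_Y(A)`, and `Y` induces all
`K`-transvections of `A`.  If `X ≤ Y` contains `C_Y(n)` and `C_Y(n')`, `n'` not a multiple of `n ≠ 0`, then `X = Y`.
-/

set_option autoImplicit false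

namespace Cfsg.Agent.Omega.NO3b.BasePt.TwoPts

open Subgroup Cfsg.Agent.Omega.NO3b.Exit.Ten
open Cfsg.Agent.Omega.NO3b.Exit.Descent (AllTv)

universe u v

variable {Y : Type u} {A : Type v} [Group Y] [AddCommGroup A] [DistribMulAction Y A] [Finite A] [hI : IsIrr Y A]

/-- a functional with given values on two independent vectors -/
theorem exists_dual {n m : A} (hn : n ≠ 0) (hm : ∀ κ : KK Y A, m ≠ κ • n) (c d : KK Y A) :
    ∃ φ : Module.Dual (KK Y A) A, φ n = c ∧ φ m = d := by
  have h1 : m ∉ Submodule.span (KK Y A) ({n} : Set A) := by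
    intro h
    obtain ⟨κ, hκ⟩ := Submodule.mem_span_singleton.1 h
    exact hm κ hκ.symm
  have h2 : n ∉ Submodule.span (KK Y A) ({m} : Set A) := by
    intro h
    obtain ⟨κ, hκ⟩ := Submodule.mem_span_singleton.1 h
    have h0 : κ ≠ 0 := by
      rintro rfl
      rw [zero_smul] at hκ
      exact hn hκ.symm
    apply hm κ⁻¹
    rw [← hκ, smul_smul, inv_mul_cancel₀ h0, one_smul]
  obtain ⟨α, hα1, hα2⟩ := Submodule.exists_dual_map_eq_bot_of_notMem h1 inferInstance
  obtain ⟨β, hβ1, hβ2⟩ := Submodule.exists_dual_map_eq_bot_of_notMem h2 inferInstance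
  have hαn : α n = 0 := by
    have h : α n ∈ (Submodule.span (KK Y A) ({n} : Set A)).map α := ⟨n, Submodule.mem_span_singleton_self n, rfl⟩
    rw [hα2, Submodule.mem_bot] at h
    exact h
  have hβm : β m = 0 := by
    have h : β m ∈ (Submodule.span (KK Y A) ({m} : Set A)).map β := ⟨m, Submodule.mem_span_singleton_self m, rfl⟩
    rw [hβ2, Submodule.mem_bot] at h
    exact h
  refine ⟨(c * (β n)⁻¹) • β + (d * (α m)⁻¹) • α, ?_, ?_⟩
  · rw [LinearMap.add_apply, LinearMap.smul_apply, LinearMap.smul_apply, hαn, smul_zero, add_zero, smul_eq_mul,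
      mul_assoc, inv_mul_cancel₀ hβ1, mul_one]
  · rw [LinearMap.add_apply, LinearMap.smul_apply, LinearMap.smul_apply, hβm, smul_zero, zero_add, smul_eq_mul,
      mul_assoc, inv_mul_cancel₀ hα1, mul_one]

/-- `Y` is transitive on pairs `u, v` of independent vectors by transvections -/
theorem trans_indep {X : Subgroup Y} (hX : ∀ (t : Y) (φ : Module.Dual (KK Y A) A) (a : A), φ a = 0 →
    (∀ x : A, t • x = x + φ x • a) → t ∈ X) (htv : AllTv Y A) {u v : A} (hu : u ≠ 0)
    (hv : ∀ κ : KK Y A, v ≠ κ • u) : ∃ t ∈ X, t • u = v := by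
  obtain ⟨φ, h1, h2⟩ := exists_dual hu hv 1 1
  have h3 : φ (v - u) = 0 := by rw [map_sub, h1, h2, sub_self]
  obtain ⟨t, ht⟩ := htv φ (v - u) h3
  refine ⟨t, hX t φ _ h3 ht, ?_⟩
  rw [ht, h1, one_smul]
  abel

/-- a subgroup containing all transvections is transitive on the nonzero vectors, if `dim A ≥ 2` -/
theorem trans_ne {X : Subgroup Y} (hX : ∀ (t : Y) (φ : Module.Dual (KK Y A) A) (a : A), φ a = 0 →
    (∀ x : A, t • x = x + φ x • a) → t ∈ X) (htv : AllTv Y A) {n n' : A} (hn : n ≠ 0)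
    (hn' : ∀ κ : KK Y A, n' ≠ κ • n) {u v : A} (hu : u ≠ 0) (hv : v ≠ 0) : ∃ t ∈ X, t • u = v := by
  by_cases h1 : ∀ κ : KK Y A, v ≠ κ • u
  · exact trans_indep hX htv hu h1
  · push Not at h1
    obtain ⟨κ, rfl⟩ := h1
    have hκ : κ ≠ 0 := by
      rintro rfl
      exact hv (zero_smul _ _)
    -- a vector independent of `u`
    have h2 : ∃ w : A, ∀ κ : KK Y A, w ≠ κ • u := by
      by_contra hcon
      push Not at hcon
      obtain ⟨a, ha⟩ := hcon n
      obtain ⟨b, hb⟩ := hcon n'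
      have ha0 : a ≠ 0 := by
        rintro rfl
        exact hn (by rw [ha, zero_smul])
      apply hn' (b * a⁻¹)
      rw [ha, smul_smul, mul_assoc, inv_mul_cancel₀ ha0, mul_one, ← hb]
    obtain ⟨w, hw⟩ := h2
    have hw0 : w ≠ 0 := by
      rintro rfl
      exact hw 0 (by rw [zero_smul])
    obtain ⟨t, ht, htu⟩ := trans_indep hX htv hu hw
    obtain ⟨s, hs, hsw⟩ := trans_indep (v := κ • u) hX htv hw0 (fun c hc => by
      have hc0 : c ≠ 0 := by
        rintro rfl
        rw [zero_smul] at hc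
        exact hv hc
      apply hw (c⁻¹ * κ)
      rw [mul_smul, hc, smul_smul, inv_mul_cancel₀ hc0, one_smul])
    exact ⟨s * t, X.mul_mem hs ht, by rw [mul_smul, htu, hsw]⟩

/-- **The stabilisers of two different points generate `Y`.** -/
theorem eq_top (htv : AllTv Y A) {X : Subgroup Y} {n n' : A} (hn : n ≠ 0) (hn' : ∀ κ : KK Y A, n' ≠ κ • n)
    (h1 : ∀ y : Y, y • n = n → y ∈ X) (h2 : ∀ y : Y, y • n' = n' → y ∈ X) : X = ⊤ := by
  -- all transvections are in `X`
  have hX : ∀ (t : Y) (φ : Module.Dual (KK Y A) A) (a : A), φ a = 0 →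
      (∀ x : A, t • x = x + φ x • a) → t ∈ X := by
    intro t φ a ha ht
    by_cases hφn : φ n = 0
    · apply h1
      rw [ht, hφn, zero_smul, add_zero]
    · obtain ⟨ψ, hψ1, hψ2⟩ := exists_dual hn hn' 0 (-(φ n' * (φ n)⁻¹))
      obtain ⟨g, hg⟩ := htv ψ n hψ1
      have hgn : g • n = n := by rw [hg, hψ1, zero_smul, add_zero]
      have hgX := h1 g hgn
      have hφg : φ (g • n') = 0 := by
        rw [hg, hψ2, map_add, map_smul, smul_eq_mul, neg_mul, mul_assoc, inv_mul_cancel₀ hφn, mul_one, add_neg_cancel]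
      have h3 : g⁻¹ * t * g ∈ X := by
        apply h2
        rw [mul_smul, mul_smul, ht, hφg, zero_smul, add_zero, inv_smul_smul]
      have h4 := X.mul_mem (X.mul_mem hgX h3) (X.inv_mem hgX)
      have e : g * (g⁻¹ * t * g) * g⁻¹ = t := by group
      rwa [e] at h4
  rw [eq_top_iff]
  intro y _
  have hy0 : y • n ≠ 0 := fun h => hn (by rwa [smul_eq_zero_iff_eq] at h)
  obtain ⟨t, ht, htn⟩ := trans_ne hX htv hn hn' hn hy0
  have h3 : t⁻¹ * y ∈ X := by
    apply h1
    rw [mul_smul, ← htn, inv_smul_smul]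
  have h4 := X.mul_mem ht h3
  rwa [mul_inv_cancel_left] at h4

end Cfsg.Agent.Omega.NO3b.BasePt.TwoPts

end
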