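import Cfsg.Agent.Mrg.Omega.NO3b.Exit.TenBase
import Cfsg.Agent.Mrg.Omega.NO3b.Exit.BO

section


/-!
# From TIGHT to the M-side (#18319 (1), #18653; plug X-side → `Ten.Dat`)

* `nst M Q n` : `M`, `⟨Q^M⟩`, `⟨Q^{⟨Q^M⟩}⟩`, …; `sbc M Q = ⨅ n, nst M Q n` : the subnormal closure of `Q` in `M`;
  `sbc_gen`, `sbc_conj` (conjugation), `sbc_red` (`O₂(sbc M Q / C(V)) = 1` if `O₂(M / C_M(V)) = 1`);
* `MX M X D B V F g` : `H` acts faithfully on `U`, `M` stabilises `V`, `D ⊴ M`, `D ≤ X` centralises `V`, `B ≤ D`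
  quadratic, `X` centralises `F ≤ V` and the lines `x V ≠ V` meet `V` in `F`, `U = g V + C_U(B)`,
  `g V ∩ C_U(B) = F`, `g ∈ X`, some `1 ≠ y ∈ B` has `[U, y] ≤ F`, and the elements `x ∈ X` with `[U, x] ≤ F` lie in
  `M`;
* `KV M V = C_M(U / V)`, `FFq M F = {m ∈ M | [U, m] ≤ F, [F, m] = 0}`, `BBq M V B = ⟨B^{KV}⟩`;
* `MX.dat : Ten.Dat (sbc M (FFq M F)) (FFq M F) (BBq M V B) V F (g • V) (fx U B) g⁻¹`.
-/

set_option autoImplicit false

namespace Cfsg.Agent.Omega.NO3b.Exit.TDat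

open Subgroup
open Cfsg.Agent.Omega.FF.Basic
open Cfsg.Agent.Omega.NO3b.Exit.Ten (br br_def br_add br_mul br_one br_zero br_conj_smul br_eq_zero smul_eq)
open scoped Pointwise

universe u v

/-! ### The subnormal closure -/

section sbc

variable {H : Type u} [Group H]

/-- `M`, `⟨Q^M⟩`, … -/
def nst (M Q : Subgroup H) : ℕ → Subgroup H
  | 0 => M
  | n + 1 => closure {x | ∃ k ∈ nst M Q n, ∃ q ∈ Q, x = k * q * k⁻¹}

/-- The subnormal closure of `Q` in `M`. -/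
def sbc (M Q : Subgroup H) : Subgroup H := ⨅ n, nst M Q n

variable {M Q : Subgroup H}

theorem le_nst (hQ : Q ≤ M) (n : ℕ) : Q ≤ nst M Q n := by
  cases n with
  | zero => exact hQ
  | succ n => exact fun q hq => subset_closure ⟨1, one_mem _, q, hq, by group⟩

theorem nst_succ_le (hQ : Q ≤ M) (n : ℕ) : nst M Q (n + 1) ≤ nst M Q n := by
  refine (closure_le _).2 ?_
  rintro _ ⟨k, hk, q, hq, rfl⟩
  exact mul_mem (mul_mem hk (le_nst hQ n hq)) (inv_mem hk)

theorem nst_anti (hQ : Q ≤ M) : Antitone (nst M Q) := antitone_nat_of_succ_le (nst_succ_le hQ)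

theorem nst_norm (n : ℕ) {k x : H} (hk : k ∈ nst M Q n) (hx : x ∈ nst M Q (n + 1)) :
    k * x * k⁻¹ ∈ nst M Q (n + 1) := by
  change x ∈ Subgroup.closure _ at hx
  induction hx using closure_induction with
  | mem x hx =>
    obtain ⟨l, hl, q, hq, rfl⟩ := hx
    exact subset_closure ⟨k * l, mul_mem hk hl, q, hq, by group⟩
  | one => rw [mul_one, mul_inv_cancel]; exact one_mem _
  | mul x y _ _ hx hy =>
    have e : k * (x * y) * k⁻¹ = k * x * k⁻¹ * (k * y * k⁻¹) := by group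
    rw [e]; exact mul_mem hx hy
  | inv x _ hx =>
    have e : k * x⁻¹ * k⁻¹ = (k * x * k⁻¹)⁻¹ := by group
    rw [e]; exact inv_mem hx

theorem le_sbc (hQ : Q ≤ M) : Q ≤ sbc M Q := le_iInf fun n => le_nst hQ n

theorem sbc_le_nst (n : ℕ) : sbc M Q ≤ nst M Q n := iInf_le _ n

theorem sbc_le : sbc M Q ≤ M := sbc_le_nst 0

theorem exists_stab [Finite H] (hQ : Q ≤ M) : ∃ n, sbc M Q = nst M Q n ∧ nst M Q (n + 1) = nst M Q n := by
  obtain ⟨n, hn⟩ := WellFoundedGT.monotone_chain_condition (α := (Subgroup H)ᵒᵈ)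
    ⟨fun n => OrderDual.toDual (nst M Q n), fun _ _ h => nst_anti hQ h⟩
  have h1 : ∀ m, n ≤ m → nst M Q n = nst M Q m := fun m hm => hn m hm
  refine ⟨n, le_antisymm (sbc_le_nst n) (le_iInf fun m => ?_), (h1 (n + 1) (Nat.le_succ n)).symm⟩
  rcases le_total n m with h | h
  · exact (h1 m h).le
  · exact nst_anti hQ h

/-- the normal closure of `Q` in `sbc M Q` is `sbc M Q` -/
theorem sbc_gen [Finite H] (hQ : Q ≤ M) {N : Subgroup H} (hN : ∀ k ∈ sbc M Q, ∀ n ∈ N, k * n * k⁻¹ ∈ N)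
    (hQN : Q ≤ N) : sbc M Q ≤ N := by
  obtain ⟨n, h1, h2⟩ := exists_stab hQ
  rw [h1, ← h2]
  refine (closure_le _).2 ?_
  rintro _ ⟨k, hk, q, hq, rfl⟩
  exact hN k (by rw [h1]; exact hk) q (hQN hq)

/-- `nst` and conjugation -/
theorem nst_conj {k : H} (hkM : ∀ m ∈ M, k * m * k⁻¹ ∈ M) {Q' : Subgroup H} (hQ : ∀ q ∈ Q, k * q * k⁻¹ ∈ Q') (n : ℕ)
    {x : H} (hx : x ∈ nst M Q n) : k * x * k⁻¹ ∈ nst M Q' n := by
  induction n generalizing x with
  | zero => exact hkM x hx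
  | succ n ih =>
    change x ∈ Subgroup.closure _ at hx
    induction hx using closure_induction with
    | mem x hx =>
      obtain ⟨l, hl, q, hq, rfl⟩ := hx
      exact subset_closure ⟨k * l * k⁻¹, ih hl, k * q * k⁻¹, hQ q hq, by group⟩
    | one => rw [mul_one, mul_inv_cancel]; exact one_mem _
    | mul x y _ _ hx hy =>
      have e : k * (x * y) * k⁻¹ = k * x * k⁻¹ * (k * y * k⁻¹) := by group
      rw [e]; exact mul_mem hx hy
    | inv x _ hx =>
      have e : k * x⁻¹ * k⁻¹ = (k * x * k⁻¹)⁻¹ := by group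
      rw [e]; exact inv_mem hx

theorem sbc_conj {k : H} (hkM : ∀ m ∈ M, k * m * k⁻¹ ∈ M) {Q' : Subgroup H} (hQ : ∀ q ∈ Q, k * q * k⁻¹ ∈ Q')
    {x : H} (hx : x ∈ sbc M Q) : k * x * k⁻¹ ∈ sbc M Q' :=
  mem_iInf.2 fun n => nst_conj hkM hQ n (mem_iInf.1 hx n)

/-- `sbc` is monotone in `Q`. -/
theorem nst_mono {Q' : Subgroup H} (hQ : Q ≤ Q') (n : ℕ) : nst M Q n ≤ nst M Q' n := by
  induction n with
  | zero => exact le_rfl
  | succ n ih =>
    refine closure_mono ?_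
    rintro _ ⟨k, hk, q, hq, rfl⟩
    exact ⟨k, ih hk, q, hQ hq, rfl⟩

theorem sbc_mono {Q' : Subgroup H} (hQ : Q ≤ Q') : sbc M Q ≤ sbc M Q' := iInf_mono fun n => nst_mono hQ n

/-- a normal subgroup of `M` containing `Q` contains `sbc M Q` -/
theorem sbc_le_of_normal {N : Subgroup H} (hN : ∀ k ∈ M, ∀ n ∈ N, k * n * k⁻¹ ∈ N) (hQN : Q ≤ N) :
    sbc M Q ≤ N := by
  refine (sbc_le_nst 1).trans ((closure_le _).2 ?_)
  rintro _ ⟨k, hk, q, hq, rfl⟩
  exact hN k hk q (hQN hq)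

end sbc

/-! ### `O₂(M / C_M(V)) = 1` -/

section red

variable {H : Type u} {U : Type v} [Group H] [AddCommGroup U] [DistribMulAction H U]

/-- `O₂(M / C_M(V)) = 1` -/
def Red (M : Subgroup H) (V : AddSubgroup U) : Prop :=
  ∀ N : Subgroup H, N ≤ M → (∀ k ∈ M, ∀ n ∈ N, k * n * k⁻¹ ∈ N) →
    (∀ n ∈ N, ∃ j : ℕ, ∀ v ∈ V, n ^ 2 ^ j • v = v) → ∀ n ∈ N, ∀ v ∈ V, n • v = v

/-- a normal subgroup inherits `Red` -/
theorem Red.normal [Finite H] {M M' : Subgroup H} {V : AddSubgroup U} (hr : Red M V)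
    (hV : ∀ m ∈ M, ∀ v ∈ V, m • v ∈ V) (hle : M' ≤ M) (hn : ∀ k ∈ M, ∀ n ∈ M', k * n * k⁻¹ ∈ M') : Red M' V := by
  classical
  have : Fact (Nat.Prime 2) := ⟨Nat.prime_two⟩
  -- the set of normal subgroups of `M'` which act as 2-groups
  let 𝒩 : Set (Subgroup H) := {N | N ≤ M' ∧ (∀ k ∈ M', ∀ n ∈ N, k * n * k⁻¹ ∈ N) ∧
    ∀ n ∈ N, ∃ j : ℕ, ∀ v ∈ V, n ^ 2 ^ j • v = v}
  have hbot : (⊥ : Subgroup H) ∈ 𝒩 := by
    refine ⟨bot_le, fun k _ n hn => ?_, fun n hn => ⟨0, fun v _ => ?_⟩⟩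
    · rw [mem_bot] at hn ⊢; rw [hn]; group
    · rw [mem_bot] at hn; rw [hn, one_pow, one_smul]
  -- closed under sup
  have hsup : ∀ N₁ ∈ 𝒩, ∀ N₂ ∈ 𝒩, N₁ ⊔ N₂ ∈ 𝒩 := by
    rintro N₁ ⟨a1, a2, a3⟩ N₂ ⟨b1, b2, b3⟩
    have hle' : N₁ ⊔ N₂ ≤ M' := sup_le a1 b1
    have hnn : N₁ ≤ normalizer (N₂ : Set H) := by
      intro x hx
      rw [mem_normalizer_iff]
      intro y
      refine ⟨fun hy => b2 x (a1 hx) y hy, fun hy => ?_⟩
      have h1 := b2 x⁻¹ (inv_mem (a1 hx)) _ hy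
      have e : x⁻¹ * (x * y * x⁻¹) * x⁻¹⁻¹ = y := by group
      rwa [e] at h1
    refine ⟨hle', ?_, ?_⟩
    · intro k hk n hn'
      have h1 : N₁ ⊔ N₂ ≤ (N₁ ⊔ N₂).comap (MulAut.conj k).toMonoidHom := by
        refine sup_le (fun x hx => ?_) fun x hx => ?_
        · exact (le_sup_left : N₁ ≤ N₁ ⊔ N₂) (a2 k hk x hx)
        · exact (le_sup_right : N₂ ≤ N₁ ⊔ N₂) (b2 k hk x hx)
      exact h1 hn'
    · -- the action as a homomorphism from the stabiliser
      let P : Subgroup H := N₁ ⊔ N₂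
      let C : Subgroup P :=
        { carrier := {x | ∀ v ∈ V, (x : H) • v = v}
          one_mem' := fun v _ => one_smul _ v
          mul_mem' := fun {a b} ha hb v hv => by
            rw [Subgroup.coe_mul, mul_smul, hb v hv, ha v hv]
          inv_mem' := fun {a} ha v hv => by
            rw [Subgroup.coe_inv, inv_smul_eq_iff, ha v hv] }
      have hC : C.Normal := by
        constructor
        intro n hn g v hv
        have hg : ((g : H))⁻¹ • v ∈ V := hV _ (inv_mem (hle (hle' g.2))) v hv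
        have e : ((g * n * g⁻¹ : P) : H) • v = (g : H) • (n : H) • (g : H)⁻¹ • v := by
          rw [Subgroup.coe_mul, Subgroup.coe_mul, Subgroup.coe_inv, mul_smul, mul_smul]
        rw [e, hn _ hg, smul_inv_smul]
      have key : ∀ (N : Subgroup H) (hNP : N ≤ P), (∀ n ∈ N, ∃ j : ℕ, ∀ v ∈ V, n ^ 2 ^ j • v = v) →
          IsPGroup 2 ((N.subgroupOf P).map (QuotientGroup.mk' C)) := by
        rintro N hNP hN ⟨_, ⟨x, hx, rfl⟩⟩
        obtain ⟨j, hj⟩ := hN x hx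
        refine ⟨j, Subtype.ext ?_⟩
        rw [Subgroup.coe_pow, Subgroup.coe_one]
        change (QuotientGroup.mk' C x) ^ 2 ^ j = 1
        rw [← map_pow, QuotientGroup.mk'_apply, QuotientGroup.eq_one_iff]
        intro v hv
        rw [Subgroup.coe_pow]
        exact hj v hv
      have k1 := key N₁ le_sup_left a3
      have k2 := key N₂ le_sup_right b3
      have k3 : IsPGroup 2 (((N₁.subgroupOf P).map (QuotientGroup.mk' C) ⊔
          (N₂.subgroupOf P).map (QuotientGroup.mk' C) : Subgroup (P ⧸ C))) := by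
        have hN2 : (N₂.subgroupOf P).Normal := ⟨fun n hn g => by
          rw [mem_subgroupOf] at hn ⊢
          exact b2 g (hle' g.2) n hn⟩
        have := hN2.map (QuotientGroup.mk' C) (QuotientGroup.mk'_surjective C)
        exact IsPGroup.to_sup_of_normal_right k1 k2
      rw [← Subgroup.map_sup] at k3
      have k4 : N₁.subgroupOf P ⊔ N₂.subgroupOf P = ⊤ := by
        rw [← subgroupOf_sup (le_sup_left : N₁ ≤ P) (le_sup_right : N₂ ≤ P), subgroupOf_self]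
      rw [k4] at k3
      intro n hn'
      obtain ⟨j, hj⟩ := k3 ⟨QuotientGroup.mk' C ⟨n, hn'⟩, ⟨⟨n, hn'⟩, trivial, rfl⟩⟩
      refine ⟨j, fun v hv => ?_⟩
      have h1 := congrArg Subtype.val hj
      rw [Subgroup.coe_pow, Subgroup.coe_one] at h1
      change (QuotientGroup.mk' C ⟨n, hn'⟩) ^ 2 ^ j = 1 at h1
      rw [← map_pow, QuotientGroup.mk'_apply, QuotientGroup.eq_one_iff] at h1
      have h2 := h1 v hv
      rwa [Subgroup.coe_pow] at h2
  obtain ⟨R, hR, hmax⟩ := Set.exists_max_image 𝒩 (fun N => Nat.card N) (Set.toFinite _) ⟨⊥, hbot⟩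
  have hall : ∀ N ∈ 𝒩, N ≤ R := by
    intro N hN
    have h1 := hmax _ (hsup N hN R hR)
    have h2 : R = N ⊔ R := Subgroup.eq_of_le_of_card_ge le_sup_right h1
    rw [h2]; exact le_sup_left
  -- `R` is normalised by `M`
  have hRM : ∀ k ∈ M, ∀ n ∈ R, k * n * k⁻¹ ∈ R := by
    intro k hk n hn'
    have h1 : R.map (MulAut.conj k).toMonoidHom ∈ 𝒩 := by
      refine ⟨?_, ?_, ?_⟩
      · rintro _ ⟨x, hx, rfl⟩
        exact hn k hk x (hR.1 hx)
      · rintro l hl _ ⟨x, hx, rfl⟩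
        refine ⟨k⁻¹ * l * k * x * (k⁻¹ * l * k)⁻¹, ?_, ?_⟩
        · refine hR.2.1 _ ?_ x hx
          have := hn k⁻¹ (inv_mem hk) l hl
          rwa [inv_inv] at this
        · simp only [MulEquiv.coe_toMonoidHom, MulAut.conj_apply]
          group
      · rintro _ ⟨x, hx, rfl⟩
        obtain ⟨j, hj⟩ := hR.2.2 x hx
        refine ⟨j, fun v hv => ?_⟩
        have e : (MulAut.conj k).toMonoidHom x ^ 2 ^ j • v = k • (x ^ 2 ^ j) • k⁻¹ • v := by
          have e1 : (MulAut.conj k).toMonoidHom x ^ 2 ^ j = k * x ^ 2 ^ j * k⁻¹ := by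
            rw [← map_pow]; rfl
          rw [e1, mul_smul, mul_smul]
        rw [e, hj _ (hV _ (inv_mem hk) v hv), smul_inv_smul]
    exact hall _ h1 ⟨n, hn', rfl⟩
  intro N hN1 hN2 hN3 n hn'
  exact hr R (hR.1.trans hle) hRM hR.2.2 n (hall N ⟨hN1, hN2, hN3⟩ hn')

theorem Red.nst [Finite H] {M Q : Subgroup H} {V : AddSubgroup U} (hr : Red M V)
    (hV : ∀ m ∈ M, ∀ v ∈ V, m • v ∈ V) (hQ : Q ≤ M) (n : ℕ) : Red (nst M Q n) V := by
  induction n with
  | zero => exact hr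
  | succ n ih =>
    exact ih.normal (fun m hm v hv => hV m (nst_anti hQ (Nat.zero_le n) hm) v hv) (nst_succ_le hQ n)
      fun k hk x hx => nst_norm n hk hx

theorem Red.sbc [Finite H] {M Q : Subgroup H} {V : AddSubgroup U} (hr : Red M V)
    (hV : ∀ m ∈ M, ∀ v ∈ V, m • v ∈ V) (hQ : Q ≤ M) : Red (sbc M Q) V := by
  obtain ⟨n, h1, -⟩ := exists_stab hQ
  rw [h1]; exact hr.nst hV hQ n

end red

/-! ### The M-side frame -/

section mx

variable {H : Type u} {U : Type v} [Group H] [AddCommGroup U] [DistribMulAction H U]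

/-- `C_M(U / V)` -/
def KV (M : Subgroup H) (V : AddSubgroup U) (hV : ∀ m ∈ M, ∀ v ∈ V, m • v ∈ V) : Subgroup H where
  carrier := {m | m ∈ M ∧ ∀ u : U, br m u ∈ V}
  one_mem' := ⟨one_mem _, fun u => by rw [br_one]; exact zero_mem _⟩
  mul_mem' := by
    rintro a b ⟨ha, ha'⟩ ⟨hb, hb'⟩
    refine ⟨mul_mem ha hb, fun u => ?_⟩
    rw [br_mul]
    exact V.add_mem (V.add_mem (ha' _) (hb' u)) (ha' u)
  inv_mem' := by
    rintro a ⟨ha, ha'⟩
    refine ⟨inv_mem ha, fun u => ?_⟩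
    have e : br a⁻¹ u = - (a⁻¹ • br a u) := by
      simp only [br_def, smul_sub, inv_smul_smul]; abel
    rw [e]
    exact V.neg_mem (hV _ (inv_mem ha) _ (ha' u))

/-- `{m ∈ M | [U, m] ≤ F, [F, m] = 0}` -/
def FFq (M : Subgroup H) (F : AddSubgroup U) : Subgroup H where
  carrier := {m | m ∈ M ∧ (∀ u : U, br m u ∈ F) ∧ ∀ f ∈ F, m • f = f}
  one_mem' := ⟨one_mem _, fun u => by rw [br_one]; exact zero_mem _, fun f _ => one_smul _ f⟩
  mul_mem' := by
    rintro a b ⟨ha, ha', ha''⟩ ⟨hb, hb', hb''⟩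
    refine ⟨mul_mem ha hb, fun u => ?_, fun f hf => ?_⟩
    · rw [br_mul]
      exact F.add_mem (F.add_mem (ha' _) (hb' u)) (ha' u)
    · rw [mul_smul, hb'' f hf, ha'' f hf]
  inv_mem' := by
    rintro a ⟨ha, ha', ha''⟩
    have h1 : ∀ f ∈ F, a⁻¹ • f = f := fun f hf => by rw [inv_smul_eq_iff, ha'' f hf]
    refine ⟨inv_mem ha, fun u => ?_, h1⟩
    have e : br a⁻¹ u = - (a⁻¹ • br a u) := by
      simp only [br_def, smul_sub, inv_smul_smul]; abel
    rw [e, h1 _ (ha' u)]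
    exact F.neg_mem (ha' u)

theorem mem_FFq {M : Subgroup H} {F : AddSubgroup U} {m : H} :
    m ∈ FFq M F ↔ m ∈ M ∧ (∀ u : U, br m u ∈ F) ∧ ∀ f ∈ F, m • f = f := Iff.rfl

/-- `⟨B^K⟩` -/
def ncl (K B : Subgroup H) : Subgroup H := closure {x | ∃ k ∈ K, ∃ b ∈ B, x = k * b * k⁻¹}

theorem le_ncl (K B : Subgroup H) : B ≤ ncl K B := fun b hb => subset_closure ⟨1, one_mem _, b, hb, by group⟩

theorem ncl_conj {K B : Subgroup H} {k x : H} (hk : k ∈ K) (hx : x ∈ ncl K B) : k * x * k⁻¹ ∈ ncl K B := by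
  unfold ncl at hx
  induction hx using closure_induction with
  | mem x hx =>
    obtain ⟨l, hl, q, hq, rfl⟩ := hx
    exact subset_closure ⟨k * l, mul_mem hk hl, q, hq, by group⟩
  | one => rw [mul_one, mul_inv_cancel]; exact one_mem _
  | mul x y _ _ hx hy =>
    have e : k * (x * y) * k⁻¹ = k * x * k⁻¹ * (k * y * k⁻¹) := by group
    rw [e]; exact mul_mem hx hy
  | inv x _ hx =>
    have e : k * x⁻¹ * k⁻¹ = (k * x * k⁻¹)⁻¹ := by group
    rw [e]; exact inv_mem hx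

/-- The frame of #18653. -/
structure MX (M X D B : Subgroup H) (V F : AddSubgroup U) (g : H) : Prop where
  faith : ∀ y : H, (∀ u : U, y • u = u) → y = 1
  two : ∀ u : U, u + u = 0
  MV : ∀ m ∈ M, ∀ v ∈ V, m • v ∈ V
  FV : F ≤ V
  Fx : ∀ x ∈ X, ∀ f ∈ F, x • f = f
  ti : ∀ x ∈ X, x • V ≠ V → V ⊓ x • V ≤ F
  gX : g ∈ X
  DX : D ≤ X
  BD : B ≤ D
  MD : ∀ m ∈ M, ∀ d ∈ D, m * d * m⁻¹ ∈ D
  DV : ∀ d ∈ D, ∀ v ∈ V, d • v = v
  quad : ∀ a ∈ B, ∀ b ∈ B, ∀ u : U, b • (a • u - u) = a • u - u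
  sup : g • V ⊔ fx U B = ⊤
  inf : g • V ⊓ fx U B ≤ F
  ne : ∃ y ∈ B, y ≠ 1 ∧ ∀ u : U, y • u - u ∈ F
  RM : ∀ x ∈ X, (∀ u : U, x • u - u ∈ F) → x ∈ M
  red : Red M V

namespace MX

variable {M X D B : Subgroup H} {V F : AddSubgroup U} {g : H} (h : MX M X D B V F g)
include h

/-- `K_V` -/
theorem mem_KV {k : H} : k ∈ KV M V h.MV ↔ k ∈ M ∧ ∀ u : U, br k u ∈ V := Iff.rfl

theorem V_le_C : V ≤ fx U B := fun v hv b hb => h.DV b (h.BD hb) v hv

theorem F_le_C : F ≤ fx U B := h.FV.trans h.V_le_C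

omit h in
theorem FFq_le_M : FFq M F ≤ M := fun _ hm => hm.1

theorem FFq_le_KV : FFq M F ≤ KV M V h.MV := fun _ hm => ⟨hm.1, fun u => h.FV (hm.2.1 u)⟩

theorem KV_norm {m k : H} (hm : m ∈ M) (hk : k ∈ KV M V h.MV) : m * k * m⁻¹ ∈ KV M V h.MV := by
  refine ⟨mul_mem (mul_mem hm hk.1) (inv_mem hm), fun u => ?_⟩
  have e : u = m • (m⁻¹ • u) := (smul_inv_smul m u).symm
  rw [e, br_conj_smul]
  exact h.MV m hm _ (hk.2 _)

theorem sbc_le_KV : sbc M (FFq M F) ≤ KV M V h.MV :=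
  sbc_le_of_normal (fun _ hk _ hn => h.KV_norm hk hn) h.FFq_le_KV

theorem ncl_le_D : ncl (KV M V h.MV) B ≤ D := by
  refine (closure_le _).2 ?_
  rintro _ ⟨k, hk, b, hb, rfl⟩
  exact h.MD k hk.1 b (h.BD hb)

/-- `C_U(B)` is `K_V`-invariant -/
theorem KV_C {k : H} (hk : k ∈ KV M V h.MV) {c : U} (hc : c ∈ fx U B) : k • c ∈ fx U B := by
  rw [smul_eq]
  exact (fx U B).add_mem (h.V_le_C (hk.2 c)) hc

/-- `BB = ⟨B^{K_V}⟩` is trivial on `C` and on `U / C` -/
theorem ncl_C {y : H} (hy : y ∈ ncl (KV M V h.MV) B) :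
    (∀ c ∈ fx U B, y • c = c) ∧ ∀ u : U, br y u ∈ fx U B := by
  unfold ncl at hy
  induction hy using closure_induction with
  | mem x hx =>
    obtain ⟨k, hk, b, hb, rfl⟩ := hx
    have hk' : k⁻¹ ∈ KV M V h.MV := inv_mem hk
    refine ⟨fun c hc => ?_, fun u => ?_⟩
    · rw [mul_smul, mul_smul, h.KV_C hk' hc b hb, smul_inv_smul]
    · have e : u = k • (k⁻¹ • u) := (smul_inv_smul k u).symm
      rw [e, br_conj_smul]
      exact h.KV_C hk fun b' hb' => h.quad b hb b' hb' _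
  | one => exact ⟨fun c _ => one_smul _ c, fun u => by rw [br_one]; exact zero_mem _⟩
  | mul x y _ _ hx hy =>
    refine ⟨fun c hc => by rw [mul_smul, hy.1 c hc, hx.1 c hc], fun u => ?_⟩
    rw [br_mul]
    exact (fx U B).add_mem ((fx U B).add_mem (hx.2 _) (hy.2 u)) (hx.2 u)
  | inv x _ hx =>
    have h1 : ∀ c ∈ fx U B, x⁻¹ • c = c := fun c hc => by rw [inv_smul_eq_iff, hx.1 c hc]
    refine ⟨h1, fun u => ?_⟩
    have e : br x⁻¹ u = - (x⁻¹ • br x u) := by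
      simp only [br_def, smul_sub, inv_smul_smul]; abel
    rw [e, h1 _ (hx.2 u)]
    exact (fx U B).neg_mem (hx.2 u)

theorem F_le_L : F ≤ g • V := by
  intro f hf
  rw [TT.mem_smul]
  have h1 : g⁻¹ • f = f := by rw [inv_smul_eq_iff, h.Fx g h.gX f hf]
  rw [h1]; exact h.FV hf

theorem exists_sup (u : U) : ∃ l ∈ g • V, ∃ c ∈ fx U B, u = l + c := by
  have h1 : u ∈ g • V ⊔ fx U B := by rw [h.sup]; trivial
  obtain ⟨l, hl, c, hc, e⟩ := AddSubgroup.mem_sup.1 h1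
  exact ⟨l, hl, c, hc, e.symm⟩

/-- an element of `X` trivial on `C` and on `U / C` which does not move `g V` -/
theorem mov {y : H} (hyX : y ∈ X) (hC : ∀ c ∈ fx U B, y • c = c) (hU : ∀ u : U, br y u ∈ fx U B) :
    (∀ u : U, br y u ∈ F) ∨ ∀ l ∈ g • V, br y l ∈ g • V → l ∈ F := by
  by_cases hy : y • g • V = g • V
  · left
    intro u
    obtain ⟨l, hl, c, hc, rfl⟩ := h.exists_sup u
    rw [br_add, br_eq_zero.2 (hC c hc), add_zero]
    refine h.inf ⟨?_, hU l⟩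
    rw [br_def]
    refine (g • V).sub_mem ?_ hl
    have h1 : y • l ∈ y • g • V := TT.smul_mem' hl
    rwa [hy] at h1
  · right
    intro l hl hb
    have h1 : y • l ∈ g • V := by
      rw [smul_eq]; exact (g • V).add_mem hb hl
    have h2 : y • l ∈ y • g • V := TT.smul_mem' hl
    -- move back by `g`
    have hg : (g⁻¹ * y * g) ∈ X := mul_mem (mul_mem (inv_mem h.gX) hyX) h.gX
    have hne : (g⁻¹ * y * g) • V ≠ V := by
      intro h0
      apply hy
      have e : y • g • V = g • (g⁻¹ * y * g) • V := by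
        rw [smul_smul, smul_smul]; congr 1; group
      rw [e, h0]
    have h3 : g⁻¹ • y • l ∈ F := by
      have e : (g⁻¹ * y * g)⁻¹ • g⁻¹ • y • l = g⁻¹ • l := by
        rw [smul_smul, smul_smul]; congr 1; group
      refine h.ti _ hg hne ⟨TT.mem_smul.1 h1, TT.mem_smul.2 ?_⟩
      rw [e]; exact TT.mem_smul.1 hl
    have h4 : y • l ∈ F := by
      have h5 := h.Fx g h.gX _ h3
      rw [smul_inv_smul] at h5
      rw [h5]; exact h3
    have h5 := h.Fx y⁻¹ (inv_mem hyX) _ h4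
    rw [inv_smul_smul] at h5
    rw [h5]; exact h4

/-- **The plug.** -/
theorem dat [Finite H] : Ten.Dat (sbc M (FFq M F)) (FFq M F) (ncl (KV M V h.MV) B) V F (g • V) (fx U B) g⁻¹ where
  faith := h.faith
  two := h.two
  FV := h.FV
  VC := h.V_le_C
  FL := h.F_le_L
  LC := h.exists_sup
  LF := fun u hu hc => h.inf ⟨hu, hc⟩
  bC := fun y hy c hc => (h.ncl_C hy).1 c hc
  bU := fun y hy u => (h.ncl_C hy).2 u
  mov := fun y hy => h.mov (h.DX (h.ncl_le_D hy)) (h.ncl_C hy).1 (h.ncl_C hy).2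
  yB := fun k hk b hb => ncl_conj (h.sbc_le_KV hk) hb
  yV := fun k hk u => (h.sbc_le_KV hk).2 u
  QY := le_sbc FFq_le_M
  qF := fun d hd => hd.2.2
  qU := fun d hd => hd.2.1
  hL := fun l hl => TT.mem_smul.1 hl
  hV := fun v hv => by rw [inv_inv]; exact TT.smul_mem' hv
  hF := fun f hf => by rw [inv_smul_eq_iff, h.Fx g h.gX f hf]
  hA := fun y hy hyF => by
    have hyX : y ∈ X := h.DX (h.ncl_le_D hy)
    have hgX : g⁻¹ * y * g⁻¹⁻¹ ∈ X := by
      rw [inv_inv]; exact mul_mem (mul_mem (inv_mem h.gX) hyX) h.gX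
    have hU : ∀ u : U, br (g⁻¹ * y * g⁻¹⁻¹) u ∈ F := by
      intro u
      have e : u = g⁻¹ • (g • u) := (inv_smul_smul g u).symm
      rw [e, br_conj_smul]
      have h1 : g⁻¹ • br y (g • u) = br y (g • u) := by
        rw [inv_smul_eq_iff, h.Fx g h.gX _ (hyF _)]
      rw [h1]; exact hyF _
    exact ⟨h.RM _ hgX hU, hU, fun f hf => h.Fx _ hgX f hf⟩
  ne := by
    obtain ⟨y, hy, hy1, hyF⟩ := h.ne
    exact ⟨y, le_ncl _ _ hy, hy1, hyF⟩
  gen := fun N _ hN hQN => sbc_gen FFq_le_M hN hQN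
  red := h.red.sbc h.MV FFq_le_M

end MX

end mx

end Cfsg.Agent.Omega.NO3b.Exit.TDat

end

section


/-!
# The second half of LOC (#18653, helper776), part 5: `Dat → Mdl`

For `D : Dat Y Q BB V F L C h` (`H`, `U` finite): `AM D` = `[BB, O²(Y)]` written additively, a `Y`-module (conjugation);
`D.bt : AM D →+ U →+ U`, `D.bt y u = [u, y]`; `D.AZM` : `A₀`.

* `Dat.isIrr` (instance), `Dat.mdl : Mdl V F C D.AZM (Q.subgroupOf Y) D.bt`.

So all of TenMdl applies: `K = KK Y (AM D)`, `E = HomY Y (AM D) U = U / C`, `A = K a + A₀`, all transvections,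
`A ⊗ E → U` injective (`HomY.ind`, `HomY.ind'`), **(8)** = `Dat.act_two`.
-/

set_option autoImplicit false

namespace Cfsg.Agent.Omega.NO3b.Exit.Ten

open Subgroup

universe u v

variable {H : Type u} {U : Type v} [Group H] [AddCommGroup U] [DistribMulAction H U] {Y Q BB : Subgroup H}
  {V F L C : AddSubgroup U} {h : H}

/-- `AA` as an additive group -/
def AM (_ : Dat Y Q BB V F L C h) : Type u := Additive ↥(AAs Y BB)

namespace AM

variable {D : Dat Y Q BB V F L C h}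

/-- the underlying element of `H` -/
def val (a : AM D) : H := ((Additive.toMul a : ↥(AAs Y BB)) : H)

def mk (x : H) (hx : x ∈ D.AA) : AM D := Additive.ofMul ⟨x, hx⟩

theorem val_mk (x : H) (hx : x ∈ D.AA) : (mk x hx : AM D).val = x := rfl

theorem val_mem (a : AM D) : a.val ∈ D.AA := (Additive.toMul a : ↥(AAs Y BB)).2

theorem ext {a b : AM D} (hab : a.val = b.val) : a = b := Subtype.ext hab

instance : AddCommGroup (AM D) :=
  { (inferInstance : AddGroup (Additive ↥(AAs Y BB))) with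
    add_comm := fun a b => ext (D.comm_B (D.AA_le (val_mem a)) (D.AA_le (val_mem b))) }

theorem val_add (a b : AM D) : (a + b).val = a.val * b.val := rfl

theorem val_zero : (0 : AM D).val = 1 := rfl

theorem val_neg (a : AM D) : (-a).val = a.val⁻¹ := rfl

instance : DistribMulAction Y (AM D) where
  smul k a := mk ((k : H) * a.val * (k : H)⁻¹) (D.AA_conj k.2 a.val_mem)
  one_smul a := ext (by change (1 : H) * a.val * (1 : H)⁻¹ = a.val; group)
  mul_smul k l a := ext (by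
    change ((k * l : Y) : H) * a.val * ((k * l : Y) : H)⁻¹ = k * (l * a.val * (l : H)⁻¹) * (k : H)⁻¹
    rw [Subgroup.coe_mul]; group)
  smul_zero k := ext (by change (k : H) * 1 * (k : H)⁻¹ = 1; group)
  smul_add k a b := ext (by
    change (k : H) * (a.val * b.val) * (k : H)⁻¹ = k * a.val * (k : H)⁻¹ * (k * b.val * (k : H)⁻¹)
    group)

theorem val_smul (k : Y) (a : AM D) : (k • a).val = k * a.val * (k : H)⁻¹ := rfl

instance [Finite H] : Finite (AM D) := Finite.of_injective (fun a => a.val) fun _ _ h => ext h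

end AM

namespace Dat

variable (D : Dat Y Q BB V F L C h)

/-- `A₀` -/
def AZM : AddSubgroup (AM D) where
  carrier := {a | a.val ∈ D.AZ}
  zero_mem' := D.AZ.one_mem
  add_mem' := fun {a b} (ha : a.val ∈ D.AZ) (hb : b.val ∈ D.AZ) => D.AZ.mul_mem ha hb
  neg_mem' := fun {a} (ha : a.val ∈ D.AZ) => D.AZ.inv_mem ha

theorem mem_AZM {a : AM D} : a ∈ D.AZM ↔ a.val ∈ D.AZ := Iff.rfl

/-- `[u, y]` -/
def bt : AM D →+ U →+ U :=
  AddMonoidHom.mk' (fun a => AddMonoidHom.mk' (fun u => br a.val u) fun u v => br_add _ u v) fun a b => by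
    ext u
    exact D.br_mul_B (D.AA_le a.val_mem) (D.AA_le b.val_mem) u

theorem bt_apply (a : AM D) (u : U) : D.bt a u = br a.val u := rfl

theorem AM_two (a : AM D) : a + a = 0 := AM.ext (D.sq_B (D.AA_le a.val_mem))

instance isIrr [Finite H] [Finite U] : IsIrr Y (AM D) where
  ne := by
    obtain ⟨y, hy, hy'⟩ := D.exists_notMem
    refine ⟨AM.mk y hy, fun h0 => hy' ?_⟩
    have h1 : (AM.mk y hy : AM D).val = 1 := by rw [h0]; rfl
    rw [AM.val_mk] at h1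
    rw [h1]; exact one_mem _
  irr := by
    intro N hN
    let N' : Subgroup H :=
      { carrier := {x | ∃ hx : x ∈ D.AA, (AM.mk x hx : AM D) ∈ N}
        one_mem' := ⟨one_mem _, N.zero_mem⟩
        mul_mem' := by
          rintro x y ⟨hx, hx'⟩ ⟨hy, hy'⟩
          exact ⟨mul_mem hx hy, N.add_mem hx' hy'⟩
        inv_mem' := by
          rintro x ⟨hx, hx'⟩
          exact ⟨inv_mem hx, N.neg_mem hx'⟩ }
    have h1 : ∀ k ∈ Y, ∀ n ∈ N', k * n * k⁻¹ ∈ N' := by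
      rintro k hk n ⟨hn, hn'⟩
      exact ⟨D.AA_conj hk hn, hN ⟨k, hk⟩ _ hn'⟩
    rcases D.irr (N := N') (fun x hx => hx.1) h1 with h | h
    · left
      rw [eq_bot_iff]
      intro a ha
      have h2 : a.val ∈ N' := ⟨a.val_mem, ha⟩
      rw [h, mem_bot] at h2
      exact AM.ext h2
    · right
      rw [eq_top_iff]
      intro a _
      have h2 : a.val ∈ N' := by rw [h]; exact a.val_mem
      exact h2.2

/-- The model. -/
theorem mdl [Finite H] [Finite U] : Mdl V F C D.AZM (Q.subgroupOf Y) D.bt where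
  eq k a u := D.br_conj k.2 (D.AA_le a.val_mem) u
  mem a u := D.AA_V a.val_mem u
  inF a ha u := ha.2 u
  bC a c hc := D.br_C (D.AA_le a.val_mem) hc
  faith a ha := AM.ext (D.ext fun u => by
    rw [← D.bt_apply, ha u]
    exact (br_one u).symm)
  FV := D.FV
  VC := D.VC
  inC a ha u hu := by
    obtain ⟨l, hl, c, hc, rfl⟩ := D.LC u
    rw [D.bt_apply, br_add, D.br_C (D.AA_le a.val_mem) hc, add_zero] at hu
    exact C.add_mem (D.VC (D.FV (D.inj (D.AA_le a.val_mem) ha hl (D.FL hu)))) hc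
  span a ha v hv := by
    obtain ⟨l, -, f, hf, e⟩ := D.span (D.AA_le a.val_mem) ha (D.AA_V a.val_mem) hv
    refine ⟨l, ?_⟩
    rw [D.bt_apply, e, add_sub_cancel_left]
    exact hf
  yV k u := D.yV k k.2 u
  qA d hd a ha := AM.ext (D.br_Q_AZ hd ha)
  qF d hd f hf := D.qF d hd f hf
  qU d hd u := D.qU d hd u
  com d hd a := by
    change (d • a - a).val ∈ D.AZ
    rw [sub_eq_add_neg]
    exact D.comm_Q hd (D.AA_le a.val_mem)
  surj a ha s hs := by
    obtain ⟨d, hd, e⟩ := D.surj (D.AA_le a.val_mem) ha (D.AA_V a.val_mem) hs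
    refine ⟨⟨d, D.QY hd⟩, hd, AM.ext ?_⟩
    rw [sub_eq_add_neg]
    exact e
  ne := by
    obtain ⟨y, hy, hy1, hyF⟩ := D.ne
    refine ⟨AM.mk y (D.AZ_le_AA ⟨hy, hyF⟩), ⟨hy, hyF⟩, fun h0 => hy1 ?_⟩
    have h1 : (AM.mk y (D.AZ_le_AA ⟨hy, hyF⟩) : AM D).val = 1 := by rw [h0]; rfl
    exact h1
  nt := by
    obtain ⟨y, hy, hy'⟩ := D.exists_notMem
    exact ⟨AM.mk y hy, hy'⟩

include D in
/-- **(8)** A 2-element of `H` which normalises `Y` and centralises `F` acts on `V` as an element of `Q`. -/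
theorem act_two [Finite H] [Finite U] {m : H} (hm : ∀ k ∈ Y, m * k * m⁻¹ ∈ Y) (hm' : ∀ k ∈ Y, m⁻¹ * k * m ∈ Y)
    (hF : ∀ f ∈ F, m • f = f) {j : ℕ} (hj : ∀ v ∈ V, m ^ 2 ^ j • v = v) : ∃ d ∈ Q, ∀ v ∈ V, m • v = d • v := by
  let μ : U →+ U := DistribSMul.toAddMonoidHom U m
  have hμ : ∀ u, μ u = m • u := fun _ => rfl
  have hit : ∀ (n : ℕ) (u : U), μ^[n] u = m ^ n • u := by
    intro n u
    induction n with
    | zero => rw [pow_zero, one_smul]; rfl
    | succ n ih => rw [Function.iterate_succ_apply', ih, hμ, smul_smul, pow_succ']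
  obtain ⟨d, hd, h1⟩ := D.mdl.act_two D.AM_two μ (MulAction.injective m)
    (fun k => ⟨⟨m * k * m⁻¹, hm k k.2⟩, fun u => by
      rw [hμ, hμ]
      change m • (k : H) • u = (m * k * m⁻¹) • m • u
      rw [smul_smul, smul_smul, inv_mul_cancel_right]⟩)
    (fun k => ⟨⟨m⁻¹ * k * m, hm' k k.2⟩, fun u => by
      rw [hμ, hμ]
      change m • (m⁻¹ * k * m) • u = (k : H) • m • u
      rw [smul_smul, smul_smul]; congr 1; group⟩)
    (fun f hf => by rw [hμ, hF f hf]) (j := j) (fun v hv => by rw [hit, hj v hv])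
  exact ⟨d, hd, h1⟩

end Dat

end Cfsg.Agent.Omega.NO3b.Exit.Ten

end

section


/-!
# The blocks of `V` in LOC without (PR) (helper255, bb 20845), part 1

`Blk0 Y Q BB V F L C h M KV S` : helper823's `TBlk.Blk` without the fields `OM`, `pr`, `cz`, `gen` (no hypothesis
on the generation of `V` is needed: `gen_dec` of `BlkHX.lean` comes from `TenSplit.lean`, helper449).

* `dich`, `cent`, `indep`, `mem_all`, `br_YM` : as in TightBlk.lean (copied);
* `all_sep` : an element of `all = Σ m V₁` fixed by `YM` is zero; `exists_dec` : `V = all + C_V(YM)` (Gaschütz);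
* `exists_comp` : every block carries a component `≠ 0` of some `z ∈ C_V(S) ∩ all`;
* `ann_one`, `odd_T` : the action on one block;
* **`hX`** : `x ∈ YM` which fixes `C_V(S)` fixes `C_V(S ∩ YM)`;
* `moves` : `S ∩ YM` moves `V`.
-/

set_option autoImplicit false

open scoped Pointwise

namespace Cfsg.Agent.Omega.NO3b.Exit.BlkZ

open Subgroup Cfsg.Agent.Omega.NO3b.Exit Ten Descent
open Cfsg.Agent.Omega.NO3b.Exit.TBlk hiding Blk

universe u v

/-- The situation with `M`. -/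
structure Blk0 {H : Type u} {U : Type v} [Group H] [AddCommGroup U] [DistribMulAction H U]
    (Y Q BB : Subgroup H) (V F L C : AddSubgroup U) (h : H) (M KV S : Subgroup H) : Prop where
  dat : Dat Y Q BB V F L C h
  KM : KV ≤ M
  nK : ∀ m ∈ M, ∀ k ∈ KV, m * k * m⁻¹ ∈ KV
  mV : ∀ m ∈ M, ∀ v ∈ V, m • v ∈ V
  kV : ∀ k ∈ KV, ∀ u : U, br k u ∈ V
  kB : ∀ k ∈ KV, ∀ b ∈ BB, k * b * k⁻¹ ∈ BB
  sn : Sn Y KV
  SM : S ≤ M
  S2 : IsPGroup 2 S
  syl : ¬ 2 ∣ S.relIndex M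

namespace Blk0

variable {H : Type u} {U : Type v} [Group H] [AddCommGroup U] [DistribMulAction H U]
variable {Y Q BB : Subgroup H} {V F L C : AddSubgroup U} {h : H} {M KV S : Subgroup H}
variable (B : Blk0 Y Q BB V F L C h M KV S)
include B

theorem AA_K [Finite H] [Finite U] : ∀ k ∈ KV, ∀ x ∈ B.dat.AA, k * x * k⁻¹ ∈ B.dat.AA :=
  AA_KV B.dat B.sn B.kB B.kV

theorem V1_K [Finite H] [Finite U] {k : H} (hk : k ∈ KV) {v : U} (hv : v ∈ V1 B.dat) : k • v ∈ V1 B.dat :=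
  V1_inv B.dat B.AA_K B.kV hk hv

theorem YK : Y ≤ KV := B.sn.le

theorem br_K [Finite H] [Finite U] {k y : H} (hk : k ∈ KV) (hy : y ∈ B.dat.AA) (u : U) :
    br (k * y * k⁻¹) u = k • br y u :=
  B.dat.br_conj' (fun u => B.dat.VC (B.kV _ (inv_mem hk) u)) (B.dat.AA_le hy) u

theorem nK' {m : H} (hm : m ∈ M) {k : H} (hk : k ∈ KV) : m⁻¹ * k * m ∈ KV := by
  have := B.nK m⁻¹ (inv_mem hm) k hk
  rwa [inv_inv] at this

/-- `m V₁` is `KV`-invariant. -/
theorem smul_V1_K [Finite H] [Finite U] {m : H} (hm : m ∈ M) {k : H} (hk : k ∈ KV) {v : U}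
    (hv : v ∈ m • V1 B.dat) : k • v ∈ m • V1 B.dat := by
  obtain ⟨w, hw, rfl⟩ := (AddSubgroup.mem_smul_pointwise_iff_exists _ _ _).1 hv
  refine (AddSubgroup.mem_smul_pointwise_iff_exists _ _ _).2 ⟨(m⁻¹ * k * m) • w, B.V1_K (B.nK' hm hk) hw, ?_⟩
  rw [smul_smul, smul_smul]
  congr 1
  group

theorem smul_V1_le {m : H} (hm : m ∈ M) : m • V1 B.dat ≤ V := by
  intro v hv
  obtain ⟨w, hw, rfl⟩ := (AddSubgroup.mem_smul_pointwise_iff_exists _ _ _).1 hv
  exact B.mV m hm w (V1_le B.dat hw)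

/-- **Dichotomy**, half: `V₁ ∩ m V₁ ≠ 0` implies `m V₁ ≤ V₁`. -/
theorem le_of_inf_ne [Finite H] [Finite U] {m : H} (hm : m ∈ M) (hne : V1 B.dat ⊓ m • V1 B.dat ≠ ⊥) :
    m • V1 B.dat ≤ V1 B.dat := by
  have D := B.dat
  -- `[l, AA] ≤ V₁ ∩ m V₁`
  have hW : ∀ k ∈ KV, ∀ w ∈ V1 B.dat ⊓ m • V1 B.dat, k • w ∈ V1 B.dat ⊓ m • V1 B.dat :=
    fun k hk w hw => ⟨B.V1_K hk hw.1, B.smul_V1_K hm hk hw.2⟩
  obtain ⟨l, hl, hlC, hlW⟩ := exists_sub D (W := V1 B.dat ⊓ m • V1 B.dat) (inf_le_left.trans (V1_le D))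
    (fun k hk => hW k (B.YK hk)) (not_le_F D inf_le_left (fun k hk => hW k (B.YK hk)) hne)
  -- `W' = m⁻¹ [l, AA]`
  let W' : AddSubgroup U :=
    { carrier := {w | ∃ y ∈ D.AA, m • w = br y l}
      zero_mem' := ⟨1, one_mem _, by rw [smul_zero, br_one]⟩
      add_mem' := by
        rintro a b ⟨y, hy, e⟩ ⟨y', hy', e'⟩
        exact ⟨y * y', mul_mem hy hy', by rw [smul_add, e, e', br_AA_mul D hy hy']⟩
      neg_mem' := by
        rintro a ⟨y, hy, e⟩
        exact ⟨y, hy, by rw [smul_neg, e, D.neg_eq]⟩ }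
  have hW1 : W' ≤ V1 D := by
    rintro w ⟨y, hy, e⟩
    have h1 : m • w ∈ m • V1 B.dat := by rw [e]; exact (hlW y hy).2
    exact (AddSubgroup.smul_mem_pointwise_smul_iff).1 h1
  have hW2 : ∀ k ∈ KV, ∀ w ∈ W', k • w ∈ W' := by
    rintro k hk w ⟨y, hy, e⟩
    refine ⟨m * k * m⁻¹ * y * (m * k * m⁻¹)⁻¹, B.AA_K _ (B.nK m hm k hk) y hy, ?_⟩
    rw [B.br_K (B.nK m hm k hk) hy, ← e, smul_smul, smul_smul]
    congr 1
    group
  have hW3 : W' ≠ ⊥ := by
    obtain ⟨a, ha, ha'⟩ := D.exists_notMem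
    intro h0
    have h1 : m⁻¹ • br a l ∈ W' := ⟨a, ha, by rw [smul_inv_smul]⟩
    rw [h0, AddSubgroup.mem_bot] at h1
    have h2 : br a l = 0 := by rw [← smul_inv_smul m (br a l), h1, smul_zero]
    have h3 := eq_one_of_br D hlC ha h2
    exact ha' (h3 ▸ one_mem _)
  obtain ⟨l', hl', hlC', hlW'⟩ := exists_sub D (W := W') (hW1.trans (V1_le D)) (fun k hk => hW2 k (B.YK hk))
    (not_le_F D hW1 (fun k hk => hW2 k (B.YK hk)) hW3)
  -- the bijection
  have hex : ∀ y : D.AA, ∃ x : D.AA, m • br (y : H) l' = br (x : H) l := fun y => by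
    obtain ⟨x, hx, e⟩ := hlW' y y.2
    exact ⟨⟨x, hx⟩, e⟩
  choose θ hθ using hex
  have hinj : Function.Injective θ := by
    intro y y' e
    have h1 : m • br (y : H) l' = m • br (y' : H) l' := by rw [hθ, hθ, e]
    have h2 : br (y : H) l' = br (y' : H) l' := smul_left_cancel m h1
    have h3 : (y : H) * (y' : H) = 1 := by
      refine eq_one_of_br D hlC' (mul_mem y.2 y'.2) ?_
      rw [br_AA_mul D y.2 y'.2, h2, D.two]
    have h4 := D.sq_B (D.AA_le y'.2)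
    exact Subtype.ext (mul_right_cancel (h3.trans h4.symm))
  have hbij : Function.Bijective θ := (Finite.injective_iff_bijective).1 hinj
  have hθmul : ∀ y y' : D.AA, θ (y * y') = θ y * θ y' := by
    intro y y'
    have h1 : br ((θ (y * y') : D.AA) : H) l = br ((θ y * θ y' : D.AA) : H) l := by
      rw [← hθ, Subgroup.coe_mul, Subgroup.coe_mul, br_AA_mul D y.2 y'.2, br_AA_mul D (θ y).2 (θ y').2, smul_add,
        hθ, hθ]
    have h3 : ((θ (y * y') : D.AA) : H) * ((θ y * θ y' : D.AA) : H) = 1 := by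
      refine eq_one_of_br D hlC (mul_mem (θ (y * y')).2 (θ y * θ y').2) ?_
      rw [br_AA_mul D (θ (y * y')).2 (θ y * θ y').2, h1, D.two]
    have h4 := D.sq_B (D.AA_le (θ y * θ y').2)
    exact Subtype.ext (mul_right_cancel (h3.trans h4.symm))
  have hθK : ∀ k ∈ KV, ∀ y : D.AA, ∀ y' : D.AA, (y' : H) = k * y * k⁻¹ →
      ((θ y' : D.AA) : H) = m * k * m⁻¹ * (θ y : H) * (m * k * m⁻¹)⁻¹ := by
    intro k hk y y' e
    have hmk := B.nK m hm k hk
    have hx : m * k * m⁻¹ * (θ y : H) * (m * k * m⁻¹)⁻¹ ∈ D.AA := B.AA_K _ hmk _ (θ y).2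
    have h1 : br ((θ y' : D.AA) : H) l = br (m * k * m⁻¹ * (θ y : H) * (m * k * m⁻¹)⁻¹) l := by
      rw [← hθ, e, B.br_K hk y.2, B.br_K hmk (θ y).2, ← hθ, smul_smul, smul_smul]
      congr 1
      group
    have h3 : ((θ y' : D.AA) : H) * (m * k * m⁻¹ * (θ y : H) * (m * k * m⁻¹)⁻¹) = 1 := by
      refine eq_one_of_br D hlC (mul_mem (θ y').2 hx) ?_
      rw [br_AA_mul D (θ y').2 hx, h1, D.two]
    have h4 := D.sq_B (D.AA_le hx)
    exact mul_right_cancel (h3.trans h4.symm)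
  -- the homomorphisms
  intro v hv
  obtain ⟨w, hw, rfl⟩ := (AddSubgroup.mem_smul_pointwise_iff_exists _ _ _).1 hv
  clear hv
  induction hw using AddSubgroup.closure_induction with
  | zero => rw [smul_zero]; exact zero_mem _
  | add a b _ _ ha hb => rw [smul_add]; exact add_mem ha hb
  | neg a _ ha => rw [smul_neg]; exact neg_mem ha
  | mem w hw =>
    obtain ⟨x0, hx0, u, rfl⟩ := hw
    classical
    let ψ : D.AA → D.AA := fun y => (hbij.2 y).choose
    have hψ : ∀ y, θ (ψ y) = y := fun y => (hbij.2 y).choose_spec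
    let φ : H → U := fun y => if hy : y ∈ D.AA then m • br ((ψ ⟨y, hy⟩ : D.AA) : H) u else 0
    have hφ : ∀ y (hy : y ∈ D.AA), φ y = m • br ((ψ ⟨y, hy⟩ : D.AA) : H) u := fun y hy => dif_pos hy
    have hψmul : ∀ y y' : D.AA, ψ (y * y') = ψ y * ψ y' := fun y y' => hinj (by
      rw [hθmul, hψ, hψ, hψ])
    obtain ⟨l2, hl2, e2⟩ := exists_hom D (φ := φ) (fun x hx y hy => by
        rw [hφ x hx, hφ y hy, hφ _ (mul_mem hx hy)]
        have e : (⟨x * y, mul_mem hx hy⟩ : D.AA) = ⟨x, hx⟩ * ⟨y, hy⟩ := rfl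
        rw [e, hψmul, Subgroup.coe_mul, br_AA_mul D (ψ _).2 (ψ _).2, smul_add])
      (fun y hy => by rw [hφ y hy]; exact B.mV m hm _ (D.AA_V (ψ _).2 u))
      (fun k hk y hy => by
        have hkK := B.YK hk
        have hmk := B.nK' hm hkK
        rw [hφ y hy, hφ _ (D.AA_conj hk hy)]
        have hx : m⁻¹ * k * m * (ψ ⟨y, hy⟩ : H) * (m⁻¹ * k * m)⁻¹ ∈ D.AA := B.AA_K _ hmk _ (ψ _).2
        have h1 : ψ ⟨k * y * k⁻¹, D.AA_conj hk hy⟩ = ⟨_, hx⟩ := by
          apply hinj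
          rw [hψ]
          apply Subtype.ext
          rw [hθK _ hmk (ψ ⟨y, hy⟩) ⟨_, hx⟩ rfl, hψ]
          group
        rw [h1]
        change m • br (m⁻¹ * k * m * (ψ ⟨y, hy⟩ : H) * (m⁻¹ * k * m)⁻¹) u = _
        rw [B.br_K hmk (ψ _).2, smul_smul, smul_smul]
        congr 1
        group)
    have h1 := e2 (θ ⟨x0, hx0⟩) (θ ⟨x0, hx0⟩).2
    rw [hφ _ (θ ⟨x0, hx0⟩).2] at h1
    have h2 : ψ ⟨(θ ⟨x0, hx0⟩ : H), (θ ⟨x0, hx0⟩).2⟩ = ⟨x0, hx0⟩ := hinj (by rw [hψ])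
    rw [h2] at h1
    rw [h1]
    exact br_mem_V1 D (θ ⟨x0, hx0⟩).2 l2

omit B in
theorem card_smul (m : H) (X : AddSubgroup U) : Nat.card (m • X : AddSubgroup U) = Nat.card X :=
  Nat.card_congr ⟨fun x => ⟨m⁻¹ • (x : U), AddSubgroup.mem_pointwise_smul_iff_inv_smul_mem.1 x.2⟩,
    fun x => ⟨m • (x : U), AddSubgroup.smul_mem_pointwise_smul _ _ _ x.2⟩,
    fun _ => Subtype.ext (smul_inv_smul m _), fun _ => Subtype.ext (inv_smul_smul m _)⟩

theorem mem_smul {m : H} {v : U} : v ∈ m • V1 B.dat ↔ ∃ w ∈ V1 B.dat, m • w = v :=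
  AddSubgroup.mem_smul_pointwise_iff_exists _ _ _

/-- **Dichotomy** -/
theorem dich [Finite H] [Finite U] {m : H} (hm : m ∈ M) : m • V1 B.dat = V1 B.dat ∨ V1 B.dat ⊓ m • V1 B.dat = ⊥ := by
  by_cases hne : V1 B.dat ⊓ m • V1 B.dat = ⊥
  · exact Or.inr hne
  left
  have h1 := B.le_of_inf_ne hm hne
  refine AddSubgroup.eq_of_le_of_card_ge h1 (le_of_eq ?_)
  exact (card_smul m _).symm

/-- `Y^m` centralises `m' V₁ ≠ m V₁`. -/
theorem cent [Finite H] [Finite U] {m m' : H} (hm : m ∈ M) (hm' : m' ∈ M)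
    (hne : m • V1 B.dat ≠ m' • V1 B.dat) {k : H} (hk : k ∈ Y) {v : U} (hv : v ∈ m' • V1 B.dat) :
    (m * k * m⁻¹) • v = v := by
  have hn : m⁻¹ * m' ∈ M := mul_mem (inv_mem hm) hm'
  have h1 : V1 B.dat ⊓ (m⁻¹ * m') • V1 B.dat = ⊥ := by
    refine (B.dich hn).resolve_left fun h1 => hne ?_
    rw [mul_smul, inv_smul_eq_iff] at h1
    exact h1.symm
  have hv' : m⁻¹ • v ∈ (m⁻¹ * m') • V1 B.dat := by
    rw [mul_smul]
    exact AddSubgroup.smul_mem_pointwise_smul _ _ _ hv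
  have h2 : br k (m⁻¹ • v) ∈ V1 B.dat ⊓ (m⁻¹ * m') • V1 B.dat := by
    refine ⟨br_Y_V1 B.dat hk (B.smul_V1_le hn hv'), ?_⟩
    change br k (m⁻¹ • v) ∈ (m⁻¹ * m') • V1 B.dat
    rw [br_def]
    exact sub_mem (B.smul_V1_K hn (B.YK hk) hv') hv'
  rw [h1, AddSubgroup.mem_bot, br_eq_zero] at h2
  rw [mul_smul, mul_smul, h2, smul_inv_smul]

/-- the sum of the blocks different from `m V₁` -/
def rest (m : H) : AddSubgroup U := AddSubgroup.closure {v | ∃ m' ∈ M, m • V1 B.dat ≠ m' • V1 B.dat ∧ v ∈ m' • V1 B.dat}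

/-- the sum of all blocks -/
def all : AddSubgroup U := AddSubgroup.closure {v | ∃ m ∈ M, v ∈ m • V1 B.dat}

theorem le_rest {m m' : H} (hm' : m' ∈ M) (hne : m • V1 B.dat ≠ m' • V1 B.dat) : m' • V1 B.dat ≤ B.rest m :=
  fun _ hv => AddSubgroup.subset_closure ⟨m', hm', hne, hv⟩

theorem le_all {m : H} (hm : m ∈ M) : m • V1 B.dat ≤ B.all :=
  fun _ hv => AddSubgroup.subset_closure ⟨m, hm, hv⟩

theorem rest_le_all (m : H) : B.rest m ≤ B.all := by
  refine (AddSubgroup.closure_le _).2 ?_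
  rintro v ⟨m', hm', -, hv⟩
  exact B.le_all hm' hv

theorem all_le : B.all ≤ V := by
  refine (AddSubgroup.closure_le _).2 ?_
  rintro v ⟨m, hm, hv⟩
  exact B.smul_V1_le hm hv

theorem rest_le (m : H) : B.rest m ≤ V := (B.rest_le_all m).trans B.all_le

theorem cent_rest [Finite H] [Finite U] {m : H} (hm : m ∈ M) {k : H} (hk : k ∈ Y) {v : U} (hv : v ∈ B.rest m) :
    (m * k * m⁻¹) • v = v := by
  induction hv using AddSubgroup.closure_induction with
  | mem v hv =>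
    obtain ⟨m', hm', hne, hv⟩ := hv
    exact B.cent hm hm' hne hk hv
  | zero => exact smul_zero _
  | add a b _ _ ha hb => rw [smul_add, ha, hb]
  | neg a _ ha => rw [smul_neg, ha]

/-- **The sum of the blocks is direct.** -/
theorem indep [Finite H] [Finite U] {m : H} (hm : m ∈ M) : m • V1 B.dat ⊓ B.rest m = ⊥ := by
  rw [eq_bot_iff]
  rintro v ⟨hv1, hv2⟩
  obtain ⟨w, hw, rfl⟩ := B.mem_smul.1 hv1
  have h1 : w = 0 := V1_fix B.dat hw fun k hk => by
    have h2 := B.cent_rest hm hk hv2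
    rw [smul_smul, inv_mul_cancel_right, mul_smul] at h2
    exact smul_left_cancel m h2
  rw [h1, smul_zero]
  exact zero_mem _

theorem mem_all {v : U} (hv : v ∈ B.all) (m : H) : ∃ a ∈ m • V1 B.dat, ∃ b ∈ B.rest m, v = a + b := by
  classical
  induction hv using AddSubgroup.closure_induction with
  | mem v hv =>
    obtain ⟨m', hm', hv⟩ := hv
    by_cases hne : m • V1 B.dat = m' • V1 B.dat
    · exact ⟨v, hne ▸ hv, 0, zero_mem _, (add_zero v).symm⟩
    · exact ⟨0, zero_mem _, v, B.le_rest hm' hne hv, (zero_add v).symm⟩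
  | zero => exact ⟨0, zero_mem _, 0, zero_mem _, (add_zero 0).symm⟩
  | add a b _ _ ha hb =>
    obtain ⟨a1, ha1, a2, ha2, rfl⟩ := ha
    obtain ⟨b1, hb1, b2, hb2, rfl⟩ := hb
    exact ⟨_, add_mem ha1 hb1, _, add_mem ha2 hb2, by abel⟩
  | neg a _ ha =>
    obtain ⟨a1, ha1, a2, ha2, rfl⟩ := ha
    exact ⟨_, neg_mem ha1, _, neg_mem ha2, by abel⟩

/-- `M` permutes the blocks. -/
theorem all_M {m : H} (hm : m ∈ M) {v : U} (hv : v ∈ B.all) : m • v ∈ B.all := by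
  induction hv using AddSubgroup.closure_induction with
  | mem v hv =>
    obtain ⟨m', hm', hv⟩ := hv
    refine B.le_all (mul_mem hm hm') ?_
    rw [mul_smul]
    exact AddSubgroup.smul_mem_pointwise_smul _ _ _ hv
  | zero => rw [smul_zero]; exact zero_mem _
  | add a b _ _ ha hb => rw [smul_add]; exact add_mem ha hb
  | neg a _ ha => rw [smul_neg]; exact neg_mem ha

/-- the normal closure of `Y` in `M` -/
def YM (_B : Blk0 Y Q BB V F L C h M KV S) : Subgroup H := closure {x | ∃ m ∈ M, ∃ k ∈ Y, x = m * k * m⁻¹}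

theorem YM_le : B.YM ≤ KV := by
  refine (closure_le _).2 ?_
  rintro _ ⟨m, hm, k, hk, rfl⟩
  exact B.nK m hm k (B.YK hk)

theorem YM_conj {m x : H} (hm : m ∈ M) (hx : x ∈ B.YM) : m * x * m⁻¹ ∈ B.YM := by
  induction hx using closure_induction with
  | mem x hx =>
    obtain ⟨g, hg, k, hk, rfl⟩ := hx
    exact subset_closure ⟨m * g, mul_mem hm hg, k, hk, by group⟩
  | one => rw [mul_one, mul_inv_cancel]; exact one_mem _
  | mul x y _ _ hx hy =>
    have e : m * (x * y) * m⁻¹ = m * x * m⁻¹ * (m * y * m⁻¹) := by group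
    rw [e]; exact mul_mem hx hy
  | inv x _ hx =>
    have e : m * x⁻¹ * m⁻¹ = (m * x * m⁻¹)⁻¹ := by group
    rw [e]; exact inv_mem hx

theorem conj_mem_YM {m k : H} (hm : m ∈ M) (hk : k ∈ Y) : m * k * m⁻¹ ∈ B.YM :=
  subset_closure ⟨m, hm, k, hk, rfl⟩

/-- `[V, Y^M] ≤ Σ m V₁` -/
theorem br_YM [Finite H] [Finite U] {x : H} (hx : x ∈ B.YM) {v : U} (hv : v ∈ V) : br x v ∈ B.all := by
  induction hx using closure_induction generalizing v with
  | mem x hx =>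
    obtain ⟨m, hm, k, hk, rfl⟩ := hx
    have e : v = m • (m⁻¹ • v) := (smul_inv_smul m v).symm
    rw [e, br_conj_smul]
    refine B.le_all hm (AddSubgroup.smul_mem_pointwise_smul _ _ _ ?_)
    exact br_Y_V1 B.dat hk (B.mV _ (inv_mem hm) v hv)
  | one => rw [br_one]; exact zero_mem _
  | mul a b ha _ iha ihb =>
    have e : br (a * b) v = a • br b v + br a v := by
      simp only [br_def, mul_smul, smul_sub]; abel
    rw [e]
    exact add_mem (B.all_M (B.KM (B.YM_le ha)) (ihb hv)) (iha hv)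
  | inv a ha iha =>
    have e : br a⁻¹ v = - br a (a⁻¹ • v) := by
      rw [br_def, br_def, smul_inv_smul]; abel
    rw [e]
    exact neg_mem (iha (B.mV _ (inv_mem (B.KM (B.YM_le ha))) v hv))

/-- `KV` normalises every block. -/
theorem smul_eq_K [Finite H] [Finite U] {m k : H} (hm : m ∈ M) (hk : k ∈ KV) :
    k • m • V1 B.dat = m • V1 B.dat := by
  refine AddSubgroup.eq_of_le_of_card_ge (fun v hv => ?_) (le_of_eq ?_)
  · obtain ⟨w, hw, rfl⟩ := (AddSubgroup.mem_smul_pointwise_iff_exists _ _ _).1 hv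
    exact B.smul_V1_K hm hk hw
  · exact (card_smul k _).symm


end Blk0

end Cfsg.Agent.Omega.NO3b.Exit.BlkZ

end

section


/-!
# Descent (helper255, bb 20076), part 4: (ANN) from the blocks of `V` (`TBlk.Blk`)

For `B : Blk Y Q BB V F L C h M KV S O`:

* `allTv` : `Y` induces all transvections on `AM`; `V1_le_img`;
* `inf_rest` : an element of `V` without component in every block is zero;
* `comp_ne` : an element `≠ 0` of `C_V(S)` has a component `≠ 0` in every block;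
* `odd_T` : `{y ∈ Y | m y m⁻¹ ∈ S}` has odd index in `Y`;
* **`ann`** : `z ≠ 0`, `z'` in `C_V(S)`: every element of the ring generated by `KV` (so by `O`) which kills `z` kills `z'`.
-/

set_option autoImplicit false

open scoped Pointwise

namespace Cfsg.Agent.Omega.NO3b.Exit.DescAnn

open Subgroup Cfsg.Agent.Omega.NO3b.Exit Ten TBlk Descent

universe u v

section dat

variable {H : Type u} {U : Type v} [Group H] [AddCommGroup U] [DistribMulAction H U]
variable {Y Q BB : Subgroup H} {V F L C : AddSubgroup U} {h : H} (D : Dat Y Q BB V F L C h)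

theorem allTv [Finite H] [Finite U] : AllTv Y (AM D) := by
  intro φ a ha
  obtain ⟨k, d, -, hk⟩ := D.mdl.trans' φ ha
  exact ⟨_, hk⟩

theorem V1_le_img [Finite H] [Finite U] : V1 D ≤ img Y (AM D) U := by
  refine (AddSubgroup.closure_le _).2 ?_
  rintro _ ⟨y, hy, u, rfl⟩
  have h1 := mem_img (D.mdl.psi u) (AM.mk y hy)
  rw [Mdl.psi_apply, D.bt_apply] at h1
  exact h1

end dat

variable {H : Type u} {U : Type v} [Group H] [Finite H] [AddCommGroup U] [DistribMulAction H U] [Finite U]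
variable {Y Q BB : Subgroup H} {V F L C : AddSubgroup U} {h : H} {M KV S O : Subgroup H}
variable (B : Blk Y Q BB V F L C h M KV S O)
include B

/-- the ring generated by `KV` acts on `V₁ = A ⊗ E` through `A` -/
theorem exists_ringK {c : AddMonoid.End U} (hc : c ∈ ring U KV) :
    ∃ c' : AddMonoid.End (AM B.dat), ∀ (f : HomY Y (AM B.dat) U) (a : AM B.dat),
      c ((f : AM B.dat →+ U) a) = (f : AM B.dat →+ U) (c' a) := by
  induction hc using AddSubgroup.closure_induction with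
  | mem c hc =>
    obtain ⟨x, hx, rfl⟩ := hc
    let c' : AddMonoid.End (AM B.dat) :=
      AddMonoidHom.mk' (fun a => AM.mk (x * a.val * x⁻¹) (B.AA_K x hx _ a.val_mem)) fun a b => AM.ext (by
        change x * (a.val * b.val) * x⁻¹ = x * a.val * x⁻¹ * (x * b.val * x⁻¹)
        group)
    refine ⟨c', fun f a => ?_⟩
    obtain ⟨u, rfl⟩ := B.dat.mdl.psi_surj f
    rw [Mdl.psi_apply, Mdl.psi_apply, B.dat.bt_apply, B.dat.bt_apply]
    exact (B.br_K hx a.val_mem u).symm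
  | zero => exact ⟨0, fun f a => (map_zero (f : AM B.dat →+ U)).symm⟩
  | add c d _ _ hc hd =>
    obtain ⟨c', h1⟩ := hc
    obtain ⟨d', h2⟩ := hd
    refine ⟨c' + d', fun f a => ?_⟩
    change c ((f : AM B.dat →+ U) a) + d ((f : AM B.dat →+ U) a) = (f : AM B.dat →+ U) (c' a + d' a)
    rw [h1, h2, map_add]
  | neg c _ hc =>
    obtain ⟨c', h1⟩ := hc
    refine ⟨-c', fun f a => ?_⟩
    change - c ((f : AM B.dat →+ U) a) = (f : AM B.dat →+ U) (- c' a)
    rw [h1, map_neg]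

/-- one block -/
theorem ann_one {T : Subgroup H} (hT2 : IsPGroup 2 T) (hT : ¬ 2 ∣ T.relIndex Y) {w w' : U} (hw : w ∈ V1 B.dat)
    (hwT : ∀ t ∈ T, t ∈ Y → t • w = w) (hw0 : w ≠ 0) (hw' : w' ∈ V1 B.dat) (hwT' : ∀ t ∈ T, t ∈ Y → t • w' = w')
    {c : AddMonoid.End U} (hc : c ∈ ring U KV) (h0 : c w = 0) : c w' = 0 := by
  have hT' : ¬ 2 ∣ (T.subgroupOf Y).index := hT
  have hT2' : IsPGroup 2 (T.subgroupOf Y) := hT2.comap_of_injective _ (subtype_injective Y)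
  obtain ⟨n, -, hn0, hn⟩ := exists_fix (V := AM B.dat) (H := Y) hT2' B.dat.AM_two (A := ⊤)
    (fun _ _ _ _ => trivial) (by
      intro h
      obtain ⟨a, ha⟩ := (B.dat.isIrr).ne
      have : a ∈ (⊤ : AddSubgroup (AM B.dat)) := trivial
      rw [h] at this
      exact ha this)
  obtain ⟨f, rfl⟩ := exists_of_fix (allTv B.dat) B.dat.AM_two hT' hn0 hn (V1_le_img B.dat hw)
    (fun t ht => hwT t (mem_subgroupOf.1 ht) t.2)
  obtain ⟨f', rfl⟩ := exists_of_fix (allTv B.dat) B.dat.AM_two hT' hn0 hn (V1_le_img B.dat hw')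
    (fun t ht => hwT' t (mem_subgroupOf.1 ht) t.2)
  obtain ⟨c', hcc⟩ := exists_ringK B hc
  have hf0 : f ≠ 0 := by
    rintro rfl
    exact hw0 rfl
  rw [hcc] at h0 ⊢
  have h1 : c' n = 0 := HomY.inj hf0 (h0.trans (map_zero _).symm)
  rw [h1, map_zero]

omit [Finite H] [Finite U] in
/-- `x ∈ M` maps `rest m` to `rest (x m)` -/
theorem smul_rest {m x : H} (hx : x ∈ M) {v : U} (hv : v ∈ B.rest m) : x • v ∈ B.rest (x * m) := by
  induction hv using AddSubgroup.closure_induction with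
  | mem v hv =>
    obtain ⟨m', hm', hne, hv⟩ := hv
    refine AddSubgroup.subset_closure ⟨x * m', mul_mem hx hm', fun e => hne ?_, ?_⟩
    · rw [mul_smul, mul_smul] at e
      exact smul_left_cancel x e
    · rw [mul_smul]
      exact AddSubgroup.smul_mem_pointwise_smul _ _ _ hv
  | zero => rw [smul_zero]; exact zero_mem _
  | add a b _ _ ha hb => rw [smul_add]; exact add_mem ha hb
  | neg a _ ha => rw [smul_neg]; exact neg_mem ha

omit [Finite H] [Finite U] in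
theorem rest_congr {m m' : H} (e : m • V1 B.dat = m' • V1 B.dat) : B.rest m = B.rest m' := by
  unfold Blk.rest
  rw [e]

/-- an element of `V` without components is zero -/
theorem inf_rest {v : U} (hvV : v ∈ V) (hv : ∀ m ∈ M, v ∈ B.rest m) : v = 0 := by
  by_contra hv0
  let A : AddSubgroup U :=
    { carrier := {v | v ∈ V ∧ ∀ m ∈ M, v ∈ B.rest m}
      zero_mem' := ⟨zero_mem _, fun m _ => zero_mem _⟩
      add_mem' := fun {a b} ha hb => ⟨add_mem ha.1 hb.1, fun m hm => add_mem (ha.2 m hm) (hb.2 m hm)⟩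
      neg_mem' := fun {a} ha => ⟨neg_mem ha.1, fun m hm => neg_mem (ha.2 m hm)⟩ }
  have hAS : ∀ s ∈ S, ∀ v ∈ A, s • v ∈ A := by
    rintro s hs v ⟨h1, h2⟩
    refine ⟨B.mV s (B.SM hs) v h1, fun m hm => ?_⟩
    have h3 := smul_rest B (B.SM hs) (h2 _ (mul_mem (inv_mem (B.SM hs)) hm))
    rwa [mul_inv_cancel_left] at h3
  have hne : A ≠ ⊥ := by
    intro h0
    have h1 : v ∈ A := ⟨hvV, hv⟩
    rw [h0] at h1
    exact hv0 h1
  obtain ⟨z, hz, hz0, hzS⟩ := exists_fix B.S2 B.dat.two hAS hne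
  apply hz0
  have hYM : ∀ x ∈ B.YM, x • z = z := by
    intro x hx
    induction hx using closure_induction with
    | mem x hx =>
      obtain ⟨m, hm, k, hk, rfl⟩ := hx
      exact B.cent_rest hm hk (hz.2 m hm)
    | one => exact one_smul _ _
    | mul a b _ _ ha hb => rw [mul_smul, hb, ha]
    | inv a _ ha => rw [inv_smul_eq_iff, ha]
  exact B.cz z hz.1 hzS fun o ho => hYM o (B.O_le ho)

/-- the component of a fixed point is nonzero -/
theorem comp_ne {z : U} (hz0 : z ≠ 0) (hzV : z ∈ V) (hz : ∀ s ∈ S, s • z = z) {m : H} (hm : m ∈ M) :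
    z ∉ B.rest m := by
  intro h1
  refine hz0 (inf_rest B hzV fun m' hm' => ?_)
  obtain ⟨s, hs, e⟩ := B.trans hm hm'
  have h2 := smul_rest B (B.SM hs) h1
  rw [hz s hs] at h2
  rwa [rest_congr B (m := s * m) (m' := m') (by rw [mul_smul, e])] at h2

omit [Finite U] [AddCommGroup U] [DistribMulAction H U] B in
/-- a subgroup of odd index meets a subnormal subgroup in a subgroup of odd index -/
theorem sn_odd {Y K T : Subgroup H} (h : Sn Y K) (hT : ¬ 2 ∣ T.relIndex K) : ¬ 2 ∣ T.relIndex Y := by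
  induction h with
  | refl => exact hT
  | @step K K' _ h1 h2 ih =>
    refine ih ?_
    have hn : (K.subgroupOf K').Normal := ⟨fun n hn g => h2 g g.2 n hn⟩
    have h3 := not_dvd_relIndex (M := K') (S := T.subgroupOf K') (N := K.subgroupOf K') hT
    rwa [relIndex_subgroupOf h1] at h3

omit [Finite U] in
theorem odd_T {m : H} (hm : m ∈ M) : ¬ 2 ∣ (S.map (MulAut.conj m⁻¹).toMonoidHom).relIndex Y := by
  refine sn_odd (K := KV) B.sn ?_
  have hn : (KV.subgroupOf M).Normal := ⟨fun n hn g => B.nK g g.2 n hn⟩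
  have h1 : ¬ 2 ∣ ((S.map (MulAut.conj m⁻¹).toMonoidHom).subgroupOf M).index := by
    have e : (S.map (MulAut.conj m⁻¹).toMonoidHom).relIndex (M.map (MulAut.conj m⁻¹).toMonoidHom) = S.relIndex M :=
      relIndex_map_map_of_injective _ _ (MulAut.conj m⁻¹).injective
    have e2 : M.map (MulAut.conj m⁻¹).toMonoidHom = M := by
      ext x
      constructor
      · rintro ⟨y, hy, rfl⟩
        exact mul_mem (mul_mem (inv_mem hm) hy) (inv_mem (inv_mem hm))
      · intro hx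
        refine ⟨m * x * m⁻¹, mul_mem (mul_mem hm hx) (inv_mem hm), ?_⟩
        change m⁻¹ * (m * x * m⁻¹) * m⁻¹⁻¹ = x
        group
    rw [e2] at e
    change ¬ 2 ∣ (S.map (MulAut.conj m⁻¹).toMonoidHom).relIndex M
    rw [e]
    exact B.syl
  have h2 := not_dvd_relIndex (N := KV.subgroupOf M) h1
  rwa [relIndex_subgroupOf B.KM] at h2

/-- the component in `m V₁` of a fixed point is fixed by `m Y m⁻¹ ∩ S` -/
theorem comp_fix {m : H} (hm : m ∈ M) {z a b : U} (hz : ∀ s ∈ S, s • z = z) (ha : a ∈ m • V1 B.dat)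
    (hb : b ∈ B.rest m) (e : z = a + b) {s : H} (hs : s ∈ S) (hsK : s ∈ KV) : s • a = a := by
  have h1 : s • a ∈ m • V1 B.dat := B.smul_V1_K hm hsK ha
  have h2 : s • b ∈ B.rest m := by
    have h3 := smul_rest B (B.SM hs) hb
    rwa [rest_congr B (m := s * m) (m' := m) (by rw [mul_smul, B.smul_eq_K hm hsK])] at h3
  have h3 := hz s hs
  rw [e, smul_add] at h3
  have h4 : s • a - a = b - s • b := by
    rw [sub_eq_sub_iff_add_eq_add, h3, add_comm]
  have h5 : s • a - a ∈ m • V1 B.dat ⊓ B.rest m :=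
    AddSubgroup.mem_inf.2 ⟨sub_mem h1 ha, by rw [h4]; exact sub_mem hb h2⟩
  rw [B.indep hm, AddSubgroup.mem_bot] at h5
  exact sub_eq_zero.1 h5

/-- **(ANN)** -/
theorem ann {z z' : U} (hzV : z ∈ V) (hz0 : z ≠ 0) (hz : ∀ s ∈ S, s • z = z) (hzV' : z' ∈ V)
    (hz' : ∀ s ∈ S, s • z' = z') {c : AddMonoid.End U} (hc : c ∈ ring U KV) (h0 : c z = 0) : c z' = 0 := by
  have hcV : c z' ∈ V := apply_mem (X := KV) (fun k hk v hv => B.mV k (B.KM hk) v hv) hzV' hc
  refine inf_rest B hcV fun m hm => ?_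
  obtain ⟨a, ha, b, hb, e⟩ := B.exists_add m hzV
  obtain ⟨a', ha', b', hb', e'⟩ := B.exists_add m hzV'
  have hrK : ∀ x ∈ KV, ∀ v ∈ B.rest m, x • v ∈ B.rest m := by
    intro x hx v hv
    have h3 := smul_rest B (B.KM hx) hv
    rwa [rest_congr B (m := x * m) (m' := m) (by rw [mul_smul, B.smul_eq_K hm hx])] at h3
  have hVK : ∀ x ∈ KV, ∀ v ∈ m • V1 B.dat, x • v ∈ m • V1 B.dat := fun x hx v hv => B.smul_V1_K hm hx hv
  have hca : c a ∈ m • V1 B.dat := apply_mem hVK ha hc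
  have hcb : c b ∈ B.rest m := apply_mem hrK hb hc
  have hcb' : c b' ∈ B.rest m := apply_mem hrK hb' hc
  have h1 : c a = 0 := by
    rw [e, map_add] at h0
    have h2 : c a ∈ m • V1 B.dat ⊓ B.rest m := by
      refine AddSubgroup.mem_inf.2 ⟨hca, ?_⟩
      rw [eq_neg_of_add_eq_zero_left h0]
      exact neg_mem hcb
    rwa [B.indep hm, AddSubgroup.mem_bot] at h2
  have ha0 : a ≠ 0 := by
    intro h2
    apply comp_ne B hz0 hzV hz hm
    rw [e, h2, zero_add]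
    exact hb
  -- conjugate by `m⁻¹`
  have hcm : op U m⁻¹ * c * op U m⁻¹⁻¹ ∈ ring U KV :=
    Descent.conj_mem (fun x hx => B.nK _ (inv_mem hm) x hx) hc
  have key : ∀ v : U, (op U m⁻¹ * c * op U m⁻¹⁻¹) (m⁻¹ • v) = m⁻¹ • c v := by
    intro v
    change m⁻¹ • c (m⁻¹⁻¹ • m⁻¹ • v) = _
    rw [inv_inv, smul_inv_smul]
  have hmem : ∀ v ∈ m • V1 B.dat, m⁻¹ • v ∈ V1 B.dat := fun v hv =>
    AddSubgroup.mem_pointwise_smul_iff_inv_smul_mem.1 hv
  have hfix : ∀ v, v ∈ m • V1 B.dat → (∀ s ∈ S, s ∈ KV → s • v = v) →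
      ∀ t ∈ S.map (MulAut.conj m⁻¹).toMonoidHom, t ∈ Y → t • m⁻¹ • v = m⁻¹ • v := by
    rintro v - hv _ ⟨s, hs, rfl⟩ ht
    have hsK : s ∈ KV := by
      have h2 := B.nK m hm _ (B.YK ht)
      have e3 : m * (MulAut.conj m⁻¹).toMonoidHom s * m⁻¹ = s := by
        change m * (m⁻¹ * s * m⁻¹⁻¹) * m⁻¹ = s
        group
      rwa [e3] at h2
    change (m⁻¹ * s * m⁻¹⁻¹) • m⁻¹ • v = _
    rw [smul_smul, inv_inv, mul_assoc, mul_inv_cancel, mul_one, mul_smul, hv s hs hsK]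
  have h2 : (op U m⁻¹ * c * op U m⁻¹⁻¹) (m⁻¹ • a') = 0 := by
    refine ann_one B (T := S.map (MulAut.conj m⁻¹).toMonoidHom) (B.S2.map _) (odd_T B hm)
      (w := m⁻¹ • a) (hmem a ha) (hfix a ha fun s hs hsK => comp_fix B hm hz ha hb e hs hsK) ?_ (hmem a' ha')
      (hfix a' ha' fun s hs hsK => comp_fix B hm hz' ha' hb' e' hs hsK) hcm ?_
    · intro h3
      exact ha0 (by rw [← smul_inv_smul m a, h3, smul_zero])
    · rw [key, h1, smul_zero]
  rw [key] at h2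
  have h3 : c a' = 0 := by rw [← smul_inv_smul m (c a'), h2, smul_zero]
  rw [e', map_add, h3, zero_add]
  exact hcb'

end Cfsg.Agent.Omega.NO3b.Exit.DescAnn

end
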