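import Cfsg.Agent.Mrg.Omega.NO3b.Exit.MU
import Cfsg.Agent.Mrg.Omega.NO3b.Exit.AllLocal
import Cfsg.Agent.Mrg.Omega.NO3b.TheoremL.Core2
import Cfsg.Agent.Mrg.Omega.NO3b.Chain.Two
import Cfsg.Agent.Mrg.Omega.NO3b.Exit.LocBar
import Cfsg.Agent.Mrg.Omega.NO3b.Chain.ShapeP
import Cfsg.Agent.Mrg.Omega.NO3b.Chain.Group
import Cfsg.Agent.Mrg.Omega.NO3b.Exit.TenSplit

section


/-!
# The bridge group → module for the local exit of NotFF, part 2: the X-side

`Sit V F T X U` : the panel `X` over `T` acts on the elementary abelian `U ≥ V`.  `h : H ≤ N_G(U)`, `X ≤ H`,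
`X̄ = im h X ≤ XX h`, `imx h X A` the image of `A ≤ X` as a subgroup of `X̄`.

* `Sit.of_fl` : from `Fl`, `Par` (`NoEmp.Lines`);
* `Sit.sylb` : the Sylow 2-subgroup `T̄` of `X̄`; `core_eq` : `O₂(X̄)` is the image of `O₂(X)`;
* `Sit.datU` : `DatU T̄ V F` for `X̄` on `MU hc` (344's input of THEOREM L);
* `Sit.mbu` : an optimal offender `A ≤ T` of `U`, `A ≰ O₂(X)`, is a minimal best offender of `X̄`, not in `O₂(X̄)`;
* `Sit.tight` : TIGHT for `X̄`; `GTight`, `Sit.gtight` : TIGHT in `G`.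
-/

set_option autoImplicit false

namespace Cfsg.Agent.Omega.NO3b.Exit.Bridge

open Subgroup Cfsg
open Cfsg.Agent.ZN (o2 zc zl)
open Cfsg.Agent.ZN.ChoiceBase (cj mem_cj cj_mono cj_eq_of_mem_normalizer mem_normalizer_iff_cj)
open Cfsg.Agent.ZN.ChoiceSit (Syl syl_iff syl_not_dvd o2_le_syl)
open Cfsg.Agent.MinSimple.MinParabolic (IsMinPar)
open Cfsg.Agent.MinSimple.VModule (oddGen oddGen_le le_normalizer_o2 o2_isPGroup le_o2 o2_le)
open Cfsg.Agent.Omega.FF.Basic (fx mm EA)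
open Cfsg.Agent.Omega.NO3b.EZero (NotFF Par oddGen_sup_syl)
open Cfsg.Agent.Omega.NO3b.Alpha (Fl)
open Cfsg.Agent.Omega.NO3b.Exit.TT (cf nf mem_cf mem_nf mem_smul)
open Cfsg.Agent.Omega.FFBr (XX pr im mem_im card_im coe_pr_smul pr_eq_one pr_surjective)
open Cfsg.Agent.Omega.NOThreeL.Star (Opt Ok ff)
open Cfsg.Agent.Omega.NO3b.TheoremL.Tight (DatU MBU TightAt Tight)
open scoped Pointwise

universe u

variable {G : Type u} [Group G]

/-- The panel `X` over `T` acts on `U ≥ V`. -/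
structure Sit (V F T X U : Subgroup G) [Finite G] : Prop where
  cm : U ≤ centralizer (U : Set G)
  sq : ∀ u ∈ U, u ^ 2 = 1
  VU : V ≤ U
  XU : X ≤ normalizer (U : Set G)
  nff : NotFF V
  FV : F ≤ V
  XF : X ≤ centralizer (F : Set G)
  syl : Syl T X
  mp : IsMinPar T X
  TV : T ≤ normalizer (V : Set G)
  nle : ¬ X ≤ normalizer (V : Set G)
  min : ∀ M : Subgroup G, T ≤ M → M ≤ X → M ≠ X → M ≤ normalizer (V : Set G)
  ti : ∀ x ∈ X, x ∉ normalizer (V : Set G) → V ⊓ cj x V ≤ F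

variable {H U X : Subgroup G} (h : H ≤ normalizer (U : Set G)) (hX : X ≤ H)

/-- `X →* X̄` -/
def phi : X →* ↥(im h X) where
  toFun x := ⟨pr h ⟨x, hX x.2⟩, ⟨x, hX x.2⟩, x.2, rfl⟩
  map_one' := Subtype.ext (map_one (pr h))
  map_mul' x y := Subtype.ext (map_mul (pr h) ⟨x, hX x.2⟩ ⟨y, hX y.2⟩)

@[simp] theorem coe_phi (x : X) : ((phi h hX x : ↥(im h X)) : XX h) = pr h ⟨x, hX x.2⟩ := rfl

theorem phi_surjective : Function.Surjective (phi h hX) := by
  rintro ⟨_, ⟨g, hg, rfl⟩⟩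
  exact ⟨⟨g, hg⟩, rfl⟩

/-- the image of `A` in `X̄` -/
def imx (X A : Subgroup G) : Subgroup ↥(im h X) := (im h A).subgroupOf (im h X)

theorem imx_eq_map {A : Subgroup G} (hA : A ≤ X) : imx h X A = (A.subgroupOf X).map (phi h hX) := by
  ext y
  constructor
  · rintro ⟨g, hg, hgy⟩
    exact ⟨⟨g, hA hg⟩, hg, Subtype.ext hgy⟩
  · rintro ⟨x, hx, rfl⟩
    exact ⟨⟨x, hX x.2⟩, hx, rfl⟩

theorem mem_imx {A : Subgroup G} {y : ↥(im h X)} : y ∈ imx h X A ↔ ∃ a : H, (a : G) ∈ A ∧ pr h a = y := Iff.rfl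

theorem phi_mem_imx {A : Subgroup G} {x : X} (hx : (x : G) ∈ A) : phi h hX x ∈ imx h X A :=
  ⟨⟨x, hX x.2⟩, hx, rfl⟩

theorem exists_of_mem_imx {A : Subgroup G} (hA : A ≤ X) {y : ↥(im h X)} (hy : y ∈ imx h X A) :
    ∃ x : X, (x : G) ∈ A ∧ phi h hX x = y := by
  rw [imx_eq_map h hX hA] at hy
  exact hy

theorem imx_mono {A B : Subgroup G} (hAB : A ≤ B) : imx h X A ≤ imx h X B := by
  rintro y ⟨g, hg, hgy⟩
  exact ⟨g, hAB hg, hgy⟩

theorem isPGroup_imx {A : Subgroup G} (hA : IsPGroup 2 A) (hAX : A ≤ X) (hX : X ≤ H) : IsPGroup 2 (imx h X A) := by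
  rw [imx_eq_map h hX hAX]
  exact (hA.comap_of_injective _ X.subtype_injective).map _

variable {hc : U ≤ centralizer (U : Set G)}

theorem card_imx [Finite G] {A : Subgroup G} (hA : A ≤ X) (hX : X ≤ H) :
    Nat.card (imx h X A) * Nat.card ↥(A ⊓ centralizer (U : Set G)) = Nat.card A := by
  rw [← card_im h (hA.trans hX)]
  congr 1
  exact Nat.card_congr (subgroupOfEquivOfLe (fun _ hy => by
    obtain ⟨g, hg, rfl⟩ := hy
    exact ⟨g, hA hg, rfl⟩)).toEquiv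

theorem card_imx' [Finite G] {A : Subgroup G} (hA : A ≤ X) (hX : X ≤ H) :
    Nat.card (imx h X A) = (centralizer (U : Set G)).relIndex A := by
  have h1 := card_imx h hA hX
  have h2 := NOThreeL.Star.rel_mul_card A (centralizer (U : Set G))
  rw [← h1] at h2
  exact (Nat.eq_of_mul_eq_mul_right Nat.card_pos h2).symm

/-- the pointwise action of `X̄` -/
theorem sm_phi (x : X) (K : Subgroup G) : sm (phi h hX x) (ad hc K) = ad hc (cj (x : G) K) := by
  ext w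
  rw [sm, mem_smul]
  change (pr h ⟨x, hX x.2⟩)⁻¹ • w ∈ ad hc K ↔ _
  rw [mem_ad, mem_ad, val_smul_inv, mem_cj]

theorem phi_mem_nf_iff {x : X} {K : Subgroup G} (hK : K ≤ U) :
    phi h hX x ∈ nf ↥(im h X) (ad hc K) ↔ (x : G) ∈ normalizer (K : Set G) := by
  have h1 := cj_mono (x : G) hK
  rw [cj_eq_of_mem_normalizer (h (hX x.2))] at h1
  have h2 : phi h hX x ∈ nf ↥(im h X) (ad hc K) ↔ sm (phi h hX x) (ad hc K) = ad hc K := mem_nf
  rw [h2, sm_phi, mem_normalizer_iff_cj, ad_inj h1 hK]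

theorem val_phi (x : X) (w : MU hc) : val (phi h hX x • w) = x * val w * (x : G)⁻¹ := rfl

theorem val_phi_sub (x : X) (w : MU hc) :
    val (phi h hX x • w - w) = x * val w * (x : G)⁻¹ * (val w)⁻¹ := by
  rw [val_sub, val_phi]

theorem phi_smul_eq_iff {x : X} {w : MU hc} : phi h hX x • w = w ↔ (x : G) * val w = val w * x :=
  pr_smul_eq_iff' h (g := ⟨x, hX x.2⟩)

theorem phi_mem_cf_iff {x : X} {K : Subgroup G} (hK : K ≤ U) :
    phi h hX x ∈ cf ↥(im h X) (ad hc K) ↔ (x : G) ∈ centralizer (K : Set G) := by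
  rw [mem_cf, mem_centralizer_iff]
  constructor
  · intro h1 k hk
    exact ((phi_smul_eq_iff h hX).1 (h1 (mk hc (hK hk)) hk)).symm
  · intro h1 w hw
    exact (phi_smul_eq_iff h hX).2 (h1 _ hw).symm

theorem fx_imx {A : Subgroup G} (hA : A ≤ X) (hX : X ≤ H) :
    fx (MU hc) (imx h X A) = ad hc (centralizer (A : Set G)) := by
  ext w
  rw [mem_ad, mem_centralizer_iff]
  constructor
  · intro hw a ha
    exact (phi_smul_eq_iff h hX).1 (hw (phi h hX ⟨a, hA ha⟩) (phi_mem_imx h hX ha))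
  · intro hw y hy
    obtain ⟨x, hx, rfl⟩ := exists_of_mem_imx h hX hA hy
    exact (phi_smul_eq_iff h hX).2 (hw x hx)

theorem mm_imx [Finite G] {A : Subgroup G} (hA : A ≤ X) (hX : X ≤ H) : mm (MU hc) (imx h X A) = ff U A := by
  rw [mm, card_imx' h hA hX, fx_imx h hA hX, card_ad, ff]

theorem phi_eq_one {x : X} : phi h hX x = 1 ↔ (x : G) ∈ centralizer (U : Set G) := by
  rw [← pr_eq_one h (g := ⟨x, hX x.2⟩)]
  exact Subtype.ext_iff

/-- every 2-subgroup of `X̄` is the image of a 2-subgroup of `X` -/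
theorem exists_imx [Finite G] {A : Subgroup ↥(im h X)} (hA : IsPGroup 2 A) (hX : X ≤ H) :
    ∃ A₀ : Subgroup G, A₀ ≤ X ∧ IsPGroup 2 A₀ ∧ imx h X A₀ = A := by
  have hfact : Fact (Nat.Prime 2) := ⟨Nat.prime_two⟩
  set K : Subgroup X := A.comap (phi h hX) with hK
  let ψ : K →* A := ((phi h hX).comp K.subtype).codRestrict A fun x => x.2
  have hψ : Function.Surjective ψ := by
    rintro ⟨y, hy⟩
    obtain ⟨x, rfl⟩ := phi_surjective h hX y
    exact ⟨⟨x, hy⟩, rfl⟩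
  obtain ⟨P⟩ := (inferInstance : Nonempty (Sylow 2 K))
  have h1 : (P.mapSurjective hψ : Subgroup A) = ⊤ := by
    apply (P.mapSurjective hψ).3 _ le_top |>.symm
    exact hA.of_equiv Subgroup.topEquiv.symm
  refine ⟨((P : Subgroup K).map K.subtype).map X.subtype, map_subtype_le _, (P.2.map _).map _, ?_⟩
  rw [imx_eq_map h hX (map_subtype_le _)]
  have e : (((P : Subgroup K).map K.subtype).map X.subtype).subgroupOf X = (P : Subgroup K).map K.subtype :=
    comap_map_eq_self_of_injective X.subtype_injective _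
  rw [e]
  apply le_antisymm
  · rintro _ ⟨_, ⟨k, -, rfl⟩, rfl⟩
    exact k.2
  · intro y hy
    have h2 : (⟨y, hy⟩ : A) ∈ (P.mapSurjective hψ : Subgroup A) := by rw [h1]; exact mem_top _
    rw [Sylow.coe_mapSurjective] at h2
    obtain ⟨k, hk, hky⟩ := h2
    exact ⟨k, ⟨k, hk, rfl⟩, congrArg Subtype.val hky⟩

variable [Finite G] {V F T : Subgroup G}

/-- from the panels of ALPHA -/
theorem Sit.of_fl {S : Sylow 2 G} {J : Subgroup G} (hG : IsCharacteristicTwoType G) (l : NoEmp.Lines S J V)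
    (f : Fl S V F T) (p : Par V F T X) (cm : U ≤ centralizer (U : Set G)) (sq : ∀ u ∈ U, u ^ 2 = 1) (VU : V ≤ U)
    (XU : X ≤ normalizer (U : Set G)) : Sit V F T X U where
  cm := cm
  sq := sq
  VU := VU
  XU := XU
  nff := l.nff
  FV := f.le
  XF := p.le
  syl := f.sylX p
  mp := f.isMinPar l p
  TV := f.T_le.trans l.S_le
  nle := p.nle
  min := p.min
  ti := fun x hx hn => ((pan f l p fun g hg => Alpha.ti hG l g hg).line x hx hn).le

namespace Sit

variable (s : Sit V F T X U)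
include s

theorem two (w : MU s.cm) : w + w = 0 := by
  apply val_inj
  rw [val_add, val_zero, ← pow_two]
  exact s.sq _ (val_mem w)

omit [Finite G] s in
theorem faith_x (hc : U ≤ centralizer (U : Set G)) (x : ↥(im h X)) (hx : ∀ w : MU hc, x • w = w) : x = 1 :=
  Subtype.ext (faith h (x : XX h) hx)

include hX

/-- the Sylow 2-subgroup `T̄` -/
theorem exists_syl : ∃ P : Sylow 2 ↥(im h X), (P : Subgroup ↥(im h X)) = imx h X T := by
  have hfact : Fact (Nat.Prime 2) := ⟨Nat.prime_two⟩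
  obtain ⟨P, hP⟩ := syl_iff.1 s.syl
  refine ⟨P.mapSurjective (phi_surjective h hX), ?_⟩
  rw [Sylow.coe_mapSurjective, imx_eq_map h hX s.syl.1]
  congr 1
  rw [← hP]
  exact (comap_map_eq_self_of_injective X.subtype_injective _).symm

theorem SV {P : Sylow 2 ↥(im h X)} (hP : (P : Subgroup ↥(im h X)) = imx h X T) :
    (P : Subgroup ↥(im h X)) ≤ nf ↥(im h X) (ad s.cm V) := by
  rw [hP]
  intro y hy
  obtain ⟨x, hx, rfl⟩ := exists_of_mem_imx h hX s.syl.1 hy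
  exact (phi_mem_nf_iff h hX s.VU).2 (s.TV hx)

theorem ne_bar : nf ↥(im h X) (ad s.cm V) ≠ ⊤ := by
  intro h0
  apply s.nle
  intro x hx
  have h1 : phi h hX ⟨x, hx⟩ ∈ nf ↥(im h X) (ad s.cm V) := by rw [h0]; exact mem_top _
  exact (phi_mem_nf_iff h hX s.VU).1 h1

theorem uniq {P : Sylow 2 ↥(im h X)} (hP : (P : Subgroup ↥(im h X)) = imx h X T) (K : Subgroup ↥(im h X))
    (hPK : (P : Subgroup ↥(im h X)) ≤ K) (hK : K ≠ ⊤) : K ≤ nf ↥(im h X) (ad s.cm V) := by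
  have h1 := s.min ((K.comap (phi h hX)).map X.subtype) (by
    intro t ht
    refine ⟨⟨t, s.syl.1 ht⟩, ?_, rfl⟩
    apply hPK
    rw [hP]
    exact phi_mem_imx h hX ht) (map_subtype_le _) (fun h0 => hK (by
      rw [eq_top_iff]
      intro y _
      obtain ⟨x, rfl⟩ := phi_surjective h hX y
      have h2 : (x : G) ∈ (K.comap (phi h hX)).map X.subtype := by rw [h0]; exact x.2
      obtain ⟨x', hx', h3⟩ := h2
      rwa [Subtype.ext h3] at hx'))
  intro y hy
  obtain ⟨x, rfl⟩ := phi_surjective h hX y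
  exact (phi_mem_nf_iff h hX s.VU).2 (h1 ⟨x, hy, rfl⟩)

omit hX in
theorem FV_bar : ad s.cm F ≤ ad s.cm V := ad_mono s.FV

theorem Fx_bar (y : ↥(im h X)) (w : MU s.cm) (hw : w ∈ ad s.cm F) : y • w = w := by
  obtain ⟨x, rfl⟩ := phi_surjective h hX y
  refine (phi_smul_eq_iff h hX).2 ?_
  exact (mem_centralizer_iff.1 (s.XF x.2) _ hw).symm

theorem ti_bar (y : ↥(im h X)) (hy : sm y (ad s.cm V) ≠ ad s.cm V) : ad s.cm V ⊓ sm y (ad s.cm V) ≤ ad s.cm F := by
  obtain ⟨x, rfl⟩ := phi_surjective h hX y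
  rw [sm_phi] at hy ⊢
  rw [← ad_inf]
  refine ad_mono (s.ti x x.2 fun h0 => hy ?_)
  rw [cj_eq_of_mem_normalizer h0]

theorem nff_bar (A : Subgroup ↥(im h X)) (hA : IsPGroup 2 A) (hn : A ≤ nf ↥(im h X) (ad s.cm V))
    (hsq : ∀ a ∈ A, ∀ v ∈ ad s.cm V, a • a • v = v) (hne : ¬ A ≤ cf ↥(im h X) (ad s.cm V)) :
    Nat.card A * Nat.card ↥(ad s.cm V ⊓ fx (MU s.cm) A) <
      Nat.card (ad s.cm V) * Nat.card ↥(A ⊓ cf ↥(im h X) (ad s.cm V)) := by
  obtain ⟨A₀, hA₀X, hA₀p, rfl⟩ := exists_imx h hA hX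
  have hAV : A₀ ≤ normalizer (V : Set G) := fun a ha =>
    (phi_mem_nf_iff h hX (hc := s.cm) s.VU (x := ⟨a, hA₀X ha⟩)).1 (hn (phi_mem_imx h hX ha))
  have key : ∀ a ∈ A₀, ∀ v ∈ V, a * (a * v * a⁻¹) * a⁻¹ = v := by
    intro a ha v hv
    have h1 := hsq (phi h hX ⟨a, hA₀X ha⟩) (phi_mem_imx h hX ha) (Bridge.mk s.cm (s.VU hv)) hv
    exact congrArg val h1
  have hsq' : ∀ a ∈ A₀, a ^ 2 ∈ centralizer (V : Set G) := by
    intro a ha
    rw [mem_centralizer_iff]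
    intro v hv
    have h1 := key a ha v hv
    have e : v * a ^ 2 = (a * (a * v * a⁻¹) * a⁻¹) * a ^ 2 := by rw [h1]
    rw [e, pow_two]; group
  have hcomm : ∀ a ∈ A₀, ∀ b ∈ A₀, a * b * a⁻¹ * b⁻¹ ∈ centralizer (V : Set G) := by
    intro a ha b hb
    have hVn : (centralizer (V : Set G)).subgroupOf (normalizer (V : Set G)) |>.Normal := inferInstance
    have h1 := hsq' a ha
    have h2 := hsq' b hb
    have h3 := hsq' (a * b) (mul_mem ha hb)
    have e : a * b * a⁻¹ * b⁻¹ = (a * b) ^ 2 * ((b⁻¹ * (a ^ 2)⁻¹ * b)) * (b ^ 2)⁻¹ := by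
      rw [pow_two, pow_two, pow_two]; group
    rw [e]
    refine mul_mem (mul_mem h3 ?_) (inv_mem h2)
    have h4 := hVn.conj_mem ⟨(a ^ 2)⁻¹, inv_mem (centralizer_le_normalizer _ h1)⟩ (inv_mem h1)
      (⟨b, hAV hb⟩⁻¹ : ↥(normalizer (V : Set G)))
    have h5 : b⁻¹ * (a ^ 2)⁻¹ * (b⁻¹)⁻¹ ∈ centralizer (V : Set G) := h4
    rwa [inv_inv] at h5
  have hnc : ¬ A₀ ≤ centralizer (V : Set G) := fun h0 => hne fun y hy => by
    obtain ⟨x, hx, rfl⟩ := exists_of_mem_imx h hX hA₀X hy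
    exact (phi_mem_cf_iff h hX s.VU).2 (h0 hx)
  have h1 := s.nff A₀ hA₀p hAV hsq' hcomm hnc
  have e1 : ad s.cm V ⊓ fx (MU s.cm) (imx h X A₀) = ad s.cm (V ⊓ centralizer (A₀ : Set G)) := by
    rw [fx_imx h hA₀X hX, ad_inf]
  have e2 : imx h X A₀ ⊓ cf ↥(im h X) (ad s.cm V) = imx h X (A₀ ⊓ centralizer (V : Set G)) := by
    ext y
    constructor
    · rintro ⟨h2, h3⟩
      obtain ⟨x, hx, rfl⟩ := exists_of_mem_imx h hX hA₀X h2
      exact phi_mem_imx h hX ⟨hx, (phi_mem_cf_iff h hX s.VU).1 h3⟩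
    · intro h2
      obtain ⟨x, hx, rfl⟩ := exists_of_mem_imx h hX (inf_le_left.trans hA₀X) h2
      exact ⟨phi_mem_imx h hX hx.1, (phi_mem_cf_iff h hX s.VU).2 hx.2⟩
  rw [e1, e2, card_ad_of_le (inf_le_left.trans s.VU), card_ad_of_le s.VU]
  have c1 := card_imx h hA₀X hX
  have c2 := card_imx h (inf_le_left.trans hA₀X : A₀ ⊓ centralizer (V : Set G) ≤ X) hX
  have e3 : A₀ ⊓ centralizer (V : Set G) ⊓ centralizer (U : Set G) = A₀ ⊓ centralizer (U : Set G) := by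
    rw [inf_assoc, inf_eq_right.2 (centralizer_le s.VU)]
  rw [e3] at c2
  have r1 := NOThreeL.Star.rel_mul_card A₀ (centralizer (V : Set G))
  have r2 := NOThreeL.Star.rel_mul_card V (centralizer (A₀ : Set G))
  have p0 : 0 < Nat.card ↥(A₀ ⊓ centralizer (U : Set G)) := Nat.card_pos
  have p1 : 0 < Nat.card ↥(A₀ ⊓ centralizer (V : Set G)) := Nat.card_pos
  have p2 : 0 < Nat.card ↥(V ⊓ centralizer (A₀ : Set G)) := Nat.card_pos
  refine lt_of_mul_lt_mul_right ?_ p0.le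
  calc Nat.card (imx h X A₀) * Nat.card ↥(V ⊓ centralizer (A₀ : Set G)) * Nat.card ↥(A₀ ⊓ centralizer (U : Set G))
      = (Nat.card (imx h X A₀) * Nat.card ↥(A₀ ⊓ centralizer (U : Set G))) *
          Nat.card ↥(V ⊓ centralizer (A₀ : Set G)) := by ring
    _ = (centralizer (V : Set G)).relIndex A₀ *
          (Nat.card ↥(A₀ ⊓ centralizer (V : Set G)) * Nat.card ↥(V ⊓ centralizer (A₀ : Set G))) := by
        rw [c1, ← r1]; ring
    _ < (centralizer (A₀ : Set G)).relIndex V *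
          (Nat.card ↥(A₀ ⊓ centralizer (V : Set G)) * Nat.card ↥(V ⊓ centralizer (A₀ : Set G))) :=
        Nat.mul_lt_mul_of_pos_right h1 (Nat.mul_pos p1 p2)
    _ = Nat.card V * Nat.card ↥(A₀ ⊓ centralizer (V : Set G)) := by rw [← r2]; ring
    _ = _ := by rw [← c2]; ring

/-! ### `O₂(X̄)` -/

theorem cap_core : T ⊓ ((pCore 2 ↥(im h X)).comap (phi h hX)).map X.subtype ≤ o2 X := by
  have hfact : Fact (Nat.Prime 2) := ⟨Nat.prime_two⟩
  have hN : (pCore 2 ↥(im h X)).Normal := Lib.Cores.pCore_normal 2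
  have hN' : ((pCore 2 ↥(im h X)).comap (phi h hX)).Normal := hN.comap _
  have hXn : X ≤ normalizer ((((pCore 2 ↥(im h X)).comap (phi h hX)).map X.subtype : Subgroup G) : Set G) := by
    have h1 := (normalizer_eq_top_iff (H := (pCore 2 ↥(im h X)).comap (phi h hX))).2 hN'
    have h2 := le_normalizer_map (H := (pCore 2 ↥(im h X)).comap (phi h hX)) X.subtype
    rw [h1, ← MonoidHom.range_eq_map, range_subtype] at h2
    exact h2
  rcases K0.min_or s.syl s.mp (map_subtype_le _) hXn with h1 | h1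
  · exfalso
    apply s.nle
    rw [← oddGen_sup_syl s.syl]
    refine sup_le (le_trans ?_ ((centralizer_le s.VU).trans (centralizer_le_normalizer _))) s.TV
    rw [MinSimple.VModule.oddGen_def, closure_le]
    rintro x ⟨hx, hodd⟩
    have h2 := h1 (MinSimple.VModule.mem_oddGen hx hodd)
    obtain ⟨x', hx', rfl⟩ := h2
    refine (phi_eq_one h hX).1 ?_
    have h3 : IsPGroup 2 (pCore 2 ↥(im h X)) := Lib.Cores.pCore_isPGroup 2
    have h4 : orderOf (phi h hX x') ∣ orderOf x' := orderOf_map_dvd _ _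
    have h5 : orderOf (x' : G) = orderOf x' := orderOf_coe x'
    obtain ⟨k, hk⟩ := IsPGroup.iff_orderOf.1 h3 ⟨phi h hX x', hx'⟩
    have h6 : orderOf (phi h hX x') = 2 ^ k := by rw [← hk]; exact (orderOf_mk _ _).symm
    have hodd' : Odd (orderOf (phi h hX x')) := Odd.of_dvd_nat (by
      rw [← h5]; exact hodd) h4
    rw [h6] at hodd'
    rcases Nat.eq_zero_or_pos k with h7 | h7
    · rw [h7, pow_zero] at h6
      exact orderOf_eq_one_iff.1 h6
    · exact absurd hodd' (Nat.not_odd_iff_even.2 ((Nat.even_pow.2 ⟨even_two, h7.ne'⟩)))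
  · exact h1

/-- `O₂(X̄)` is the image of `O₂(X)`. -/
theorem core_eq : imx h X (o2 X) = pCore 2 ↥(im h X) := by
  have hfact : Fact (Nat.Prime 2) := ⟨Nat.prime_two⟩
  apply le_antisymm
  · have h1 : (imx h X (o2 X)).Normal := by
      rw [imx_eq_map h hX (o2_le X)]
      refine Normal.map ?_ _ (phi_surjective h hX)
      exact normal_subgroupOf_of_le_normalizer (le_normalizer_o2 X)
    exact le_sSup ⟨h1, isPGroup_imx h (o2_isPGroup X) (o2_le X) hX⟩
  · intro y hy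
    obtain ⟨P, hP⟩ := s.exists_syl h hX
    have h1 : y ∈ imx h X T := by
      rw [← hP]
      exact Lib.Cores.pCore_le_sylow P hy
    obtain ⟨x, hx, rfl⟩ := exists_of_mem_imx h hX s.syl.1 h1
    exact phi_mem_imx h hX (s.cap_core h hX ⟨hx, ⟨x, hy, rfl⟩⟩)

/-! ### The optimal offender -/

variable {A : Subgroup G} (o : Opt U A)
include o

omit [Finite G] s in
theorem ea_bar (hA : A ≤ X) : EA (imx h X A) := by
  intro y hy
  obtain ⟨x, hx, rfl⟩ := exists_of_mem_imx h hX hA hy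
  rw [← map_mul, phi_eq_one]
  have h1 := o.sq _ hx
  rw [pow_two] at h1
  exact h1

omit o in
theorem nle_bar (hA : A ≤ T) (hQ : ¬ A ≤ o2 X) : ¬ imx h X A ≤ pCore 2 ↥(im h X) := by
  intro h0
  apply hQ
  intro a ha
  refine s.cap_core h hX ⟨hA ha, ⟨⟨a, s.syl.1 (hA ha)⟩, h0 ?_, rfl⟩⟩
  exact phi_mem_imx h hX ha

omit s in
theorem off_bar (hA : A ≤ X) (hc : U ≤ centralizer (U : Set G)) :
    Nat.card (MU hc) ≤ mm (MU hc) (imx h X A) := by
  rw [mm_imx h hA hX, card_MU]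
  have h1 : Ok U (⊥ : Subgroup G) :=
    { sq := fun a ha => by rw [mem_bot.1 ha, one_pow]; exact one_mem _
      comm := fun a ha b hb => by
        rw [mem_bot.1 ha, mem_bot.1 hb, inv_one, mul_one, mul_one, mul_one]; exact one_mem _
      pg := IsPGroup.of_bot
      norm := bot_le }
  refine le_trans ?_ (o.max _ h1)
  unfold ff
  rw [relIndex_bot_right, one_mul, coe_bot, centralizer_eq_top_iff_subset.2 (by
    intro x hx
    rw [Set.mem_singleton_iff.1 hx]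
    exact one_mem _), inf_top_eq]

omit s in
theorem min_bar (hA : A ≤ X) (hc : U ≤ centralizer (U : Set G)) (E : Subgroup ↥(im h X))
    (hE : E < imx h X A) (hE1 : E ≠ ⊥) : mm (MU hc) E < mm (MU hc) (imx h X A) := by
  set A₁ : Subgroup G := A ⊓ (E.comap (phi h hX)).map X.subtype with hA₁
  have hA₁A : A₁ ≤ A := inf_le_left
  have hAX : A₁ ≤ X := hA₁A.trans hA
  have e : imx h X A₁ = E := by
    apply le_antisymm
    · intro y hy
      obtain ⟨x, hx, rfl⟩ := exists_of_mem_imx h hX hAX hy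
      obtain ⟨x', hx', h1⟩ := hx.2
      rwa [Subtype.ext h1] at hx'
    · intro y hy
      obtain ⟨x, hx, rfl⟩ := exists_of_mem_imx h hX hA (hE.le hy)
      exact phi_mem_imx h hX ⟨hx, ⟨x, hy, rfl⟩⟩
  have ok : Ok U A₁ := o.toOk.mono hA₁A
  have hnc : ¬ A₁ ≤ centralizer (U : Set G) := by
    intro h0
    apply hE1
    rw [← e, eq_bot_iff]
    intro y hy
    obtain ⟨x, hx, rfl⟩ := exists_of_mem_imx h hX hAX hy
    exact mem_bot.2 ((phi_eq_one h hX).2 (h0 hx))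
  have h1 := o.max _ ok
  rw [← e, mm_imx h hA hX, mm_imx h hAX hX]
  refine lt_of_le_of_ne h1 fun h2 => ?_
  have h3 := o.min _ ok hnc h2
  rw [← card_imx' h hA hX, ← card_imx' h hAX hX, e] at h3
  exact absurd (eq_of_le_of_card_ge hE.le h3) hE.ne

omit o in
/-- **the input of THEOREM L** -/
theorem datU {P : Sylow 2 ↥(im h X)} (hP : (P : Subgroup ↥(im h X)) = imx h X T) :
    DatU P (ad s.cm V) (ad s.cm F) where
  two := s.two
  faith := faith_x h s.cm
  SV := s.SV h hX hP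
  ne := s.ne_bar h hX
  uniq := s.uniq h hX hP
  FV := s.FV_bar
  Fx := fun x f hf => s.Fx_bar h hX x f hf
  ti := s.ti_bar h hX
  nff := s.nff_bar h hX

theorem mbu (hA : A ≤ T) (hQ : ¬ A ≤ o2 X) : MBU (MU s.cm) (imx h X A) where
  ea := ea_bar h hX o (hA.trans s.syl.1)
  nle := s.nle_bar h hX hA hQ
  off := off_bar h hX o (hA.trans s.syl.1) s.cm
  min := fun E h1 h2 => min_bar h hX o (hA.trans s.syl.1) s.cm E h1 h2

/-- **TIGHT** -/
theorem tight (hA : A ≤ T) (hQ : ¬ A ≤ o2 X) : Tight (imx h X A) (ad s.cm V) (ad s.cm F) := by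
  obtain ⟨P, hP⟩ := s.exists_syl h hX
  exact TheoremL.Tight.tight (s.datU h hX hP) (s.mbu h hX o hA hQ)

end Sit

/-! ### TIGHT in `G` -/

/-- **TIGHT**, for the line `V^x`, in `G` -/
structure GTightAt (V F X U A : Subgroup G) (x : G) : Prop where
  sup : cj x V ⊔ (U ⊓ centralizer (A : Set G)) = U
  inf : cj x V ⊓ centralizer (A : Set G) = F
  nf_iff : ∀ a ∈ A, a ∈ normalizer ((cj x V : Subgroup G) : Set G) ↔ a ∈ o2 X
  cf : ∀ a ∈ A, a ∈ o2 X → a ∈ centralizer ((cj x V : Subgroup G) : Set G) → a ∈ centralizer (U : Set G)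

/-- **TIGHT** in `G` -/
structure GTight (V F X U A : Subgroup G) : Prop where
  ff_eq : ff U A = Nat.card U
  card : (centralizer (U : Set G)).relIndex A * Nat.card F = Nat.card V
  quad : ∀ a ∈ A, ∀ b ∈ A, ∀ u ∈ U, b * (a * u * a⁻¹ * u⁻¹) = a * u * a⁻¹ * u⁻¹ * b
  fx : ¬ A ⊓ o2 X ≤ centralizer (U : Set G) →
    U ⊓ centralizer ((A ⊓ o2 X : Subgroup G) : Set G) = U ⊓ centralizer (A : Set G)
  comm : ∀ a ∈ A, a ∈ o2 X → ∀ u ∈ U, a * u * a⁻¹ * u⁻¹ ∈ F
  ex : ∃ x ∈ X, ¬ A ≤ normalizer ((cj x V : Subgroup G) : Set G)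
  all : ∀ x ∈ X, ¬ A ≤ normalizer ((cj x V : Subgroup G) : Set G) → GTightAt V F X U A x

namespace Sit

variable (s : Sit V F T X U) {A : Subgroup G} (o : Opt U A)
include s hX

theorem mem_core_iff {a : X} (ha : (a : G) ∈ T) : phi h hX a ∈ pCore 2 ↥(im h X) ↔ (a : G) ∈ o2 X := by
  constructor
  · intro h1
    exact s.cap_core h hX ⟨ha, ⟨a, h1, rfl⟩⟩
  · intro h1
    rw [← s.core_eq h hX]
    exact phi_mem_imx h hX h1

include o
omit hX

theorem gtight (hA : A ≤ T) (hQ : ¬ A ≤ o2 X) : GTight V F X U A := by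
  have h : X ≤ normalizer (U : Set G) := s.XU
  have hX : X ≤ X := le_rfl
  have t := s.tight h hX o hA hQ
  have m := s.mbu h hX o hA hQ
  have hAX : A ≤ X := hA.trans s.syl.1
  have cjU : ∀ x ∈ X, cj x V ≤ U := fun x hx => by
    have h1 := cj_mono x s.VU
    rwa [cj_eq_of_mem_normalizer (s.XU hx)] at h1
  have hnf : ∀ (x : X) (a : G) (ha : a ∈ A), phi h hX ⟨a, hAX ha⟩ ∈ nf ↥(im h X) (sm (phi h hX x) (ad s.cm V)) ↔
      a ∈ normalizer ((cj (x : G) V : Subgroup G) : Set G) := by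
    intro x a ha
    rw [sm_phi]
    exact phi_mem_nf_iff h hX (cjU x x.2)
  have hmv : ∀ x : X, ¬ A ≤ normalizer ((cj (x : G) V : Subgroup G) : Set G) ↔
      ¬ imx h X A ≤ nf ↥(im h X) (sm (phi h hX x) (ad s.cm V)) := by
    intro x
    rw [not_iff_not]
    constructor
    · intro h1 y hy
      obtain ⟨a, ha, rfl⟩ := exists_of_mem_imx h hX hAX hy
      exact (hnf x a ha).2 (h1 ha)
    · intro h1 a ha
      exact (hnf x a ha).1 (h1 (phi_mem_imx h hX ha))
  have eAQ : imx h X A ⊓ pCore 2 ↥(im h X) = imx h X (A ⊓ o2 X) := by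
    ext y
    constructor
    · rintro ⟨h1, h2⟩
      obtain ⟨a, ha, rfl⟩ := exists_of_mem_imx h hX hAX h1
      exact phi_mem_imx h hX ⟨ha, (s.mem_core_iff h hX (hA ha)).1 h2⟩
    · intro h1
      obtain ⟨a, ha, rfl⟩ := exists_of_mem_imx h hX (inf_le_left.trans hAX) h1
      exact ⟨phi_mem_imx h hX ha.1, (s.mem_core_iff h hX (hA ha.1)).2 ha.2⟩
  refine ⟨?_, ?_, ?_, ?_, ?_, ?_, ?_⟩
  · rw [← mm_imx (hc := s.cm) h hAX hX, t.mm_eq, card_MU]
  · have h1 := t.card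
    rwa [card_imx' h hAX hX, card_ad_of_le (s.FV.trans s.VU), card_ad_of_le s.VU] at h1
  · intro a ha b hb u hu
    have h1 := TT.quad' s.two m.ea m.ne_bot m.off m.min _ (phi_mem_imx h hX (x := ⟨a, hAX ha⟩) ha) _
      (phi_mem_imx h hX (x := ⟨b, hAX hb⟩) hb) (Bridge.mk s.cm hu)
    have h2 := (phi_smul_eq_iff h hX).1 h1
    rw [val_phi_sub] at h2
    exact h2
  · intro h1
    have h2 := t.fx_eq (by
      rw [eAQ]
      intro h0
      apply h1
      intro a ha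
      have h3 : phi h hX ⟨a, hAX ha.1⟩ ∈ imx h X (A ⊓ o2 X) := phi_mem_imx h hX ha
      rw [h0, mem_bot, phi_eq_one] at h3
      exact h3)
    rw [eAQ, fx_imx h (inf_le_left.trans hAX) hX, fx_imx h hAX hX, ← ad_inf_U, ← ad_inf_U (centralizer (A : Set G)),
      ad_inj inf_le_left inf_le_left] at h2
    exact h2
  · intro a ha haQ u hu
    have h1 := t.comm (phi h hX ⟨a, hAX ha⟩) ⟨phi_mem_imx h hX ha, (s.mem_core_iff h hX (hA ha)).2 haQ⟩
      (Bridge.mk s.cm hu)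
    rw [mem_ad, val_phi_sub] at h1
    exact h1
  · obtain ⟨y, hy⟩ := t.ex
    obtain ⟨x, rfl⟩ := phi_surjective h hX y
    exact ⟨x, x.2, (hmv x).2 hy⟩
  · intro x hx hx1
    have t1 := t.all (phi h hX ⟨x, hx⟩) ((hmv ⟨x, hx⟩).1 hx1)
    have e0 : phi h hX ⟨x, hx⟩ • ad s.cm V = ad s.cm (cj x V) := sm_phi h hX ⟨x, hx⟩ V
    have e1 : imx h X A ⊓ nf ↥(im h X) (ad s.cm (cj x V)) = imx h X A ⊓ pCore 2 ↥(im h X) := by
      rw [← e0]; exact t1.nf_eq
    have e2 : imx h X A ⊓ pCore 2 ↥(im h X) ⊓ cf ↥(im h X) (ad s.cm (cj x V)) = ⊥ := by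
      rw [← e0]; exact t1.cf_eq
    refine ⟨?_, ?_, ?_, ?_⟩
    · apply le_antisymm (sup_le (cjU x hx) inf_le_left)
      intro u hu
      have h2 : Bridge.mk s.cm hu ∈ ad s.cm (cj x V) ⊔ ad s.cm (centralizer (A : Set G)) := by
        rw [← e0, ← fx_imx h hAX hX]
        have h3 := t1.sup
        have h4 : Bridge.mk s.cm hu ∈ (⊤ : AddSubgroup (MU s.cm)) := AddSubgroup.mem_top _
        rw [← h3] at h4
        exact h4
      obtain ⟨v, hv, w, hw, h3⟩ := AddSubgroup.mem_sup.1 h2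
      have h4 := congrArg val h3
      rw [val_add, val_mk] at h4
      rw [← h4]
      exact mul_mem (mem_sup_left hv) (mem_sup_right ⟨val_mem w, hw⟩)
    · have h2 := t1.inf
      have h3 : ad s.cm (cj x V) ⊓ ad s.cm (centralizer (A : Set G)) = ad s.cm F := by
        rw [← e0, ← fx_imx h hAX hX]; exact h2
      rw [← ad_inf, ad_inj (inf_le_left.trans (cjU x hx)) (s.FV.trans s.VU)] at h3
      exact h3
    · intro a ha
      rw [← s.mem_core_iff h hX (a := ⟨a, hAX ha⟩) (hA ha), ← phi_mem_nf_iff (hc := s.cm) h hX (x := ⟨a, hAX ha⟩) (cjU x hx)]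
      have h2 : phi h hX ⟨a, hAX ha⟩ ∈ imx h X A := phi_mem_imx h hX ha
      constructor
      · intro h3
        have h4 : phi h hX ⟨a, hAX ha⟩ ∈ imx h X A ⊓ nf ↥(im h X) (ad s.cm (cj x V)) := ⟨h2, h3⟩
        rw [e1] at h4
        exact h4.2
      · intro h3
        have h4 : phi h hX ⟨a, hAX ha⟩ ∈ imx h X A ⊓ pCore 2 ↥(im h X) := ⟨h2, h3⟩
        rw [← e1] at h4
        exact h4.2
    · intro a ha haQ hac
      have h2 : phi h hX ⟨a, hAX ha⟩ ∈ imx h X A ⊓ pCore 2 ↥(im h X) ⊓ cf ↥(im h X) (ad s.cm (cj x V)) :=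
        ⟨⟨phi_mem_imx h hX ha, (s.mem_core_iff h hX (hA ha)).2 haQ⟩, (phi_mem_cf_iff h hX (cjU x hx)).2 hac⟩
      rw [e2, mem_bot, phi_eq_one] at h2
      exact h2

/-- FULL -/
theorem gfull (hA : A ≤ T) (hQ : ¬ A ≤ o2 X) {κ : G} (hκ : κ ∈ X)
    (h1 : U ⊓ centralizer (A : Set G) ≤ centralizer {κ}) (h2 : ∀ u ∈ U, κ * u * κ⁻¹ * u⁻¹ ∈ F) :
    ∃ a ∈ A, a⁻¹ * κ ∈ centralizer (U : Set G) := by
  have h : X ≤ normalizer (U : Set G) := s.XU
  have hX : X ≤ X := le_rfl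
  obtain ⟨P, hP⟩ := s.exists_syl h hX
  have hAX : A ≤ X := hA.trans s.syl.1
  have h3 := TheoremL.Tight.full (s.datU h hX hP) (s.mbu h hX o hA hQ) (κ := phi h hX ⟨κ, hκ⟩) (by
    intro u hu
    rw [fx_imx h hAX hX] at hu
    refine (phi_smul_eq_iff h hX).2 ?_
    have h3 := h1 ⟨val_mem u, hu⟩
    exact mem_centralizer_iff.1 h3 κ rfl) (fun u => by
      rw [mem_ad, val_phi_sub]
      exact h2 _ (val_mem u))
  obtain ⟨a, ha, h4⟩ := exists_of_mem_imx h hX hAX h3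
  refine ⟨a, ha, ?_⟩
  have h5 : phi h hX (a⁻¹ * ⟨κ, hκ⟩) = 1 := by rw [map_mul, map_inv, h4, inv_mul_cancel]
  exact (phi_eq_one h hX).1 h5

end Sit

end Cfsg.Agent.Omega.NO3b.Exit.Bridge

end

section


/-!
# TIGHT for the panels of the local exit `LocG`

* `Sit.two_ne` : two noncentral factors of `X` in `⟨V^X⟩` (`Mix.Two`) and `A` optimal on `U`: `A ∩ O₂(X) ≰ C(U)`;
* `TightOn V F T X U` : `U ≥ V` elementary abelian, some optimal offender `A` of `U` with `A ≤ B`, `A ≰ O₂(X)`, is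
  TIGHT and `A ∩ O₂(X) ≰ C(U)`;
* `LocG.tight_gamma` : `V_H = zl S H`, `H = ⟨N_G(B), X⟩` FF: TIGHT on `V_H`;
* `LocG.tight_Y` : TIGHT on `Y = ⟨V^⟨S,X⟩⟩`, always.
-/

set_option autoImplicit false

namespace Cfsg.Agent.Omega.NO3b.Exit.Bridge

open Subgroup Cfsg
open Cfsg.Agent.ZN (o2 zc zl)
open Cfsg.Agent.ZN.ChoiceBase (cj mem_cj cj_mono cj_eq_of_mem_normalizer mem_normalizer_iff_cj)
open Cfsg.Agent.MinSimple.VModule (oddGen oddGen_le le_normalizer_o2 le_normalizer_zl)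
open Cfsg.Agent.Omega.NO3b.EZero (NotFF Par cl cl_le le_cl le_normalizer_cl)
open Cfsg.Agent.Omega.NO3b.Alpha (Fl)
open Cfsg.Agent.Omega.NO3b.K0.Mix (Two)
open Cfsg.Agent.Omega.NOThreeL.Star (Opt Ok ff)
open scoped commutatorElement

universe u

variable {G : Type u} [Group G] [Finite G] {V F T X U A : Subgroup G}

/-- **two noncentral factors** imply `A ∩ O₂(X) ≰ C(U)` -/
theorem Sit.two_ne (s : Sit V F T X U) (o : Opt U A) (hA : A ≤ T) (hQ : ¬ A ≤ o2 X) (h2 : Two V X) :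
    ¬ A ⊓ o2 X ≤ centralizer (U : Set G) := by
  have h : X ≤ normalizer (U : Set G) := s.XU
  have hX : X ≤ X := le_rfl
  have hAX : A ≤ X := hA.trans s.syl.1
  obtain ⟨P, hP⟩ := s.exists_syl h hX
  obtain ⟨N, hNU, hXN, hn1, hn2⟩ := h2
  have hclU : cl V X ≤ U := cl_le fun x hx => by
    have h1 := cj_mono x s.VU
    rwa [cj_eq_of_mem_normalizer (h hx)] at h1
  have hodd : ∀ x : X, Odd (orderOf (x : G)) → Odd (orderOf (phi h hX x)) := fun x hx =>
    Odd.of_dvd_nat (by rw [← orderOf_coe x]; exact hx) (orderOf_map_dvd _ _)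
  have key := TheoremL.Ne.ne_of_two (s.datU h hX hP) (s.mbu h hX o hA hQ) (N := ad s.cm N) (by
    intro y v hv
    obtain ⟨x, rfl⟩ := phi_surjective h hX y
    rw [mem_ad, val_phi]
    exact (mem_normalizer_iff.1 (hXN x.2) _).1 hv) (by
    by_contra hcon
    push Not at hcon
    apply hn1
    rw [Subgroup.commutator_comm]
    have hON : oddGen X ≤ normalizer (N : Set G) := (oddGen_le X).trans hXN
    rw [commutator_le]
    intro g hg u hu
    -- the elements of `X` which act trivially on `U / N`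
    let K : Subgroup G :=
      { carrier := {x : G | x ∈ X ∧ ∀ u ∈ U, x * u * x⁻¹ * u⁻¹ ∈ N}
        one_mem' := ⟨one_mem _, fun u _ => by rw [one_mul, inv_one, mul_one, mul_inv_cancel]; exact one_mem _⟩
        mul_mem' := fun {x y} hx hy => ⟨mul_mem hx.1 hy.1, fun u hu => by
          have h3 : y * u * y⁻¹ ∈ U := (mem_normalizer_iff.1 (h hy.1) u).1 hu
          have e : x * y * u * (x * y)⁻¹ * u⁻¹ = (x * (y * u * y⁻¹) * x⁻¹ * (y * u * y⁻¹)⁻¹) *
              (y * u * y⁻¹ * u⁻¹) := by group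
          rw [e]; exact mul_mem (hx.2 _ h3) (hy.2 u hu)⟩
        inv_mem' := fun {x} hx => ⟨inv_mem hx.1, fun u hu => by
          have h3 : x⁻¹ * u * x⁻¹⁻¹ ∈ U := (mem_normalizer_iff.1 (h (inv_mem hx.1)) u).1 hu
          have h4 := inv_mem (hx.2 _ h3)
          have e : x⁻¹ * u * x⁻¹⁻¹ * u⁻¹ = (x * (x⁻¹ * u * x⁻¹⁻¹) * x⁻¹ * (x⁻¹ * u * x⁻¹⁻¹)⁻¹)⁻¹ := by group
          rw [e]; exact h4⟩ }
    have h3 : oddGen X ≤ K := by
      rw [MinSimple.VModule.oddGen_def, closure_le]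
      rintro x ⟨hx, hxo⟩
      refine ⟨hx, fun u hu => ?_⟩
      have h4 := hcon (phi h hX ⟨x, hx⟩) (hodd _ hxo) (Bridge.mk s.cm hu)
      rw [mem_ad, val_phi_sub] at h4
      exact h4
    have h5 := h3 hg
    exact h5.2 u (hclU hu)) (by
    by_contra hcon
    push Not at hcon
    apply hn2
    intro n hn
    rw [MinSimple.VModule.oddGen_def, centralizer_closure, mem_centralizer_iff]
    rintro x ⟨hx, hxo⟩
    have h4 := hcon (phi h hX ⟨x, hx⟩) (hodd _ hxo) (Bridge.mk s.cm (hclU (hNU hn))) hn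
    exact (phi_smul_eq_iff h hX).1 h4)
  intro h0
  apply key
  rw [eq_bot_iff]
  rintro y ⟨h1, h3⟩
  obtain ⟨a, ha, rfl⟩ := exists_of_mem_imx h hX hAX h1
  exact mem_bot.2 ((phi_eq_one h hX).2 (h0 ⟨ha, (s.mem_core_iff h hX (hA ha)).1 h3⟩))

/-- TIGHT on `U` for an optimal offender in `B`, and `A ∩ O₂(X) ≠ 1` on `U` -/
structure TightOn (B V F T X U A : Subgroup G) : Prop where
  sit : Sit V F T X U
  opt : Opt U A
  AB : A ≤ B
  AT : A ≤ T
  nle : ¬ A ≤ o2 X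
  tight : GTight V F X U A
  ne : ¬ A ⊓ o2 X ≤ centralizer (U : Set G)

theorem Sit.tightOn (s : Sit V F T X U) (o : Opt U A) {B : Subgroup G} (hAB : A ≤ B) (hA : A ≤ T) (hQ : ¬ A ≤ o2 X)
    (h2 : Two V X) : TightOn B V F T X U A :=
  ⟨s, o, hAB, hA, hQ, s.gtight o hA hQ, s.two_ne o hA hQ h2⟩

end Cfsg.Agent.Omega.NO3b.Exit.Bridge

namespace Cfsg.Agent.Omega.NOThreeL.HypGFrame.LocG

open Subgroup Cfsg
open Cfsg.Agent.ZN (o2 zc zl jj zj)
open Cfsg.Agent.Omega.NO3b.EZero (NotFF Par cl le_cl le_normalizer_cl)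
open Cfsg.Agent.Omega.NO3b.Alpha (Fl)
open Cfsg.Agent.Omega.NO3b.Exit (Adm Fr VB)
open Cfsg.Agent.Omega.NO3b.K0.Mix (Two)
open Cfsg.Agent.Omega.NOThreeL.Star (Opt)
open Cfsg.Agent.Omega.NO3b.Exit.Bridge (Sit TightOn)
open Cfsg.Agent.MinSimple.VModule (le_normalizer_zl)

universe u

variable {G : Type u} [Group G] [Finite G] {S : Sylow 2 G} {M B : Subgroup G} (h : LocG S M B)
include h

/-- `X` on `V_H`, `H = ⟨N_G(B), X⟩` -/
theorem sit_H (hG : IsCharacteristicTwoType G) {F T X : Subgroup G}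
    (f : Fl S (VB (S : Subgroup G) B) F T) (hZF : zc (S : Subgroup G) ≤ F)
    (p : Par (VB (S : Subgroup G) B) F T X) :
    Sit (VB (S : Subgroup G) B) F T X (zl (S : Subgroup G) (normalizer (B : Set G) ⊔ X)) := by
  have fr := h.fr F T X f hZF p
  exact Sit.of_fl hG h.adm.lines f p (NO3b.Exit.zl_cent (fr.SH h.adm) fr.char2)
    (NO3b.Exit.zl_sq' (fr.SH h.adm) fr.char2) fr.V_le (fr.XH.trans (le_normalizer_zl _ _))

/-- **(γ)**: TIGHT on `V_H` -/
theorem tight_gamma (hG : IsCharacteristicTwoType G) (hSne : (S : Subgroup G) ≠ ⊥) {F T X : Subgroup G}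
    (f : Fl S (VB (S : Subgroup G) B) F T) (hZF : zc (S : Subgroup G) ≤ F)
    (p : Par (VB (S : Subgroup G) B) F T X)
    (hff : ¬ NotFF (zl (S : Subgroup G) (normalizer (B : Set G) ⊔ X))) :
    ∃ A, TightOn B (VB (S : Subgroup G) B) F T X (zl (S : Subgroup G) (normalizer (B : Set G) ⊔ X)) A := by
  have fr := h.fr F T X f hZF p
  obtain ⟨A, hA, hAB, hAX, -⟩ := fr.gamma h.adm hff
  exact ⟨A, (h.sit_H hG f hZF p).tightOn hA hAB (hAB.trans fr.BT) hAX (h.two hG hSne f hZF p)⟩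

/-- `X` on `Y = ⟨V^⟨S,X⟩⟩` -/
theorem sit_Y (hG : IsCharacteristicTwoType G) {F T X : Subgroup G}
    (f : Fl S (VB (S : Subgroup G) B) F T) (hZF : zc (S : Subgroup G) ≤ F)
    (p : Par (VB (S : Subgroup G) B) F T X) :
    Sit (VB (S : Subgroup G) B) F T X (cl (VB (S : Subgroup G) B) ((S : Subgroup G) ⊔ X)) := by
  have fr := h.fr F T X f hZF p
  have hY : cl (VB (S : Subgroup G) B) ((S : Subgroup G) ⊔ X) ≤ zl (S : Subgroup G) (normalizer (B : Set G) ⊔ X) :=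
    fr.Y_le h.adm
  exact Sit.of_fl hG h.adm.lines f p (fr.Y_comm h.adm)
    (fun u hu => NO3b.Exit.zl_sq' (fr.SH h.adm) fr.char2 u (hY hu)) (le_cl _ _)
    (le_sup_right.trans (le_normalizer_cl _ _))

/-- **TIGHT on `Y = ⟨V^⟨S,X⟩⟩`**, in every case. -/
theorem tight_Y (hG : IsCharacteristicTwoType G) (hSne : (S : Subgroup G) ≠ ⊥) {F T X : Subgroup G}
    (f : Fl S (VB (S : Subgroup G) B) F T) (hZF : zc (S : Subgroup G) ≤ F)
    (p : Par (VB (S : Subgroup G) B) F T X) :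
    ∃ A, TightOn B (VB (S : Subgroup G) B) F T X (cl (VB (S : Subgroup G) B) ((S : Subgroup G) ⊔ X)) A := by
  have fr := h.fr F T X f hZF p
  obtain ⟨A, hA, hAB, hAX⟩ := h.exists_optY hG hSne f hZF p
  exact ⟨A, (h.sit_Y hG f hZF p).tightOn hA hAB (hAB.trans fr.BT) hAX (h.two hG hSne f hZF p)⟩

end Cfsg.Agent.Omega.NOThreeL.HypGFrame.LocG

end

section


/-!
# NotFF (c), local exit: case (γ) at the last member of the chain (#18319, #18653)

`L` a member of the chain, `(F, T, X)` a panel of `V = V(L)`, `H = ⟨M(L), X⟩`, `U = V_H = ⟨Z^H⟩`, `Γ = XX hN` the group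
induced by `H` on `U`.

* `Stage.sit` : the panel acts on `U` (`Bridge.Sit`);
* `Stage.red` : `O₂(M / C_M(V)) = 1` for the image `M` of `M(L)`;
* `Stage.mx` : `V_H` FF: the M-side frame `MX` for the images of `M(L)`, `X`, `W(L)`, `A` for every line `x V` moved by
  the optimal offender `A ≤ W(L)`; `Stage.exists_mx`;
* `Stage.gen_bar`, `Stage.syl_bar` : fields of `Blk`.
-/

set_option autoImplicit false

namespace Cfsg.Agent.Omega.NO3b.Chain

open Subgroup Cfsg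
open Cfsg.Agent.ZN (o2 zc zl jj zj)
open Cfsg.Agent.ZN.ChoiceBase hiding mem_zc
open Cfsg.Agent.ZN.ChoiceSit (Syl o2_le_syl syl_not_dvd)
open Cfsg.Agent.MinSimple.EmptyTI (syl_of_le)
open Cfsg.Agent.Omega.NO3b.EZero (NotFF Par)
open Cfsg.Agent.Omega.NO3b.Alpha (Fl)
open Cfsg.Agent.Omega.NO3b.NoEmp (Lines)
open Cfsg.Agent.Omega.NOThreeL.Star (Opt)
open Cfsg.Agent.Omega.NO3b.Wc
open Cfsg.Agent.Omega.NO3b.Exit
open Cfsg.Agent.Omega.NO3b.Exit.Bridge
open Cfsg.Agent.Omega.NO3b.Exit.TDat (MX Red mx_of_tight)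
open Cfsg.Agent.Omega.FFBr (XX pr im mem_im)
open Cfsg.Agent.Omega.FF.Basic (fx)
open Cfsg.Agent.Omega.NO3b.Exit.TT (nf)
open Cfsg.Agent.MinSimple.VModule (zc_le_zl zl_le le_normalizer_zl le_normalizer_o2 o2_le oddGen)
open scoped Pointwise

universe u

variable {G : Type u} [Group G] {S L F T X : Subgroup G}

/-- `U = V_H = ⟨Z^H⟩`, `H = ⟨M(L), X⟩` -/
abbrev UU (S L X : Subgroup G) : Subgroup G := zl S (nx S L X)

/-- `H` normalises `U` -/
theorem hN (S L X : Subgroup G) : nx S L X ≤ normalizer (UU S L X : Set G) := le_normalizer_zl _ _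

variable [Finite G]

section stage

variable {S : Sylow 2 G} (h : Stage S L) (hc : IsCharacteristicTwoType G) (hne : zc (S : Subgroup G) ≠ ⊥)
  (f : Fl S (VL (S : Subgroup G) L) F T) (hZ : zc (S : Subgroup G) ≤ F) (p : Par (VL (S : Subgroup G) L) F T X)
include h hc hne f hZ p

theorem Stage.cU : UU (S : Subgroup G) L X ≤ centralizer (UU (S : Subgroup G) L X : Set G) :=
  zl_cent ((h.fr hc hne f hZ p).SH (h.adm hc hne)) (h.fr hc hne f hZ p).char2

/-- the panel acts on `U` -/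
theorem Stage.sit : Sit (VL (S : Subgroup G) L) F T X (UU (S : Subgroup G) L X) :=
  Sit.of_fl hc (h.lines hc hne) f p (h.cU hc hne f hZ p)
    (zl_sq' ((h.fr hc hne f hZ p).SH (h.adm hc hne)) (h.fr hc hne f hZ p).char2) Step.V_le
    (Step.X_le.trans (le_normalizer_zl _ _))

omit hc hne f hZ p in
/-- `O₂(M / C_M(V)) = 1` -/
theorem red_of_stage {U H : Subgroup G} (hN : H ≤ normalizer (U : Set G)) (hU : U ≤ centralizer (U : Set G))
    (hM : ML (S : Subgroup G) L ≤ H) (hVU : VL (S : Subgroup G) L ≤ U) :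
    Red (im hN (ML (S : Subgroup G) L)) (ad hU (VL (S : Subgroup G) L)) :=
  LocBar.red_im (S := (S : Subgroup G)) (Z := zc (S : Subgroup G)) hN hM (syl_of_le (h.S_le)) hVU
    (ML_le_norm_V _ _) (zc_le_zl _ _) (MinSimple.VModule.le_centralizer_zc _) fun _ hW hWM => zl_le hW hWM

/-- the M-side frame for every line moved by `A` -/
theorem Stage.mx {A : Subgroup G} (hA : Opt (UU (S : Subgroup G) L X) A) (hAW : A ≤ WH (S : Subgroup G) L)
    (hAX : ¬ A ≤ o2 X) (h2 : K0.Mix.Two (VL (S : Subgroup G) L) X)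
    {x : ↥(im (hN (S : Subgroup G) L X) X)}
    (hx : ¬ imx (hN (S : Subgroup G) L X) X A ≤
      nf _ (sm x (ad (h.cU hc hne f hZ p) (VL (S : Subgroup G) L)))) :
    MX (im (hN (S : Subgroup G) L X) (ML (S : Subgroup G) L)) (im (hN (S : Subgroup G) L X) X)
      (im (hN (S : Subgroup G) L X) (WH (S : Subgroup G) L)) (im (hN (S : Subgroup G) L X) A)
      (ad (h.cU hc hne f hZ p) (VL (S : Subgroup G) L)) (ad (h.cU hc hne f hZ p) F) (x : XX (hN (S : Subgroup G) L X)) := by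
  have s := h.sit hc hne f hZ p
  have fr := h.fr hc hne f hZ p
  have hXH : X ≤ nx (S : Subgroup G) L X := Step.X_le
  have hMH : ML (S : Subgroup G) L ≤ nx (S : Subgroup G) L X := Step.ML_le
  obtain ⟨P, hP⟩ := s.exists_syl (hN (S : Subgroup G) L X) hXH
  have hAT : A ≤ T := hAW.trans fr.BT
  have hAXX : A ≤ X := hAT.trans s.syl.1
  have e : (imx (hN (S : Subgroup G) L X) X A).map (im (hN (S : Subgroup G) L X) X).subtype =
      im (hN (S : Subgroup G) L X) A := by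
    unfold imx
    rw [subgroupOf_map_subtype]
    exact inf_eq_left.2 (LocBar.im_mono _ hAXX)
  have hSM : (S : Subgroup G) ≤ ML (S : Subgroup G) L := h.S_le
  have key := mx_of_tight (faith (hc := s.cm) (hN (S : Subgroup G) L X)) (s.datU (hN (S : Subgroup G) L X) hXH hP)
    (s.mbu (hN (S : Subgroup G) L X) hXH hA hAT hAX) (by
      intro h0
      refine s.two_ne hA hAT hAX h2 fun a ha => ?_
      have h1 : phi (hN (S : Subgroup G) L X) hXH ⟨a, hAXX ha.1⟩ ∈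
          imx (hN (S : Subgroup G) L X) X A ⊓ pCore 2 ↥(im (hN (S : Subgroup G) L X) X) :=
        ⟨phi_mem_imx _ hXH ha.1, (s.mem_core_iff _ hXH (hAT ha.1)).2 ha.2⟩
      rw [h0, mem_bot] at h1
      exact (phi_eq_one _ hXH).1 h1)
    (M := im (hN (S : Subgroup G) L X) (ML (S : Subgroup G) L))
    (D := im (hN (S : Subgroup G) L X) (WH (S : Subgroup G) L))
    (fun m hm v hv => LocBar.im_smul _ (ML_le_norm_V _ _) hm hv)
    (LocBar.im_mono _ (fr.BT.trans s.syl.1)) (by rw [e]; exact LocBar.im_mono _ hAW)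
    (fun m hm d hd => LocBar.im_conj _ (by rfl) hm hd)
    (fun d hd v hv => LocBar.im_fix _ h.WH_cent hd hv) (by
      rw [← s.core_eq (hN (S : Subgroup G) L X) hXH]
      unfold imx
      rw [subgroupOf_map_subtype]
      refine inf_le_left.trans (LocBar.im_mono _ ?_)
      exact (o2_le_syl s.syl).trans (f.T_le.trans hSM)) (red_of_stage h _ _ hMH Step.V_le) hx
  rwa [e] at key

omit hZ p in
/-- **(γ)**: the M-side frame at the last member of the chain. -/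
theorem Stage.exists_mx (hZ : zc (S : Subgroup G) ≤ F) (p : Par (VL (S : Subgroup G) L) F T X)
    (hff : ¬ NotFF (UU (S : Subgroup G) L X)) :
    ∃ (A : Subgroup G) (x : XX (hN (S : Subgroup G) L X)), Opt (UU (S : Subgroup G) L X) A ∧
      A ≤ WH (S : Subgroup G) L ∧ ¬ A ≤ o2 X ∧ x ∈ im (hN (S : Subgroup G) L X) X ∧
      MX (im (hN (S : Subgroup G) L X) (ML (S : Subgroup G) L)) (im (hN (S : Subgroup G) L X) X)
        (im (hN (S : Subgroup G) L X) (WH (S : Subgroup G) L)) (im (hN (S : Subgroup G) L X) A)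
        (ad (h.cU hc hne f hZ p) (VL (S : Subgroup G) L)) (ad (h.cU hc hne f hZ p) F) x := by
  obtain ⟨A, hA, hAW, hAX⟩ := h.exists_opt hc hne f hZ p hff
  have s := h.sit hc hne f hZ p
  have hXH : X ≤ nx (S : Subgroup G) L X := Step.X_le
  have hAT : A ≤ T := hAW.trans (h.fr hc hne f hZ p).BT
  obtain ⟨x, hx⟩ := (s.tight (hN (S : Subgroup G) L X) hXH hA hAT hAX).ex
  exact ⟨A, x, hA, hAW, hAX, x.2,
    h.mx hc hne f hZ p hA hAW hAX (h.two hc hne f hZ p (Or.inl hff)) hx⟩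

end stage

/-! ### the fields `syl`, `S2`, `gen` of `Blk` -/

section bar

variable {S : Sylow 2 G} (h : Stage S L) {U H : Subgroup G} (hN : H ≤ normalizer (U : Set G))
  (hU : U ≤ centralizer (U : Set G)) (hM : ML (S : Subgroup G) L ≤ H)

theorem SM_bar (h : Stage S L) : im hN (S : Subgroup G) ≤ im hN (ML (S : Subgroup G) L) :=
  LocBar.im_mono _ h.S_le

omit [Finite G] in
theorem S2_bar : IsPGroup 2 (im hN (S : Subgroup G)) := LocBar.isPGroup_im _ S.isPGroup'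

include h hM in
theorem syl_bar : ¬ 2 ∣ (im hN (S : Subgroup G)).relIndex (im hN (ML (S : Subgroup G) L)) :=
  syl_not_dvd (LocBar.syl_im hN (syl_of_le h.S_le) hM)

omit [Finite G] in
/-- `V = ⟨C_V(S)^M⟩` -/
theorem gen_bar {M V : Subgroup G} (hM : M ≤ H) (hVU : V ≤ U) (hZV : zc (S : Subgroup G) ≤ V)
    (hV : ∀ W : Subgroup G, zc (S : Subgroup G) ≤ W → M ≤ normalizer (W : Set G) → V ≤ W)
    (W : AddSubgroup (MU hU)) (hW : ∀ m ∈ im hN M, ∀ w ∈ W, m • w ∈ W)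
    (hZW : ∀ v ∈ ad hU V, (∀ s ∈ im hN (S : Subgroup G), s • v = v) → v ∈ W) : ad hU V ≤ W := by
  have h1 : V ≤ un W := by
    refine hV _ (fun z hz => ?_) fun m hm => ?_
    · have h2 : mk hU (hVU (hZV hz)) ∈ W := by
        refine hZW _ (hZV hz) fun s hs => LocBar.im_fix hN (MinSimple.VModule.le_centralizer_zc _) hs (v := mk hU _) ?_
        exact hz
      exact ⟨_, h2, rfl⟩
    · have key : ∀ a : G, a ∈ M → ∀ w ∈ un W, a * w * a⁻¹ ∈ un W := by
        rintro a ha _ ⟨w, hw, rfl⟩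
        exact ⟨pr hN ⟨a, hM ha⟩ • w, hW _ (LocBar.pr_mem_im hN ha (hM ha)) w hw, rfl⟩
      rw [mem_normalizer_iff]
      intro w
      refine ⟨key m hm w, fun hw => ?_⟩
      have h2 := key m⁻¹ (inv_mem hm) _ hw
      have e : m⁻¹ * (m * w * m⁻¹) * m⁻¹⁻¹ = w := by group
      rwa [e] at h2
  intro v hv
  exact val_mem_un.1 (h1 hv)

omit [Finite G] in
/-- the same for `V(L)` -/
theorem gen_bar_stage (hM : ML (S : Subgroup G) L ≤ H) (hVU : VL (S : Subgroup G) L ≤ U)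
    (W : AddSubgroup (MU hU)) (hW : ∀ m ∈ im hN (ML (S : Subgroup G) L), ∀ w ∈ W, m • w ∈ W)
    (hZW : ∀ v ∈ ad hU (VL (S : Subgroup G) L), (∀ s ∈ im hN (S : Subgroup G), s • v = v) → v ∈ W) :
    ad hU (VL (S : Subgroup G) L) ≤ W :=
  gen_bar hN hU hM hVU (zc_le_zl _ _) (fun _ hW hWM => zl_le hW hWM) W hW hZW

end bar

end Cfsg.Agent.Omega.NO3b.Chain

end

section


/-!
# (C)(2) of GammaFF, part 5: `V(L) = ⟨Z^{YM}⟩`; `V_P` is not irreducible (helper194, #20969 (f3), (f4))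

* `gen_YM` : `V(L) = ⟨Z^{YM}⟩`, if all `P' ∈ P*(S)`, `P' ≤ M(L)`, normalise `V_P`;
* `not_irr` : then `V_P` is not irreducible under `P`.
-/

set_option autoImplicit false

namespace Cfsg.Agent.Omega.NO3b.CTwoFF

open Subgroup Cfsg
open Cfsg.Agent.ZN (o2 zc zl jj zj)
open Cfsg.Agent.ZN.ChoiceBase hiding mem_zc
open Cfsg.Agent.ZN.ChoiceSit (Syl o2_le_syl)
open Cfsg.Agent.Omega.MinPar Cfsg.Agent.Omega.Frame Cfsg.Agent.Omega.FrameNOFF
open Cfsg.Agent.Omega.NO3b.EZero (NotFF Par cent_symm oddGen_sup_syl)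
open Cfsg.Agent.Omega.NO3b.Wc
open Cfsg.Agent.Omega.NO3b.Chain
open Cfsg.Agent.MinSimple.VModule (oddGen oddGen_le le_normalizer_zl zl_le le_centralizer_zc mem_zc zc_le_zl zc_sq
  zc_comm le_normalizer_oddGen le_normalizer_o2 normalizer_le_normalizer_zc)
open Cfsg.Agent.Omega.NO3b.Exit.Bridge
open Cfsg.Agent.Omega.NO3b.Exit.LocBar (pr_mem_im im_mono im_smul)
open Cfsg.Agent.Omega.NO3b.Exit.BlkZ (Blk0 PF)
open Cfsg.Agent.Omega.FFBr (XX pr im mem_im)

universe u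

variable {G : Type u} [Group G] [Finite G] {S : Sylow 2 G} {P L : Subgroup G}
  {H U : Subgroup G} (h : H ≤ normalizer (U : Set G)) {hcU : U ≤ centralizer (U : Set G)}

omit [Finite G] in
/-- `{g ∈ M | g W ≤ W}` in group terms -/
theorem mem_normalizer_un {W : AddSubgroup (MU hcU)} [Finite G] {g : G} (hg : g ∈ H)
    (hW : ∀ w ∈ W, pr h ⟨g, hg⟩ • w ∈ W) : g ∈ normalizer (un W : Set G) := by
  rw [mem_normalizer_iff_cj]
  refine Subgroup.eq_of_le_of_card_ge ?_ (card_cj _ _).ge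
  rintro _ ⟨_, ⟨w, hw, rfl⟩, rfl⟩
  exact ⟨_, hW w hw, rfl⟩

omit [Finite G] in
theorem smul_mem_of_normalizer {W : AddSubgroup (MU hcU)} {g : G} (hg : g ∈ H)
    (hn : g ∈ normalizer (un W : Set G)) {w : MU hcU} (hw : w ∈ W) : pr h ⟨g, hg⟩ • w ∈ W := by
  rw [← val_mem_un, val_smul]
  exact (mem_normalizer_iff.1 hn _).1 (val_mem_un.2 hw)

/-- **`V(L) = ⟨Z^{YM}⟩`** -/
theorem gen_YM (hne : zc (S : Subgroup G) ≠ ⊥) (hL : Root S L) (_hPM : P ≤ ML (S : Subgroup G) L)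
    (hN : ∀ P' : Subgroup G, IsParS (S : Subgroup G) P' → P' ≤ ML (S : Subgroup G) L →
      P' ≤ normalizer (zl (S : Subgroup G) P : Set G))
    (hMH : ML (S : Subgroup G) L ≤ H)
    (hVU : VL (S : Subgroup G) L ≤ U) {Y Q BB KV : Subgroup (XX h)} {F L₀ C : AddSubgroup (MU hcU)} {x : XX h}
    {B : Blk0 Y Q BB (ad hcU (VL (S : Subgroup G) L)) F L₀ C x (im h (ML (S : Subgroup G) L)) KV
      (im h (S : Subgroup G))} (p : PF B (im h (oddGen P)) (ad hcU (zl (S : Subgroup G) P)))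
    (W : AddSubgroup (MU hcU)) (hW : ∀ y ∈ B.YM, ∀ w ∈ W, y • w ∈ W)
    (hZ : ∀ z ∈ ad hcU (VL (S : Subgroup G) L), (∀ s ∈ im h (S : Subgroup G), s • z = z) → z ∈ W) :
    ad hcU (VL (S : Subgroup G) L) ≤ W := by
  have hZU : zc (S : Subgroup G) ≤ U := Root.zc_le_V.trans hVU
  -- `N = ⟨Z^{YM}⟩`
  let N : AddSubgroup (MU hcU) := AddSubgroup.closure {w | ∃ y ∈ B.YM, ∃ z ∈ ad hcU (zc (S : Subgroup G)), w = y • z}
  have hNY : ∀ y ∈ B.YM, ∀ w ∈ N, y • w ∈ N := by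
    intro y hy w hw
    induction hw using AddSubgroup.closure_induction with
    | mem w hw =>
      obtain ⟨y', hy', z, hz, rfl⟩ := hw
      exact AddSubgroup.subset_closure ⟨y * y', mul_mem hy hy', z, hz, (mul_smul _ _ _).symm⟩
    | zero => rw [smul_zero]; exact zero_mem _
    | add a b _ _ ha hb => rw [smul_add]; exact add_mem ha hb
    | neg a _ ha => rw [smul_neg]; exact neg_mem ha
  have hZN : ∀ z ∈ ad hcU (zc (S : Subgroup G)), z ∈ N := fun z hz =>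
    AddSubgroup.subset_closure ⟨1, one_mem _, z, hz, (one_smul _ _).symm⟩
  have hfix : ∀ v ∈ ad hcU (VL (S : Subgroup G) L), (∀ s ∈ im h (S : Subgroup G), s • v = v) →
      v ∈ ad hcU (zc (S : Subgroup G)) := by
    intro v hv hvS
    refine mem_zc_of hL hv (mem_centralizer_iff.2 fun s hs => ?_)
    exact (pr_smul_eq_iff' h).1 (hvS _ (pr_mem_im h hs (hMH (hL.S_le hs))))
  have hPN : ad hcU (zl (S : Subgroup G) P) ≤ N :=
    p.gen N (fun o ho w hw => hNY o (p.O_le ho) w hw) fun v hv hvS => hZN v (hfix v hv hvS)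
  -- elements which map `Z` into `N`
  have key : ∀ g (hg : g ∈ ML (S : Subgroup G) L), (∀ z ∈ ad hcU (zc (S : Subgroup G)), pr h ⟨g, hMH hg⟩ • z ∈ N) →
      g ∈ normalizer (un N : Set G) := by
    intro g hg hgZ
    refine mem_normalizer_un h (hMH hg) fun w hw => ?_
    induction hw using AddSubgroup.closure_induction with
    | mem w hw =>
      obtain ⟨y, hy, z, hz, rfl⟩ := hw
      have e : pr h ⟨g, hMH hg⟩ • y • z =
          (pr h ⟨g, hMH hg⟩ * y * (pr h ⟨g, hMH hg⟩)⁻¹) • pr h ⟨g, hMH hg⟩ • z := by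
        rw [smul_smul, smul_smul, inv_mul_cancel_right]
      rw [e]
      exact hNY _ (B.YM_conj (pr_mem_im h hg (hMH hg)) hy) _ (hgZ z hz)
    | zero => rw [smul_zero]; exact zero_mem _
    | add a b _ _ ha hb => rw [smul_add]; exact add_mem ha hb
    | neg a _ ha => rw [smul_neg]; exact neg_mem ha
  have hM : ML (S : Subgroup G) L ≤ normalizer (un N : Set G) := by
    have hzn : ∀ X : Subgroup G, X ≤ ML (S : Subgroup G) L → X ≤ normalizer (zc (S : Subgroup G) : Set G) →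
        X ≤ normalizer (un N : Set G) := by
      intro X hXM hXZ g hg
      refine key g (hXM hg) fun z hz => hZN _ ?_
      rw [mem_ad, val_smul]
      exact (mem_normalizer_iff.1 (hXZ hg) _).1 hz
    refine (isLoc_ML hL hne).le_of_forall S ?_ fun P' hP' hPM' => ?_
    · exact hzn _ inf_le_left (inf_le_right.trans (normalizer_le_normalizer_zc _))
    · by_cases hz : P' ≤ normalizer (zc (S : Subgroup G) : Set G)
      · exact hzn _ hPM' hz
      · intro g hg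
        refine key g (hPM' hg) fun z hz' => hPN ?_
        rw [mem_ad, val_smul]
        exact (mem_normalizer_iff.1 (hN P' ⟨hP', hz⟩ hPM' hg) _).1 (zc_le_zl _ _ hz')
  have h1 : ad hcU (VL (S : Subgroup G) L) ≤ N := by
    refine gen_bar_stage h hcU hMH hVU N ?_ fun v hv hvS => hZN v (hfix v hv hvS)
    rintro _ ⟨g, hg, rfl⟩ w hw
    exact smul_mem_of_normalizer h g.2 (hM hg) hw
  refine h1.trans ((AddSubgroup.closure_le _).2 ?_)
  rintro _ ⟨y, hy, z, hz, rfl⟩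
  refine hW y hy z (hZ z (Root.zc_le_V hz) ?_)
  rintro _ ⟨s, hs, rfl⟩
  exact (pr_smul_eq_iff' h).2 ((mem_zc.1 hz).2.1 _ hs)

/-- **`V_P` is not irreducible.** -/
theorem not_irr (hne : zc (S : Subgroup G) ≠ ⊥) (hPar : IsPar (S : Subgroup G) P)
    (hL : Root S L) (hPM : P ≤ ML (S : Subgroup G) L)
    (hN : ∀ P' : Subgroup G, IsParS (S : Subgroup G) P' → P' ≤ ML (S : Subgroup G) L →
      P' ≤ normalizer (zl (S : Subgroup G) P : Set G))
    (hMH : ML (S : Subgroup G) L ≤ H)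
    (hVU : VL (S : Subgroup G) L ≤ U) {Y Q BB KV : Subgroup (XX h)} {F L₀ C : AddSubgroup (MU hcU)} {x : XX h}
    {B : Blk0 Y Q BB (ad hcU (VL (S : Subgroup G) L)) F L₀ C x (im h (ML (S : Subgroup G) L)) KV
      (im h (S : Subgroup G))} (p : PF B (im h (oddGen P)) (ad hcU (zl (S : Subgroup G) P)))
    (hirr : ∀ A : Subgroup G, A ≤ zl (S : Subgroup G) P → P ≤ normalizer (A : Set G) →
      A = ⊥ ∨ A = zl (S : Subgroup G) P) : False := by
  obtain ⟨⟨z, hz⟩, hz1⟩ := Subgroup.ne_bot_iff_exists_ne_one.1 hne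
  have hz1' : z ≠ 1 := fun h0 => hz1 (Subtype.ext h0)
  have hPH : P ≤ H := hPM.trans hMH
  have hPV : zl (S : Subgroup G) P ≤ VL (S : Subgroup G) L := NOThreeL.Star.zl_mono _ hPM
  have hzP : z ∈ zl (S : Subgroup G) P := zc_le_zl _ _ hz
  set z' : MU hcU := mk hcU (hVU (hPV hzP)) with hz'
  have hzS : ∀ s ∈ im h (S : Subgroup G), s • z' = z' := by
    rintro _ ⟨s, hs, rfl⟩
    exact (pr_smul_eq_iff' h).2 ((mem_zc.1 hz).2.1 _ hs)
  have hlt := card_AZ_lt h hL.V_nff (ML_le_norm_V _ _) hMH hVU B.dat ((B.dat.QY.trans B.YK).trans B.KM)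
  refine absurd (relIndex_le_AZ B p.le_sum (z := z') (hPV hzP) hzS ?_) (not_le.2 hlt)
  intro W hW hzW
  -- `⟨z^{O²(P)}⟩`
  let N : AddSubgroup (MU hcU) := AddSubgroup.closure {w | ∃ o ∈ im h (oddGen P), w = o • z'}
  have hNW : N ≤ W := by
    refine (AddSubgroup.closure_le _).2 ?_
    rintro _ ⟨o, ho, rfl⟩
    exact hW o (p.O_le ho) _ hzW
  have hNV : N ≤ ad hcU (zl (S : Subgroup G) P) := by
    refine (AddSubgroup.closure_le _).2 ?_
    rintro _ ⟨o, ho, rfl⟩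
    exact p.VO o ho _ hzP
  have hmem : ∀ g (hg : g ∈ P), (∀ o ∈ im h (oddGen P), ∃ o' ∈ im h (oddGen P), pr h ⟨g, hPH hg⟩ • o • z' = o' • z') →
      g ∈ normalizer (un N : Set G) := by
    intro g hg hgo
    refine mem_normalizer_un h (hPH hg) fun w hw => ?_
    induction hw using AddSubgroup.closure_induction with
    | mem w hw =>
      obtain ⟨o, ho, rfl⟩ := hw
      obtain ⟨o', ho', e⟩ := hgo o ho
      exact AddSubgroup.subset_closure ⟨o', ho', e⟩
    | zero => rw [smul_zero]; exact zero_mem _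
    | add a b _ _ ha hb => rw [smul_add]; exact add_mem ha hb
    | neg a _ ha => rw [smul_neg]; exact neg_mem ha
  have hPN : P ≤ normalizer (un N : Set G) := by
    rw [← oddGen_sup hPar]
    refine sup_le (fun g hg => ?_) fun g hg => ?_
    · refine hmem g (oddGen_le P hg) fun o ho => ⟨_, mul_mem (pr_mem_im h hg (hPH (oddGen_le P hg))) ho, ?_⟩
      rw [mul_smul]
    · refine hmem g (hPar.le hg) fun o ho => ?_
      have hg' : g ∈ normalizer (oddGen P : Set G) := le_normalizer_oddGen P (hPar.le hg)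
      obtain ⟨⟨a, haH⟩, ha, rfl⟩ := mem_im.1 ho
      refine ⟨pr h ⟨g, hPH (hPar.le hg)⟩ * pr h ⟨a, haH⟩ * (pr h ⟨g, hPH (hPar.le hg)⟩)⁻¹, ?_, ?_⟩
      · rw [← map_mul, ← map_inv, ← map_mul]
        exact pr_mem_im h ((mem_normalizer_iff.1 hg' _).1 ha) _
      · have h1 : (pr h ⟨g, hPH (hPar.le hg)⟩)⁻¹ • z' = z' := by
          rw [inv_smul_eq_iff]
          exact (hzS _ (pr_mem_im h hg (hPH (hPar.le hg)))).symm
        rw [mul_smul, h1, mul_smul]
  have hunV : un N ≤ zl (S : Subgroup G) P := by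
    rintro _ ⟨w, hw, rfl⟩
    exact hNV hw
  have hzN : z ∈ un N := by
    refine ⟨z', AddSubgroup.subset_closure ⟨1, one_mem _, (one_smul _ _).symm⟩, rfl⟩
  have hVN : un N = zl (S : Subgroup G) P := by
    refine (hirr _ hunV hPN).resolve_left fun h0 => hz1' ?_
    rw [h0, mem_bot] at hzN
    exact hzN
  refine gen_YM h hne hL hPM hN hMH hVU p W hW fun v hv hvS => hNW ?_
  rw [← val_mem_un, hVN]
  exact p.fix v hv hvS

end Cfsg.Agent.Omega.NO3b.CTwoFF

end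

section


/-!
# NotFF (c), local exit: the blocks of `V(L)` at the last member of the chain

* `blk0` : `MX` (the M-side frame of LOC) gives `Blk0`;
* `Stage.exists_blk0` : a panel with `V_H` FF gives `Blk0` for `V = V(L)`, the images `M`, `S` of `M(L)` and `S`;
* `ne_blk` : (NE) `[V_P, S ∩ YM] ≠ 1` and `O²(P) ≤ YM`.
-/

set_option autoImplicit false

namespace Cfsg.Agent.Omega.NO3b.Chain

open Subgroup Cfsg
open Cfsg.Agent.ZN (o2 zc zl jj zj)
open Cfsg.Agent.ZN.ChoiceBase hiding mem_zc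
open Cfsg.Agent.ZN.ChoiceSit (Syl)
open Cfsg.Agent.Omega.MinPar Cfsg.Agent.Omega.Frame Cfsg.Agent.Omega.FrameNOFF
open Cfsg.Agent.Omega.NO3b.EZero (NotFF Par)
open Cfsg.Agent.Omega.NO3b.Alpha (Fl)
open Cfsg.Agent.Omega.NO3b.Wc
open Cfsg.Agent.Omega.NO3b.Exit
open Cfsg.Agent.Omega.NO3b.Exit.Bridge
open Cfsg.Agent.Omega.NO3b.Exit.TDat (MX sbc FFq ncl KV)
open Cfsg.Agent.Omega.NO3b.Exit.BlkZ (Blk0)
open Cfsg.Agent.Omega.NO3b.Exit.TBlk (sn_sbc_of_le)
open Cfsg.Agent.Omega.FFBr (XX pr im mem_im)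
open Cfsg.Agent.Omega.FF.Basic (fx)
open Cfsg.Agent.MinSimple.VModule (oddGen)
open scoped Pointwise

universe u v

/-- The plug `MX → Blk0`. -/
theorem blk0 {Γ : Type u} {U : Type v} [Group Γ] [Finite Γ] [AddCommGroup U] [DistribMulAction Γ U]
    {M X D B : Subgroup Γ} {V F : AddSubgroup U} {g : Γ} (h : MX M X D B V F g) {S : Subgroup Γ} (SM : S ≤ M)
    (S2 : IsPGroup 2 S) (syl : ¬ 2 ∣ S.relIndex M)
    (_gen : ∀ W : AddSubgroup U, (∀ m ∈ M, ∀ w ∈ W, m • w ∈ W) → (∀ v ∈ V, (∀ s ∈ S, s • v = v) → v ∈ W) → V ≤ W) :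
    Blk0 (sbc M (FFq M F)) (FFq M F) (ncl (KV M V h.MV) B) V F (g • V) (fx U B) g⁻¹ M (KV M V h.MV) S where
  dat := h.dat
  KM := fun _ hk => hk.1
  nK := fun _ hm _ hk => h.KV_norm hm hk
  mV := h.MV
  kV := fun _ hk => hk.2
  kB := fun _ hk _ hb => TDat.ncl_conj hk hb
  sn := sn_sbc_of_le MX.FFq_le_M h.sbc_le_KV fun _ hk => hk.1
  SM := SM
  S2 := S2
  syl := syl

variable {G : Type u} [Group G] [Finite G] {S : Sylow 2 G} {P L F T X : Subgroup G}

/-- The blocks of `V(L)` in a module `U ≥ V(L)` for a group `H ≥ M(L)`. -/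
def HasBlk (S L : Subgroup G) {U H : Subgroup G} (hH : H ≤ normalizer (U : Set G))
    (hU : U ≤ centralizer (U : Set G)) : Prop :=
  ∃ (Y Q BB KV : Subgroup (XX hH)) (F Lw C : AddSubgroup (MU hU)) (x : XX hH),
    Blk0 Y Q BB (ad hU (VL S L)) F Lw C x (im hH (ML S L)) KV (im hH S)

/-- **(γ)** gives the blocks of `V(L)`. -/
theorem Stage.hasBlk (h : Stage S L) (hc : IsCharacteristicTwoType G) (hne : zc (S : Subgroup G) ≠ ⊥)
    (f : Fl S (VL (S : Subgroup G) L) F T) (hZ : zc (S : Subgroup G) ≤ F)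
    (p : Par (VL (S : Subgroup G) L) F T X) (hff : ¬ NotFF (UU (S : Subgroup G) L X)) :
    HasBlk (S : Subgroup G) L (hN (S : Subgroup G) L X) (h.cU hc hne f hZ p) := by
  obtain ⟨A, x, -, -, -, -, m⟩ := h.exists_mx hc hne f hZ p hff
  exact ⟨_, _, _, _, _, _, _, _, blk0 m (SM_bar _ h) (S2_bar _) (syl_bar h _ Step.ML_le)
    (gen_bar_stage _ _ Step.ML_le Step.V_le)⟩

/-- **(NE)** -/
theorem ne_blk {U H : Subgroup G} {hH : H ≤ normalizer (U : Set G)} {hU : U ≤ centralizer (U : Set G)}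
    (hc : IsCharacteristicTwoType G) (hne : zc (S : Subgroup G) ≠ ⊥) (hPar : IsPar (S : Subgroup G) P)
    (hP : Stage S P) (r : Reach S P L) (hMH : ML (S : Subgroup G) L ≤ H) (hVU : VL (S : Subgroup G) L ≤ U)
    {Y Q BB KV : Subgroup (XX hH)} {F Lw C : AddSubgroup (MU hU)} {x : XX hH}
    (B : Blk0 Y Q BB (ad hU (VL (S : Subgroup G) L)) F Lw C x (im hH (ML (S : Subgroup G) L)) KV
      (im hH (S : Subgroup G))) :
    (¬ ∀ s ∈ im hH (S : Subgroup G) ⊓ B.YM, ∀ v ∈ ad hU (zl (S : Subgroup G) P), s • v = v) ∧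
      im hH (oddGen P) ≤ B.YM := by
  refine ne_im hH hc hne hPar hP r hMH hVU B.YM (fun m hm n hn => B.YM_conj hm hn) (fun x hx hxS v hv hvS =>
    B.hX hx hxS hv fun s hs hsY => hvS s ⟨hs, hsY⟩) fun h0 => ?_
  obtain ⟨s, hs, hsY, v, hv, hne⟩ := B.moves
  exact hne (h0 s ⟨hs, hsY⟩ v hv)

end Cfsg.Agent.Omega.NO3b.Chain

end

section


/-!
# The bridge group → module for a panel whose lines are not FF only for `X` (#21383 (c))

`SitR` is `Bridge.Sit` (`Exit/Bridge.lean`) with the weaker field `nff`: the line `V` is not FF for the 2-subgroups of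
`X ∩ N_G(V)` only. `SitR.gtight` : TIGHT (THEOREM L).
-/

set_option autoImplicit false

namespace Cfsg.Agent.Omega.NO3b.Base

open Subgroup Cfsg
open Cfsg.Agent.ZN (o2 zc zl)
open Cfsg.Agent.ZN.ChoiceBase (cj mem_cj cj_mono cj_eq_of_mem_normalizer mem_normalizer_iff_cj)
open Cfsg.Agent.ZN.ChoiceSit (Syl syl_iff syl_not_dvd o2_le_syl)
open Cfsg.Agent.MinSimple.MinParabolic (IsMinPar)
open Cfsg.Agent.MinSimple.VModule (oddGen oddGen_le le_normalizer_o2 o2_isPGroup le_o2 o2_le)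
open Cfsg.Agent.Omega.FF.Basic (fx mm EA)
open Cfsg.Agent.Omega.NO3b.EZero (NotFF Par oddGen_sup_syl)
open Cfsg.Agent.Omega.NO3b.Exit
open Cfsg.Agent.Omega.NO3b.Exit.Bridge
open Cfsg.Agent.Omega.NO3b.Exit.TT (cf nf mem_cf mem_nf mem_smul)
open Cfsg.Agent.Omega.FFBr (XX pr im mem_im card_im coe_pr_smul pr_eq_one pr_surjective)
open Cfsg.Agent.Omega.NOThreeL.Star (Opt Ok ff)
open Cfsg.Agent.Omega.NO3b.TheoremL.Tight (DatU MBU TightAt Tight)
open scoped Pointwise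

universe u

variable {G : Type u} [Group G]

/-- The panel `X` over `T` acts on `U ≥ V`; `V` is not FF for `X ∩ N_G(V)`. -/
structure SitR (V F T X U : Subgroup G) [Finite G] : Prop where
  cm : U ≤ centralizer (U : Set G)
  sq : ∀ u ∈ U, u ^ 2 = 1
  VU : V ≤ U
  XU : X ≤ normalizer (U : Set G)
  nff : ∀ A : Subgroup G, A ≤ X → IsPGroup 2 A → A ≤ normalizer (V : Set G) →
    (∀ a ∈ A, a ^ 2 ∈ centralizer (V : Set G)) →
    (∀ a ∈ A, ∀ b ∈ A, a * b * a⁻¹ * b⁻¹ ∈ centralizer (V : Set G)) → ¬ A ≤ centralizer (V : Set G) →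
    (centralizer (V : Set G)).relIndex A < (centralizer (A : Set G)).relIndex V
  FV : F ≤ V
  XF : X ≤ centralizer (F : Set G)
  syl : Syl T X
  mp : IsMinPar T X
  TV : T ≤ normalizer (V : Set G)
  nle : ¬ X ≤ normalizer (V : Set G)
  min : ∀ M : Subgroup G, T ≤ M → M ≤ X → M ≠ X → M ≤ normalizer (V : Set G)
  ti : ∀ x ∈ X, x ∉ normalizer (V : Set G) → V ⊓ cj x V ≤ F

variable {H U X : Subgroup G} (h : H ≤ normalizer (U : Set G)) (hX : X ≤ H)
variable {hc : U ≤ centralizer (U : Set G)}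
variable [Finite G] {V F T : Subgroup G}

namespace SitR

variable (s : SitR V F T X U)
include s

theorem two (w : MU s.cm) : w + w = 0 := by
  apply val_inj
  rw [val_add, val_zero, ← pow_two]
  exact s.sq _ (val_mem w)

omit [Finite G] s in
theorem faith_x (hc : U ≤ centralizer (U : Set G)) (x : ↥(im h X)) (hx : ∀ w : MU hc, x • w = w) : x = 1 :=
  Subtype.ext (faith h (x : XX h) hx)

include hX

/-- the Sylow 2-subgroup `T̄` -/
theorem exists_syl : ∃ P : Sylow 2 ↥(im h X), (P : Subgroup ↥(im h X)) = imx h X T := by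
  have hfact : Fact (Nat.Prime 2) := ⟨Nat.prime_two⟩
  obtain ⟨P, hP⟩ := syl_iff.1 s.syl
  refine ⟨P.mapSurjective (phi_surjective h hX), ?_⟩
  rw [Sylow.coe_mapSurjective, imx_eq_map h hX s.syl.1]
  congr 1
  rw [← hP]
  exact (comap_map_eq_self_of_injective X.subtype_injective _).symm

theorem SV {P : Sylow 2 ↥(im h X)} (hP : (P : Subgroup ↥(im h X)) = imx h X T) :
    (P : Subgroup ↥(im h X)) ≤ nf ↥(im h X) (ad s.cm V) := by
  rw [hP]
  intro y hy
  obtain ⟨x, hx, rfl⟩ := exists_of_mem_imx h hX s.syl.1 hy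
  exact (phi_mem_nf_iff h hX s.VU).2 (s.TV hx)

theorem ne_bar : nf ↥(im h X) (ad s.cm V) ≠ ⊤ := by
  intro h0
  apply s.nle
  intro x hx
  have h1 : phi h hX ⟨x, hx⟩ ∈ nf ↥(im h X) (ad s.cm V) := by rw [h0]; exact mem_top _
  exact (phi_mem_nf_iff h hX s.VU).1 h1

theorem uniq {P : Sylow 2 ↥(im h X)} (hP : (P : Subgroup ↥(im h X)) = imx h X T) (K : Subgroup ↥(im h X))
    (hPK : (P : Subgroup ↥(im h X)) ≤ K) (hK : K ≠ ⊤) : K ≤ nf ↥(im h X) (ad s.cm V) := by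
  have h1 := s.min ((K.comap (phi h hX)).map X.subtype) (by
    intro t ht
    refine ⟨⟨t, s.syl.1 ht⟩, ?_, rfl⟩
    apply hPK
    rw [hP]
    exact phi_mem_imx h hX ht) (map_subtype_le _) (fun h0 => hK (by
      rw [eq_top_iff]
      intro y _
      obtain ⟨x, rfl⟩ := phi_surjective h hX y
      have h2 : (x : G) ∈ (K.comap (phi h hX)).map X.subtype := by rw [h0]; exact x.2
      obtain ⟨x', hx', h3⟩ := h2
      rwa [Subtype.ext h3] at hx'))
  intro y hy
  obtain ⟨x, rfl⟩ := phi_surjective h hX y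
  exact (phi_mem_nf_iff h hX s.VU).2 (h1 ⟨x, hy, rfl⟩)

omit hX in
theorem FV_bar : ad s.cm F ≤ ad s.cm V := ad_mono s.FV

theorem Fx_bar (y : ↥(im h X)) (w : MU s.cm) (hw : w ∈ ad s.cm F) : y • w = w := by
  obtain ⟨x, rfl⟩ := phi_surjective h hX y
  refine (phi_smul_eq_iff h hX).2 ?_
  exact (mem_centralizer_iff.1 (s.XF x.2) _ hw).symm

theorem ti_bar (y : ↥(im h X)) (hy : sm y (ad s.cm V) ≠ ad s.cm V) : ad s.cm V ⊓ sm y (ad s.cm V) ≤ ad s.cm F := by
  obtain ⟨x, rfl⟩ := phi_surjective h hX y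
  rw [sm_phi] at hy ⊢
  rw [← ad_inf]
  refine ad_mono (s.ti x x.2 fun h0 => hy ?_)
  rw [cj_eq_of_mem_normalizer h0]

theorem nff_bar (A : Subgroup ↥(im h X)) (hA : IsPGroup 2 A) (hn : A ≤ nf ↥(im h X) (ad s.cm V))
    (hsq : ∀ a ∈ A, ∀ v ∈ ad s.cm V, a • a • v = v) (hne : ¬ A ≤ cf ↥(im h X) (ad s.cm V)) :
    Nat.card A * Nat.card ↥(ad s.cm V ⊓ fx (MU s.cm) A) <
      Nat.card (ad s.cm V) * Nat.card ↥(A ⊓ cf ↥(im h X) (ad s.cm V)) := by
  obtain ⟨A₀, hA₀X, hA₀p, rfl⟩ := exists_imx h hA hX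
  have hAV : A₀ ≤ normalizer (V : Set G) := fun a ha =>
    (phi_mem_nf_iff h hX (hc := s.cm) s.VU (x := ⟨a, hA₀X ha⟩)).1 (hn (phi_mem_imx h hX ha))
  have key : ∀ a ∈ A₀, ∀ v ∈ V, a * (a * v * a⁻¹) * a⁻¹ = v := by
    intro a ha v hv
    have h1 := hsq (phi h hX ⟨a, hA₀X ha⟩) (phi_mem_imx h hX ha) (Bridge.mk s.cm (s.VU hv)) hv
    exact congrArg val h1
  have hsq' : ∀ a ∈ A₀, a ^ 2 ∈ centralizer (V : Set G) := by
    intro a ha
    rw [mem_centralizer_iff]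
    intro v hv
    have h1 := key a ha v hv
    have e : v * a ^ 2 = (a * (a * v * a⁻¹) * a⁻¹) * a ^ 2 := by rw [h1]
    rw [e, pow_two]; group
  have hcomm : ∀ a ∈ A₀, ∀ b ∈ A₀, a * b * a⁻¹ * b⁻¹ ∈ centralizer (V : Set G) := by
    intro a ha b hb
    have hVn : (centralizer (V : Set G)).subgroupOf (normalizer (V : Set G)) |>.Normal := inferInstance
    have h1 := hsq' a ha
    have h2 := hsq' b hb
    have h3 := hsq' (a * b) (mul_mem ha hb)
    have e : a * b * a⁻¹ * b⁻¹ = (a * b) ^ 2 * ((b⁻¹ * (a ^ 2)⁻¹ * b)) * (b ^ 2)⁻¹ := by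
      rw [pow_two, pow_two, pow_two]; group
    rw [e]
    refine mul_mem (mul_mem h3 ?_) (inv_mem h2)
    have h4 := hVn.conj_mem ⟨(a ^ 2)⁻¹, inv_mem (centralizer_le_normalizer _ h1)⟩ (inv_mem h1)
      (⟨b, hAV hb⟩⁻¹ : ↥(normalizer (V : Set G)))
    have h5 : b⁻¹ * (a ^ 2)⁻¹ * (b⁻¹)⁻¹ ∈ centralizer (V : Set G) := h4
    rwa [inv_inv] at h5
  have hnc : ¬ A₀ ≤ centralizer (V : Set G) := fun h0 => hne fun y hy => by
    obtain ⟨x, hx, rfl⟩ := exists_of_mem_imx h hX hA₀X hy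
    exact (phi_mem_cf_iff h hX s.VU).2 (h0 hx)
  have h1 := s.nff A₀ hA₀X hA₀p hAV hsq' hcomm hnc
  have e1 : ad s.cm V ⊓ fx (MU s.cm) (imx h X A₀) = ad s.cm (V ⊓ centralizer (A₀ : Set G)) := by
    rw [fx_imx h hA₀X hX, ad_inf]
  have e2 : imx h X A₀ ⊓ cf ↥(im h X) (ad s.cm V) = imx h X (A₀ ⊓ centralizer (V : Set G)) := by
    ext y
    constructor
    · rintro ⟨h2, h3⟩
      obtain ⟨x, hx, rfl⟩ := exists_of_mem_imx h hX hA₀X h2
      exact phi_mem_imx h hX ⟨hx, (phi_mem_cf_iff h hX s.VU).1 h3⟩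
    · intro h2
      obtain ⟨x, hx, rfl⟩ := exists_of_mem_imx h hX (inf_le_left.trans hA₀X) h2
      exact ⟨phi_mem_imx h hX hx.1, (phi_mem_cf_iff h hX s.VU).2 hx.2⟩
  rw [e1, e2, card_ad_of_le (inf_le_left.trans s.VU), card_ad_of_le s.VU]
  have c1 := card_imx h hA₀X hX
  have c2 := card_imx h (inf_le_left.trans hA₀X : A₀ ⊓ centralizer (V : Set G) ≤ X) hX
  have e3 : A₀ ⊓ centralizer (V : Set G) ⊓ centralizer (U : Set G) = A₀ ⊓ centralizer (U : Set G) := by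
    rw [inf_assoc, inf_eq_right.2 (centralizer_le s.VU)]
  rw [e3] at c2
  have r1 := NOThreeL.Star.rel_mul_card A₀ (centralizer (V : Set G))
  have r2 := NOThreeL.Star.rel_mul_card V (centralizer (A₀ : Set G))
  have p0 : 0 < Nat.card ↥(A₀ ⊓ centralizer (U : Set G)) := Nat.card_pos
  have p1 : 0 < Nat.card ↥(A₀ ⊓ centralizer (V : Set G)) := Nat.card_pos
  have p2 : 0 < Nat.card ↥(V ⊓ centralizer (A₀ : Set G)) := Nat.card_pos
  refine lt_of_mul_lt_mul_right ?_ p0.le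
  calc Nat.card (imx h X A₀) * Nat.card ↥(V ⊓ centralizer (A₀ : Set G)) * Nat.card ↥(A₀ ⊓ centralizer (U : Set G))
      = (Nat.card (imx h X A₀) * Nat.card ↥(A₀ ⊓ centralizer (U : Set G))) *
          Nat.card ↥(V ⊓ centralizer (A₀ : Set G)) := by ring
    _ = (centralizer (V : Set G)).relIndex A₀ *
          (Nat.card ↥(A₀ ⊓ centralizer (V : Set G)) * Nat.card ↥(V ⊓ centralizer (A₀ : Set G))) := by
        rw [c1, ← r1]; ring
    _ < (centralizer (A₀ : Set G)).relIndex V *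
          (Nat.card ↥(A₀ ⊓ centralizer (V : Set G)) * Nat.card ↥(V ⊓ centralizer (A₀ : Set G))) :=
        Nat.mul_lt_mul_of_pos_right h1 (Nat.mul_pos p1 p2)
    _ = Nat.card V * Nat.card ↥(A₀ ⊓ centralizer (V : Set G)) := by rw [← r2]; ring
    _ = _ := by rw [← c2]; ring

/-! ### `O₂(X̄)` -/

theorem cap_core : T ⊓ ((pCore 2 ↥(im h X)).comap (phi h hX)).map X.subtype ≤ o2 X := by
  have hfact : Fact (Nat.Prime 2) := ⟨Nat.prime_two⟩
  have hN : (pCore 2 ↥(im h X)).Normal := Lib.Cores.pCore_normal 2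
  have hN' : ((pCore 2 ↥(im h X)).comap (phi h hX)).Normal := hN.comap _
  have hXn : X ≤ normalizer ((((pCore 2 ↥(im h X)).comap (phi h hX)).map X.subtype : Subgroup G) : Set G) := by
    have h1 := (normalizer_eq_top_iff (H := (pCore 2 ↥(im h X)).comap (phi h hX))).2 hN'
    have h2 := le_normalizer_map (H := (pCore 2 ↥(im h X)).comap (phi h hX)) X.subtype
    rw [h1, ← MonoidHom.range_eq_map, range_subtype] at h2
    exact h2
  rcases K0.min_or s.syl s.mp (map_subtype_le _) hXn with h1 | h1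
  · exfalso
    apply s.nle
    rw [← oddGen_sup_syl s.syl]
    refine sup_le (le_trans ?_ ((centralizer_le s.VU).trans (centralizer_le_normalizer _))) s.TV
    rw [MinSimple.VModule.oddGen_def, closure_le]
    rintro x ⟨hx, hodd⟩
    have h2 := h1 (MinSimple.VModule.mem_oddGen hx hodd)
    obtain ⟨x', hx', rfl⟩ := h2
    refine (phi_eq_one h hX).1 ?_
    have h3 : IsPGroup 2 (pCore 2 ↥(im h X)) := Lib.Cores.pCore_isPGroup 2
    have h4 : orderOf (phi h hX x') ∣ orderOf x' := orderOf_map_dvd _ _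
    have h5 : orderOf (x' : G) = orderOf x' := orderOf_coe x'
    obtain ⟨k, hk⟩ := IsPGroup.iff_orderOf.1 h3 ⟨phi h hX x', hx'⟩
    have h6 : orderOf (phi h hX x') = 2 ^ k := by rw [← hk]; exact (orderOf_mk _ _).symm
    have hodd' : Odd (orderOf (phi h hX x')) := Odd.of_dvd_nat (by
      rw [← h5]; exact hodd) h4
    rw [h6] at hodd'
    rcases Nat.eq_zero_or_pos k with h7 | h7
    · rw [h7, pow_zero] at h6
      exact orderOf_eq_one_iff.1 h6
    · exact absurd hodd' (Nat.not_odd_iff_even.2 ((Nat.even_pow.2 ⟨even_two, h7.ne'⟩)))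
  · exact h1

/-- `O₂(X̄)` is the image of `O₂(X)`. -/
theorem core_eq : imx h X (o2 X) = pCore 2 ↥(im h X) := by
  have hfact : Fact (Nat.Prime 2) := ⟨Nat.prime_two⟩
  apply le_antisymm
  · have h1 : (imx h X (o2 X)).Normal := by
      rw [imx_eq_map h hX (o2_le X)]
      refine Normal.map ?_ _ (phi_surjective h hX)
      exact normal_subgroupOf_of_le_normalizer (le_normalizer_o2 X)
    exact le_sSup ⟨h1, isPGroup_imx h (o2_isPGroup X) (o2_le X) hX⟩
  · intro y hy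
    obtain ⟨P, hP⟩ := s.exists_syl h hX
    have h1 : y ∈ imx h X T := by
      rw [← hP]
      exact Lib.Cores.pCore_le_sylow P hy
    obtain ⟨x, hx, rfl⟩ := exists_of_mem_imx h hX s.syl.1 h1
    exact phi_mem_imx h hX (s.cap_core h hX ⟨hx, ⟨x, hy, rfl⟩⟩)

/-! ### The optimal offender -/

variable {A : Subgroup G} (o : Opt U A)
include o

omit [Finite G] s in
theorem ea_bar (hA : A ≤ X) : EA (imx h X A) := by
  intro y hy
  obtain ⟨x, hx, rfl⟩ := exists_of_mem_imx h hX hA hy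
  rw [← map_mul, phi_eq_one]
  have h1 := o.sq _ hx
  rw [pow_two] at h1
  exact h1

omit o in
theorem nle_bar (hA : A ≤ T) (hQ : ¬ A ≤ o2 X) : ¬ imx h X A ≤ pCore 2 ↥(im h X) := by
  intro h0
  apply hQ
  intro a ha
  refine s.cap_core h hX ⟨hA ha, ⟨⟨a, s.syl.1 (hA ha)⟩, h0 ?_, rfl⟩⟩
  exact phi_mem_imx h hX ha

omit s in
theorem off_bar (hA : A ≤ X) (hc : U ≤ centralizer (U : Set G)) :
    Nat.card (MU hc) ≤ mm (MU hc) (imx h X A) := by
  rw [mm_imx h hA hX, card_MU]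
  have h1 : Ok U (⊥ : Subgroup G) :=
    { sq := fun a ha => by rw [mem_bot.1 ha, one_pow]; exact one_mem _
      comm := fun a ha b hb => by
        rw [mem_bot.1 ha, mem_bot.1 hb, inv_one, mul_one, mul_one, mul_one]; exact one_mem _
      pg := IsPGroup.of_bot
      norm := bot_le }
  refine le_trans ?_ (o.max _ h1)
  unfold ff
  rw [relIndex_bot_right, one_mul, coe_bot, centralizer_eq_top_iff_subset.2 (by
    intro x hx
    rw [Set.mem_singleton_iff.1 hx]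
    exact one_mem _), inf_top_eq]

omit s in
theorem min_bar (hA : A ≤ X) (hc : U ≤ centralizer (U : Set G)) (E : Subgroup ↥(im h X))
    (hE : E < imx h X A) (hE1 : E ≠ ⊥) : mm (MU hc) E < mm (MU hc) (imx h X A) := by
  set A₁ : Subgroup G := A ⊓ (E.comap (phi h hX)).map X.subtype with hA₁
  have hA₁A : A₁ ≤ A := inf_le_left
  have hAX : A₁ ≤ X := hA₁A.trans hA
  have e : imx h X A₁ = E := by
    apply le_antisymm
    · intro y hy
      obtain ⟨x, hx, rfl⟩ := exists_of_mem_imx h hX hAX hy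
      obtain ⟨x', hx', h1⟩ := hx.2
      rwa [Subtype.ext h1] at hx'
    · intro y hy
      obtain ⟨x, hx, rfl⟩ := exists_of_mem_imx h hX hA (hE.le hy)
      exact phi_mem_imx h hX ⟨hx, ⟨x, hy, rfl⟩⟩
  have ok : Ok U A₁ := o.toOk.mono hA₁A
  have hnc : ¬ A₁ ≤ centralizer (U : Set G) := by
    intro h0
    apply hE1
    rw [← e, eq_bot_iff]
    intro y hy
    obtain ⟨x, hx, rfl⟩ := exists_of_mem_imx h hX hAX hy
    exact mem_bot.2 ((phi_eq_one h hX).2 (h0 hx))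
  have h1 := o.max _ ok
  rw [← e, mm_imx h hA hX, mm_imx h hAX hX]
  refine lt_of_le_of_ne h1 fun h2 => ?_
  have h3 := o.min _ ok hnc h2
  rw [← card_imx' h hA hX, ← card_imx' h hAX hX, e] at h3
  exact absurd (eq_of_le_of_card_ge hE.le h3) hE.ne

omit o in
/-- **the input of THEOREM L** -/
theorem datU {P : Sylow 2 ↥(im h X)} (hP : (P : Subgroup ↥(im h X)) = imx h X T) :
    DatU P (ad s.cm V) (ad s.cm F) where
  two := s.two
  faith := faith_x h s.cm
  SV := s.SV h hX hP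
  ne := s.ne_bar h hX
  uniq := s.uniq h hX hP
  FV := s.FV_bar
  Fx := fun x f hf => s.Fx_bar h hX x f hf
  ti := s.ti_bar h hX
  nff := s.nff_bar h hX

theorem mbu (hA : A ≤ T) (hQ : ¬ A ≤ o2 X) : MBU (MU s.cm) (imx h X A) where
  ea := ea_bar h hX o (hA.trans s.syl.1)
  nle := s.nle_bar h hX hA hQ
  off := off_bar h hX o (hA.trans s.syl.1) s.cm
  min := fun E h1 h2 => min_bar h hX o (hA.trans s.syl.1) s.cm E h1 h2

/-- **TIGHT** -/
theorem tight (hA : A ≤ T) (hQ : ¬ A ≤ o2 X) : Tight (imx h X A) (ad s.cm V) (ad s.cm F) := by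
  obtain ⟨P, hP⟩ := s.exists_syl h hX
  exact TheoremL.Tight.tight (s.datU h hX hP) (s.mbu h hX o hA hQ)

end SitR

namespace SitR

variable (s : SitR V F T X U) {A : Subgroup G} (o : Opt U A)
include s hX

theorem mem_core_iff {a : X} (ha : (a : G) ∈ T) : phi h hX a ∈ pCore 2 ↥(im h X) ↔ (a : G) ∈ o2 X := by
  constructor
  · intro h1
    exact s.cap_core h hX ⟨ha, ⟨a, h1, rfl⟩⟩
  · intro h1
    rw [← s.core_eq h hX]
    exact phi_mem_imx h hX h1

include o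
omit hX

theorem gtight (hA : A ≤ T) (hQ : ¬ A ≤ o2 X) : GTight V F X U A := by
  have h : X ≤ normalizer (U : Set G) := s.XU
  have hX : X ≤ X := le_rfl
  have t := s.tight h hX o hA hQ
  have m := s.mbu h hX o hA hQ
  have hAX : A ≤ X := hA.trans s.syl.1
  have cjU : ∀ x ∈ X, cj x V ≤ U := fun x hx => by
    have h1 := cj_mono x s.VU
    rwa [cj_eq_of_mem_normalizer (s.XU hx)] at h1
  have hnf : ∀ (x : X) (a : G) (ha : a ∈ A), phi h hX ⟨a, hAX ha⟩ ∈ nf ↥(im h X) (sm (phi h hX x) (ad s.cm V)) ↔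
      a ∈ normalizer ((cj (x : G) V : Subgroup G) : Set G) := by
    intro x a ha
    rw [sm_phi]
    exact phi_mem_nf_iff h hX (cjU x x.2)
  have hmv : ∀ x : X, ¬ A ≤ normalizer ((cj (x : G) V : Subgroup G) : Set G) ↔
      ¬ imx h X A ≤ nf ↥(im h X) (sm (phi h hX x) (ad s.cm V)) := by
    intro x
    rw [not_iff_not]
    constructor
    · intro h1 y hy
      obtain ⟨a, ha, rfl⟩ := exists_of_mem_imx h hX hAX hy
      exact (hnf x a ha).2 (h1 ha)
    · intro h1 a ha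
      exact (hnf x a ha).1 (h1 (phi_mem_imx h hX ha))
  have eAQ : imx h X A ⊓ pCore 2 ↥(im h X) = imx h X (A ⊓ o2 X) := by
    ext y
    constructor
    · rintro ⟨h1, h2⟩
      obtain ⟨a, ha, rfl⟩ := exists_of_mem_imx h hX hAX h1
      exact phi_mem_imx h hX ⟨ha, (s.mem_core_iff h hX (hA ha)).1 h2⟩
    · intro h1
      obtain ⟨a, ha, rfl⟩ := exists_of_mem_imx h hX (inf_le_left.trans hAX) h1
      exact ⟨phi_mem_imx h hX ha.1, (s.mem_core_iff h hX (hA ha.1)).2 ha.2⟩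
  refine ⟨?_, ?_, ?_, ?_, ?_, ?_, ?_⟩
  · rw [← mm_imx (hc := s.cm) h hAX hX, t.mm_eq, card_MU]
  · have h1 := t.card
    rwa [card_imx' h hAX hX, card_ad_of_le (s.FV.trans s.VU), card_ad_of_le s.VU] at h1
  · intro a ha b hb u hu
    have h1 := TT.quad' s.two m.ea m.ne_bot m.off m.min _ (phi_mem_imx h hX (x := ⟨a, hAX ha⟩) ha) _
      (phi_mem_imx h hX (x := ⟨b, hAX hb⟩) hb) (Bridge.mk s.cm hu)
    have h2 := (phi_smul_eq_iff h hX).1 h1
    rw [val_phi_sub] at h2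
    exact h2
  · intro h1
    have h2 := t.fx_eq (by
      rw [eAQ]
      intro h0
      apply h1
      intro a ha
      have h3 : phi h hX ⟨a, hAX ha.1⟩ ∈ imx h X (A ⊓ o2 X) := phi_mem_imx h hX ha
      rw [h0, mem_bot, phi_eq_one] at h3
      exact h3)
    rw [eAQ, fx_imx h (inf_le_left.trans hAX) hX, fx_imx h hAX hX, ← ad_inf_U, ← ad_inf_U (centralizer (A : Set G)),
      ad_inj inf_le_left inf_le_left] at h2
    exact h2
  · intro a ha haQ u hu
    have h1 := t.comm (phi h hX ⟨a, hAX ha⟩) ⟨phi_mem_imx h hX ha, (s.mem_core_iff h hX (hA ha)).2 haQ⟩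
      (Bridge.mk s.cm hu)
    rw [mem_ad, val_phi_sub] at h1
    exact h1
  · obtain ⟨y, hy⟩ := t.ex
    obtain ⟨x, rfl⟩ := phi_surjective h hX y
    exact ⟨x, x.2, (hmv x).2 hy⟩
  · intro x hx hx1
    have t1 := t.all (phi h hX ⟨x, hx⟩) ((hmv ⟨x, hx⟩).1 hx1)
    have e0 : phi h hX ⟨x, hx⟩ • ad s.cm V = ad s.cm (cj x V) := sm_phi h hX ⟨x, hx⟩ V
    have e1 : imx h X A ⊓ nf ↥(im h X) (ad s.cm (cj x V)) = imx h X A ⊓ pCore 2 ↥(im h X) := by
      rw [← e0]; exact t1.nf_eq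
    have e2 : imx h X A ⊓ pCore 2 ↥(im h X) ⊓ cf ↥(im h X) (ad s.cm (cj x V)) = ⊥ := by
      rw [← e0]; exact t1.cf_eq
    refine ⟨?_, ?_, ?_, ?_⟩
    · apply le_antisymm (sup_le (cjU x hx) inf_le_left)
      intro u hu
      have h2 : Bridge.mk s.cm hu ∈ ad s.cm (cj x V) ⊔ ad s.cm (centralizer (A : Set G)) := by
        rw [← e0, ← fx_imx h hAX hX]
        have h3 := t1.sup
        have h4 : Bridge.mk s.cm hu ∈ (⊤ : AddSubgroup (MU s.cm)) := AddSubgroup.mem_top _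
        rw [← h3] at h4
        exact h4
      obtain ⟨v, hv, w, hw, h3⟩ := AddSubgroup.mem_sup.1 h2
      have h4 := congrArg val h3
      rw [val_add, val_mk] at h4
      rw [← h4]
      exact mul_mem (mem_sup_left hv) (mem_sup_right ⟨val_mem w, hw⟩)
    · have h2 := t1.inf
      have h3 : ad s.cm (cj x V) ⊓ ad s.cm (centralizer (A : Set G)) = ad s.cm F := by
        rw [← e0, ← fx_imx h hAX hX]; exact h2
      rw [← ad_inf, ad_inj (inf_le_left.trans (cjU x hx)) (s.FV.trans s.VU)] at h3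
      exact h3
    · intro a ha
      rw [← s.mem_core_iff h hX (a := ⟨a, hAX ha⟩) (hA ha), ← phi_mem_nf_iff (hc := s.cm) h hX (x := ⟨a, hAX ha⟩) (cjU x hx)]
      have h2 : phi h hX ⟨a, hAX ha⟩ ∈ imx h X A := phi_mem_imx h hX ha
      constructor
      · intro h3
        have h4 : phi h hX ⟨a, hAX ha⟩ ∈ imx h X A ⊓ nf ↥(im h X) (ad s.cm (cj x V)) := ⟨h2, h3⟩
        rw [e1] at h4
        exact h4.2
      · intro h3
        have h4 : phi h hX ⟨a, hAX ha⟩ ∈ imx h X A ⊓ pCore 2 ↥(im h X) := ⟨h2, h3⟩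
        rw [← e1] at h4
        exact h4.2
    · intro a ha haQ hac
      have h2 : phi h hX ⟨a, hAX ha⟩ ∈ imx h X A ⊓ pCore 2 ↥(im h X) ⊓ cf ↥(im h X) (ad s.cm (cj x V)) :=
        ⟨⟨phi_mem_imx h hX ha, (s.mem_core_iff h hX (hA ha)).2 haQ⟩, (phi_mem_cf_iff h hX (cjU x hx)).2 hac⟩
      rw [e2, mem_bot, phi_eq_one] at h2
      exact h2


end SitR

end Cfsg.Agent.Omega.NO3b.Base

end

section


/-!
# The bridge group → module for THEOREM L with two lines (#22211 (5))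

`SitW V L F T X K U` : `X` is a minimal parabolic over `T` with the maximal subgroup `K` over `T`, `X` acts on `U ≥ V`,
`F ≤ L ≤ V`, `T` normalises `V`, `K` normalises `L`, `V ∩ V^x ≤ F` for `x ∈ X - K`. `SitW.datW` : the input of
`TheoremL/TwoLine.lean`; `SitW.eq` : `V = L` if an optimal offender `A ≤ T` of `U` does not lie in `O₂(X)`.
-/

set_option autoImplicit false

namespace Cfsg.Agent.Omega.NO3b.Base

open Subgroup Cfsg
open Cfsg.Agent.ZN (o2 zc zl)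
open Cfsg.Agent.ZN.ChoiceBase (cj mem_cj cj_mono cj_eq_of_mem_normalizer mem_normalizer_iff_cj)
open Cfsg.Agent.ZN.ChoiceSit (Syl syl_iff syl_not_dvd o2_le_syl)
open Cfsg.Agent.MinSimple.MinParabolic (IsMinPar)
open Cfsg.Agent.MinSimple.VModule (oddGen oddGen_le le_normalizer_o2 o2_isPGroup le_o2 o2_le)
open Cfsg.Agent.Omega.FF.Basic (fx mm EA)
open Cfsg.Agent.Omega.NO3b.EZero (NotFF Par oddGen_sup_syl)
open Cfsg.Agent.Omega.NO3b.Exit
open Cfsg.Agent.Omega.NO3b.Exit.Bridge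
open Cfsg.Agent.Omega.NO3b.Exit.TT (cf nf mem_cf mem_nf mem_smul)
open Cfsg.Agent.Omega.FFBr (XX pr im mem_im card_im coe_pr_smul pr_eq_one pr_surjective)
open Cfsg.Agent.Omega.NOThreeL.Star (Opt Ok ff)
open Cfsg.Agent.Omega.NO3b.TheoremL.Tight (DatU MBU TightAt Tight)
open Cfsg.Agent.Omega.NO3b.TheoremL.TwoLine (DatW)
open scoped Pointwise

universe u

variable {G : Type u} [Group G]

/-- THEOREM L with two lines, in the group. -/
structure SitW (V L F T X K U : Subgroup G) [Finite G] : Prop where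
  cm : U ≤ centralizer (U : Set G)
  sq : ∀ u ∈ U, u ^ 2 = 1
  VU : V ≤ U
  XU : X ≤ normalizer (U : Set G)
  LV : L ≤ V
  FL : F ≤ L
  nz : ¬ L ≤ F
  XF : X ≤ centralizer (F : Set G)
  syl : Syl T X
  mp : IsMinPar T X
  TV : T ≤ normalizer (V : Set G)
  TK : T ≤ K
  KX : K ≤ X
  KL : K ≤ normalizer (L : Set G)
  cK : X ⊓ centralizer (U : Set G) ≤ K
  nK : ¬ X ≤ K
  min : ∀ M : Subgroup G, T ≤ M → M ≤ X → M ≠ X → M ≤ K
  ti : ∀ x ∈ X, x ∉ K → V ⊓ cj x V ≤ F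
  nffV : ∀ A : Subgroup G, A ≤ T → (∀ a ∈ A, a ^ 2 ∈ centralizer (V : Set G)) →
    (∀ a ∈ A, ∀ b ∈ A, a * b * a⁻¹ * b⁻¹ ∈ centralizer (V : Set G)) → ¬ A ≤ centralizer (V : Set G) →
    (centralizer (V : Set G)).relIndex A < (centralizer (A : Set G)).relIndex V
  nffL : ∀ A : Subgroup G, A ≤ T → (∀ a ∈ A, ∀ v ∈ V, a * v * a⁻¹ * v⁻¹ ∈ F) → ¬ A ≤ centralizer (L : Set G) →
    (centralizer (L : Set G)).relIndex A < (centralizer (A : Set G)).relIndex L

variable {H U X : Subgroup G} (h : H ≤ normalizer (U : Set G)) (hX : X ≤ H)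
variable {hc : U ≤ centralizer (U : Set G)}
variable [Finite G] {V L F T K : Subgroup G}

include hX in
/-- from `relIndex` to cardinals of the images -/
theorem card_bar {W A₀ : Subgroup G} (hW : W ≤ U) (hA₀X : A₀ ≤ X)
    (h1 : (centralizer (W : Set G)).relIndex A₀ < (centralizer (A₀ : Set G)).relIndex W) :
    Nat.card (imx h X A₀) * Nat.card ↥(ad hc W ⊓ fx (MU hc) (imx h X A₀)) <
      Nat.card (ad hc W) * Nat.card ↥(imx h X A₀ ⊓ cf ↥(im h X) (ad hc W)) := by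
  have e1 : ad hc W ⊓ fx (MU hc) (imx h X A₀) = ad hc (W ⊓ centralizer (A₀ : Set G)) := by
    rw [fx_imx h hA₀X hX, ad_inf]
  have e2 : imx h X A₀ ⊓ cf ↥(im h X) (ad hc W) = imx h X (A₀ ⊓ centralizer (W : Set G)) := by
    ext y
    constructor
    · rintro ⟨h2, h3⟩
      obtain ⟨x, hx, rfl⟩ := exists_of_mem_imx h hX hA₀X h2
      exact phi_mem_imx h hX ⟨hx, (phi_mem_cf_iff h hX hW).1 h3⟩
    · intro h2
      obtain ⟨x, hx, rfl⟩ := exists_of_mem_imx h hX (inf_le_left.trans hA₀X) h2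
      exact ⟨phi_mem_imx h hX hx.1, (phi_mem_cf_iff h hX hW).2 hx.2⟩
  rw [e1, e2, card_ad_of_le (inf_le_left.trans hW), card_ad_of_le hW]
  have c1 := card_imx h hA₀X hX
  have c2 := card_imx h (inf_le_left.trans hA₀X : A₀ ⊓ centralizer (W : Set G) ≤ X) hX
  have e3 : A₀ ⊓ centralizer (W : Set G) ⊓ centralizer (U : Set G) = A₀ ⊓ centralizer (U : Set G) := by
    rw [inf_assoc, inf_eq_right.2 (centralizer_le hW)]
  rw [e3] at c2
  have r1 := NOThreeL.Star.rel_mul_card A₀ (centralizer (W : Set G))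
  have r2 := NOThreeL.Star.rel_mul_card W (centralizer (A₀ : Set G))
  have p0 : 0 < Nat.card ↥(A₀ ⊓ centralizer (U : Set G)) := Nat.card_pos
  have p1 : 0 < Nat.card ↥(A₀ ⊓ centralizer (W : Set G)) := Nat.card_pos
  have p2 : 0 < Nat.card ↥(W ⊓ centralizer (A₀ : Set G)) := Nat.card_pos
  refine lt_of_mul_lt_mul_right ?_ p0.le
  calc Nat.card (imx h X A₀) * Nat.card ↥(W ⊓ centralizer (A₀ : Set G)) * Nat.card ↥(A₀ ⊓ centralizer (U : Set G))
      = (Nat.card (imx h X A₀) * Nat.card ↥(A₀ ⊓ centralizer (U : Set G))) *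
          Nat.card ↥(W ⊓ centralizer (A₀ : Set G)) := by ring
    _ = (centralizer (W : Set G)).relIndex A₀ *
          (Nat.card ↥(A₀ ⊓ centralizer (W : Set G)) * Nat.card ↥(W ⊓ centralizer (A₀ : Set G))) := by
        rw [c1, ← r1]; ring
    _ < (centralizer (A₀ : Set G)).relIndex W *
          (Nat.card ↥(A₀ ⊓ centralizer (W : Set G)) * Nat.card ↥(W ⊓ centralizer (A₀ : Set G))) :=
        Nat.mul_lt_mul_of_pos_right h1 (Nat.mul_pos p1 p2)
    _ = Nat.card W * Nat.card ↥(A₀ ⊓ centralizer (W : Set G)) := by rw [← r2]; ring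
    _ = _ := by rw [← c2]; ring

namespace SitW

variable (s : SitW V L F T X K U)
include s

theorem two (w : MU s.cm) : w + w = 0 := by
  apply val_inj
  rw [val_add, val_zero, ← pow_two]
  exact s.sq _ (val_mem w)

include hX

/-- the Sylow 2-subgroup `T̄` -/
theorem exists_syl : ∃ P : Sylow 2 ↥(im h X), (P : Subgroup ↥(im h X)) = imx h X T := by
  have hfact : Fact (Nat.Prime 2) := ⟨Nat.prime_two⟩
  obtain ⟨P, hP⟩ := syl_iff.1 s.syl
  refine ⟨P.mapSurjective (phi_surjective h hX), ?_⟩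
  rw [Sylow.coe_mapSurjective, imx_eq_map h hX s.syl.1]
  congr 1
  rw [← hP]
  exact (comap_map_eq_self_of_injective X.subtype_injective _).symm

/-- lifting a subgroup of `T̄` to `T` -/
theorem exists_lift {P : Sylow 2 ↥(im h X)} (hP : (P : Subgroup ↥(im h X)) = imx h X T) {A : Subgroup ↥(im h X)}
    (hA : A ≤ P) : ∃ A₀ ≤ T, A = imx h X A₀ ∧ ∀ x : X, (x : G) ∈ A₀ → phi h hX x ∈ A := by
  refine ⟨T ⊓ (A.comap (phi h hX)).map X.subtype, inf_le_left, ?_, ?_⟩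
  · ext y
    constructor
    · intro hy
      obtain ⟨x, hx, rfl⟩ := exists_of_mem_imx h hX s.syl.1 (hP ▸ hA hy)
      exact phi_mem_imx h hX ⟨hx, ⟨x, hy, rfl⟩⟩
    · intro hy
      obtain ⟨x, hx, rfl⟩ := exists_of_mem_imx h hX (inf_le_left.trans s.syl.1) hy
      obtain ⟨x', hx', h1⟩ := hx.2
      rwa [Subtype.ext h1] at hx'
  · rintro x ⟨-, x', hx', h1⟩
    rwa [Subtype.ext h1] at hx'

theorem mem_K {x : X} (hx : phi h hX x ∈ imx h X K) : (x : G) ∈ K := by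
  obtain ⟨k, hk, hkx⟩ := exists_of_mem_imx h hX s.KX hx
  have h1 : phi h hX (k⁻¹ * x) = 1 := by rw [map_mul, map_inv, hkx, inv_mul_cancel]
  have h2 : ((k⁻¹ * x : X) : G) ∈ centralizer (U : Set G) := (phi_eq_one h hX).1 h1
  have h3 := mul_mem hk (s.cK ⟨(k⁻¹ * x).2, h2⟩)
  have e : (k : G) * ((k⁻¹ * x : X) : G) = x := by push_cast; group
  rwa [e] at h3

theorem ne_bar : imx h X K ≠ ⊤ := by
  intro h0
  apply s.nK
  intro x hx
  have h1 : phi h hX ⟨x, hx⟩ ∈ imx h X K := by rw [h0]; exact mem_top _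
  exact s.mem_K h hX h1

theorem uniq {P : Sylow 2 ↥(im h X)} (hP : (P : Subgroup ↥(im h X)) = imx h X T) (M : Subgroup ↥(im h X))
    (hPM : (P : Subgroup ↥(im h X)) ≤ M) (hM : M ≠ ⊤) : M ≤ imx h X K := by
  have h1 := s.min ((M.comap (phi h hX)).map X.subtype) (by
    intro t ht
    refine ⟨⟨t, s.syl.1 ht⟩, ?_, rfl⟩
    apply hPM
    rw [hP]
    exact phi_mem_imx h hX ht) (map_subtype_le _) (fun h0 => hM (by
      rw [eq_top_iff]
      intro y _
      obtain ⟨x, rfl⟩ := phi_surjective h hX y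
      have h2 : (x : G) ∈ (M.comap (phi h hX)).map X.subtype := by rw [h0]; exact x.2
      obtain ⟨x', hx', h3⟩ := h2
      rwa [Subtype.ext h3] at hx'))
  intro y hy
  obtain ⟨x, rfl⟩ := phi_surjective h hX y
  exact phi_mem_imx h hX (h1 ⟨x, hy, rfl⟩)

/-! ### `O₂(X̄)` -/

theorem cap_core : T ⊓ ((pCore 2 ↥(im h X)).comap (phi h hX)).map X.subtype ≤ o2 X := by
  have hfact : Fact (Nat.Prime 2) := ⟨Nat.prime_two⟩
  have hN : (pCore 2 ↥(im h X)).Normal := Lib.Cores.pCore_normal 2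
  have hN' : ((pCore 2 ↥(im h X)).comap (phi h hX)).Normal := hN.comap _
  have hXn : X ≤ normalizer ((((pCore 2 ↥(im h X)).comap (phi h hX)).map X.subtype : Subgroup G) : Set G) := by
    have h1 := (normalizer_eq_top_iff (H := (pCore 2 ↥(im h X)).comap (phi h hX))).2 hN'
    have h2 := le_normalizer_map (H := (pCore 2 ↥(im h X)).comap (phi h hX)) X.subtype
    rw [h1, ← MonoidHom.range_eq_map, range_subtype] at h2
    exact h2
  rcases K0.min_or s.syl s.mp (map_subtype_le _) hXn with h1 | h1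
  · exfalso
    apply s.nK
    rw [← oddGen_sup_syl s.syl]
    refine sup_le ?_ s.TK
    refine le_trans (le_inf (oddGen_le X) ?_) s.cK
    rw [MinSimple.VModule.oddGen_def, closure_le]
    rintro x ⟨hx, hodd⟩
    have h2 := h1 (MinSimple.VModule.mem_oddGen hx hodd)
    obtain ⟨x', hx', rfl⟩ := h2
    refine (phi_eq_one h hX).1 ?_
    have h3 : IsPGroup 2 (pCore 2 ↥(im h X)) := Lib.Cores.pCore_isPGroup 2
    have h4 : orderOf (phi h hX x') ∣ orderOf x' := orderOf_map_dvd _ _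
    have h5 : orderOf (x' : G) = orderOf x' := orderOf_coe x'
    obtain ⟨k, hk⟩ := IsPGroup.iff_orderOf.1 h3 ⟨phi h hX x', hx'⟩
    have h6 : orderOf (phi h hX x') = 2 ^ k := by rw [← hk]; exact (orderOf_mk _ _).symm
    have hodd' : Odd (orderOf (phi h hX x')) := Odd.of_dvd_nat (by
      rw [← h5]; exact hodd) h4
    rw [h6] at hodd'
    rcases Nat.eq_zero_or_pos k with h7 | h7
    · rw [h7, pow_zero] at h6
      exact orderOf_eq_one_iff.1 h6
    · exact absurd hodd' (Nat.not_odd_iff_even.2 ((Nat.even_pow.2 ⟨even_two, h7.ne'⟩)))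
  · exact h1

theorem nle_bar {A : Subgroup G} (hA : A ≤ T) (hQ : ¬ A ≤ o2 X) : ¬ imx h X A ≤ pCore 2 ↥(im h X) := by
  intro h0
  apply hQ
  intro a ha
  refine s.cap_core h hX ⟨hA ha, ⟨⟨a, s.syl.1 (hA ha)⟩, h0 ?_, rfl⟩⟩
  exact phi_mem_imx h hX ha

theorem mbu {A : Subgroup G} (o : Opt U A) (hA : A ≤ T) (hQ : ¬ A ≤ o2 X) : MBU (MU s.cm) (imx h X A) where
  ea := SitR.ea_bar h hX o (hA.trans s.syl.1)
  nle := s.nle_bar h hX hA hQ
  off := SitR.off_bar h hX o (hA.trans s.syl.1) s.cm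
  min := fun E h1 h2 => SitR.min_bar h hX o (hA.trans s.syl.1) s.cm E h1 h2

/-- **the input of THEOREM L with two lines** -/
theorem datW {P : Sylow 2 ↥(im h X)} (hP : (P : Subgroup ↥(im h X)) = imx h X T) :
    DatW P (imx h X K) (ad s.cm V) (ad s.cm L) (ad s.cm F) where
  two := s.two
  faith := SitR.faith_x h s.cm
  SM := by
    rw [hP]; exact imx_mono h s.TK
  ne := s.ne_bar h hX
  uniq := s.uniq h hX hP
  SV := by
    rw [hP]
    intro y hy
    obtain ⟨x, hx, rfl⟩ := exists_of_mem_imx h hX s.syl.1 hy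
    exact (phi_mem_nf_iff h hX s.VU).2 (s.TV hx)
  ML := by
    intro y hy
    obtain ⟨x, hx, rfl⟩ := exists_of_mem_imx h hX s.KX hy
    exact (phi_mem_nf_iff h hX (s.LV.trans s.VU)).2 (s.KL hx)
  LV := ad_mono s.LV
  FL := ad_mono s.FL
  Fx := by
    intro y w hw
    obtain ⟨x, rfl⟩ := phi_surjective h hX y
    refine (phi_smul_eq_iff h hX).2 ?_
    exact (mem_centralizer_iff.1 (s.XF x.2) _ hw).symm
  ti := by
    intro y hy
    obtain ⟨x, rfl⟩ := phi_surjective h hX y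
    have h1 := ad_mono (hc := s.cm) (s.ti x x.2 fun h0 => hy (phi_mem_imx h hX h0))
    rw [ad_inf, ← sm_phi h hX] at h1
    exact h1
  nz := by
    intro h0
    apply s.nz
    intro v hv
    have h1 : Bridge.mk s.cm ((s.LV.trans s.VU) hv) ∈ ad s.cm F := h0 hv
    exact h1
  nffV := by
    intro A hA hea hne
    obtain ⟨A₀, hA₀, rfl, hmem⟩ := s.exists_lift h hX hP hA
    have hA₀X : A₀ ≤ X := hA₀.trans s.syl.1
    refine card_bar h hX s.VU hA₀X (s.nffV A₀ hA₀ ?_ ?_ ?_)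
    · intro a ha
      have h1 := hea _ (hmem ⟨a, hA₀X ha⟩ ha)
      rw [← map_mul, phi_eq_one] at h1
      rw [pow_two]
      exact centralizer_le s.VU h1
    · intro a ha b hb
      have h1 := hea _ (hmem ⟨a, hA₀X ha⟩ ha)
      have h2 := hea _ (hmem ⟨b, hA₀X hb⟩ hb)
      have h3 := hea _ (hmem (⟨a, hA₀X ha⟩ * ⟨b, hA₀X hb⟩) (mul_mem ha hb))
      have h4 : phi h hX (⟨a, hA₀X ha⟩ * ⟨b, hA₀X hb⟩ * ⟨a, hA₀X ha⟩⁻¹ * ⟨b, hA₀X hb⟩⁻¹) = 1 := by
        rw [map_mul] at h3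
        rw [map_mul, map_mul, map_mul, map_inv, map_inv, inv_eq_of_mul_eq_one_left h1, inv_eq_of_mul_eq_one_left h2]
        rw [mul_assoc _ (phi h hX ⟨a, _⟩) (phi h hX ⟨b, _⟩)]
        exact h3
      rw [phi_eq_one] at h4
      exact centralizer_le s.VU h4
    · intro h0
      apply hne
      intro y hy
      obtain ⟨x, hx, rfl⟩ := exists_of_mem_imx h hX hA₀X hy
      exact (phi_mem_cf_iff h hX s.VU).2 (h0 hx)
  nffL := by
    intro A hA hF hne
    obtain ⟨A₀, hA₀, rfl, hmem⟩ := s.exists_lift h hX hP hA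
    have hA₀X : A₀ ≤ X := hA₀.trans s.syl.1
    refine card_bar h hX (s.LV.trans s.VU) hA₀X (s.nffL A₀ hA₀ ?_ ?_)
    · intro a ha v hv
      have h1 := hF _ (hmem ⟨a, hA₀X ha⟩ ha) (Bridge.mk s.cm (s.VU hv)) hv
      rw [mem_ad, val_phi_sub] at h1
      exact h1
    · intro h0
      apply hne
      intro y hy
      obtain ⟨x, hx, rfl⟩ := exists_of_mem_imx h hX hA₀X hy
      exact (phi_mem_cf_iff h hX (s.LV.trans s.VU)).2 (h0 hx)

omit h hX in
/-- **`V = L`** -/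
theorem eq {A : Subgroup G} (o : Opt U A) (hA : A ≤ T) (hQ : ¬ A ≤ o2 X) : V = L := by
  have h : X ≤ normalizer (U : Set G) := s.XU
  obtain ⟨P, hP⟩ := s.exists_syl h le_rfl
  have h1 := (s.datW h le_rfl hP).eq (s.mbu h le_rfl o hA hQ)
  exact (ad_inj s.VU (s.LV.trans s.VU)).1 h1

end SitW

end Cfsg.Agent.Omega.NO3b.Base

end
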