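import Cfsg.Agent.Mrg.Omega.NO3b.Exit.TenSplit
import Cfsg.Agent.Mrg.Omega.NO3b.BasePt.Def
import Cfsg.Agent.Mrg.Omega.NO3b.EZeroBase

section


/-!
# The base point in LOC, LEMMA T2 (helper506, bb 22310), from the blocks `Blk0` (helper255, bb 22738)

* `exists_of_sq` : a `K`-linear `g` with `(g - 1)² = 0` is induced by `Y`;
* `smul_hom` : `k ∈ KV` acts on the block `V₁` as `kA k ⊗ 1`;
* **`exists_y`** : `t ∈ M` with `[V₁, t] ≤ X ≤ C(t)` and `r ∈ KV` which fixes `X` but not `V₁`: `t` acts on `V₁` as an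
  element of `Y`;
* `fc B D` : `C_V(C_{YM}(D))`; `bad B D` : the sum of the blocks which are not contained in `fc D`;
* **`t2`** : `t ∈ M`, `[V, t] ≤ D ≤ C_V(t)`: some `m ∈ M` is trivial on `bad D` and equal to `t` on `fc D`;
* `fc_fx` : `fc (C_V(S)) = C_V(S ∩ YM)`; `fc_F` : `fc F = F`.
-/

set_option autoImplicit false

open scoped Pointwise

namespace Cfsg.Agent.Omega.NO3b.Exit.BlkZ

open Subgroup Cfsg.Agent.Omega.NO3b.Exit Ten Descent
open Cfsg.Agent.Omega.NO3b.Exit.TBlk hiding Blk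

universe u v

section one

variable {Y : Type u} {A : Type v} [Group Y] [AddCommGroup A] [DistribMulAction Y A] [Finite A]
  [hI : IsIrr Y A]

/-- a `K`-linear `g` with `(g - 1)² = 0` is induced by `Y` -/
theorem exists_of_sq (htv : AllTv Y A) (g : A →ₗ[KK Y A] A) (hg : ∀ a, g (g a - a) = g a - a) :
    ∃ y : Y, ∀ a, y • a = g a := by
  classical
  let ν : A →ₗ[KK Y A] A := g - LinearMap.id
  have hν : ∀ a, ν a = g a - a := fun a => rfl
  have hνν : ∀ a, ν (ν a) = 0 := fun a => by rw [hν (ν a), hν a, hg, sub_self]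
  let b := Module.finBasis (KK Y A) (LinearMap.range ν)
  let φ : Fin (Module.finrank (KK Y A) (LinearMap.range ν)) → Module.Dual (KK Y A) A := fun j =>
    (b.coord j).comp ν.rangeRestrict
  have hφ : ∀ i j, φ i (b j : A) = 0 := by
    intro i j
    have h1 : ν.rangeRestrict (b j : A) = 0 := by
      apply Subtype.ext
      obtain ⟨a, ha⟩ := (b j).2
      change ν (b j : A) = 0
      rw [← ha, hνν]
    change b.coord i (ν.rangeRestrict (b j : A)) = 0
    rw [h1, map_zero]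
  have hsum : ∀ a, ∑ j, φ j a • (b j : A) = ν a := by
    intro a
    have h1 := b.sum_repr (ν.rangeRestrict a)
    have h2 := congrArg (fun x : LinearMap.range ν => (x : A)) h1
    rw [AddSubmonoidClass.coe_finsetSum] at h2
    exact h2
  have key : ∀ s : Finset (Fin (Module.finrank (KK Y A) (LinearMap.range ν))),
      ∃ y : Y, ∀ a, y • a = a + ∑ j ∈ s, φ j a • (b j : A) := by
    intro s
    induction s using Finset.induction_on with
    | empty => exact ⟨1, fun a => by rw [one_smul, Finset.sum_empty, add_zero]⟩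
    | insert i s hi ih =>
      obtain ⟨y, hy⟩ := ih
      obtain ⟨y', hy'⟩ := htv (φ i) (b i : A) (hφ i i)
      refine ⟨y' * y, fun a => ?_⟩
      have h1 : φ i (∑ j ∈ s, φ j a • (b j : A)) = 0 := by
        rw [map_sum]
        exact Finset.sum_eq_zero fun j _ => by rw [map_smul, hφ, smul_zero]
      rw [mul_smul, hy, hy', map_add, h1, add_zero, Finset.sum_insert hi]
      abel
  obtain ⟨y, hy⟩ := key Finset.univ
  refine ⟨y, fun a => ?_⟩
  rw [hy, hsum, hν]
  abel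

end one

namespace Blk0

variable {H : Type u} {U : Type v} [Group H] [Finite H] [AddCommGroup U] [DistribMulAction H U] [Finite U]
variable {Y Q BB : Subgroup H} {V F L C : AddSubgroup U} {h : H} {M KV S : Subgroup H}
variable (B : Blk0 Y Q BB V F L C h M KV S)
include B

/-- the action of `k ∈ KV` on `AA` -/
def kA {k : H} (hk : k ∈ KV) : AM B.dat →+ AM B.dat :=
  AddMonoidHom.mk' (fun a => AM.mk (k * a.val * k⁻¹) (B.AA_K k hk _ a.val_mem)) fun a b => AM.ext (by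
    change k * (a.val * b.val) * k⁻¹ = (k * a.val * k⁻¹) * (k * b.val * k⁻¹)
    group)

theorem val_kA {k : H} (hk : k ∈ KV) (a : AM B.dat) : (B.kA hk a).val = k * a.val * k⁻¹ := rfl

theorem smul_hom {k : H} (hk : k ∈ KV) (f : HomY Y (AM B.dat) U) (a : AM B.dat) :
    k • (f : AM B.dat →+ U) a = (f : AM B.dat →+ U) (B.kA hk a) := by
  obtain ⟨u, rfl⟩ := B.dat.mdl.psi_surj f
  rw [Mdl.psi_apply, Mdl.psi_apply, B.dat.bt_apply, B.dat.bt_apply, val_kA, B.br_K hk a.val_mem]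

theorem kA_smul {k : H} (hk : k ∈ KV) (κ : KK Y (AM B.dat)) (a : AM B.dat) :
    B.kA hk (κ • a) = κ • B.kA hk a := by
  obtain ⟨f, hf⟩ := B.dat.mdl.exists_ne
  refine HomY.inj hf ?_
  rw [← B.smul_hom hk f, ← HomY.smul_apply, B.smul_hom hk (κ • f), HomY.smul_apply]

/-- the elements of `V₁` -/
theorem V1_ind {P : U → Prop} (h0 : P 0) (hadd : ∀ a b, P a → P b → P (a + b)) (hneg : ∀ a, P a → P (-a))
    (hom : ∀ (f : HomY Y (AM B.dat) U) (a : AM B.dat), P ((f : AM B.dat →+ U) a)) {v : U} (hv : v ∈ V1 B.dat) : P v := by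
  induction hv using AddSubgroup.closure_induction with
  | mem v hv =>
    obtain ⟨x, hx, u, rfl⟩ := hv
    have h1 := hom (B.dat.mdl.psi u) (AM.mk x hx)
    rwa [Mdl.psi_apply, B.dat.bt_apply] at h1
  | zero => exact h0
  | add a b _ _ ha hb => exact hadd a b ha hb
  | neg a _ ha => exact hneg a ha

/-- `t ∈ M` with `[V₁, t] ≤ X ≤ C(t)` acts on `V₁` as an element of `Y`, if some `r ∈ KV` fixes `X` and moves `V₁`. -/
theorem exists_y {t : H} (ht : t ∈ M) {X : AddSubgroup U} (h1 : ∀ v ∈ V1 B.dat, br t v ∈ X)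
    (h2 : ∀ x ∈ X, t • x = x) {r : H} (hr : r ∈ KV) (hrX : ∀ x ∈ X, r • x = x)
    (hrV : ∃ v ∈ V1 B.dat, r • v ≠ v) : ∃ y ∈ Y, ∀ v ∈ V1 B.dat, t • v = y • v := by
  classical
  have hI := B.dat.isIrr
  -- `r` moves `AA`
  have hrA : ∃ a0 : AM B.dat, B.kA hr a0 ≠ a0 := by
    by_contra hcon
    push Not at hcon
    obtain ⟨v, hv, hne⟩ := hrV
    refine hne (B.V1_ind (P := fun v => r • v = v) (smul_zero _) (fun a b ha hb => by rw [smul_add, ha, hb])
      (fun a ha => by rw [smul_neg, ha]) (fun f a => by rw [B.smul_hom hr, hcon]) hv)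
  obtain ⟨a0, ha0⟩ := hrA
  -- the lines
  have line : ∀ f : HomY Y (AM B.dat) U, f ≠ 0 → ∀ a : AM B.dat, ∃ a' : AM B.dat,
      t • (f : AM B.dat →+ U) a = (f : AM B.dat →+ U) a' := by
    intro f hf
    let N : AddSubgroup (AM B.dat) :=
      { carrier := {a | ∃ a', t • (f : AM B.dat →+ U) a' = (f : AM B.dat →+ U) a}
        zero_mem' := ⟨0, by rw [map_zero, smul_zero]⟩
        add_mem' := by
          rintro a b ⟨a', ha⟩ ⟨b', hb⟩
          exact ⟨a' + b', by rw [map_add, smul_add, ha, hb, map_add]⟩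
        neg_mem' := by
          rintro a ⟨a', ha⟩
          exact ⟨-a', by rw [map_neg, smul_neg, ha, map_neg]⟩ }
    have hN : N = ⊤ := by
      rcases hI.irr N (fun k n hn => by
        obtain ⟨n', hn'⟩ := hn
        refine ⟨B.kA (B.nK' ht (B.YK k.2)) n', ?_⟩
        rw [← B.smul_hom, f.2, ← hn']
        change t • ((t⁻¹ * (k : H) * t) • (f : AM B.dat →+ U) n') = (k : H) • (t • (f : AM B.dat →+ U) n')
        rw [smul_smul, smul_smul]
        congr 1
        group) with h3 | h3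
      · exfalso
        have h4 : B.kA hr a0 - a0 ∈ N := by
          refine ⟨B.kA (B.nK' ht hr) a0 - a0, ?_⟩
          have h5 := hrX _ (h1 _ (hom_mem B f a0))
          rw [br_def, smul_sub, B.smul_hom hr] at h5
          have h6 : r • t • (f : AM B.dat →+ U) a0 = t • (f : AM B.dat →+ U) (B.kA (B.nK' ht hr) a0) := by
            rw [← B.smul_hom (B.nK' ht hr), smul_smul, smul_smul]
            congr 1
            group
          rw [h6] at h5
          rw [map_sub, map_sub, smul_sub]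
          have h7 := sub_eq_sub_iff_sub_eq_sub.1 h5
          exact h7
        rw [h3, AddSubgroup.mem_bot, sub_eq_zero] at h4
        exact ha0 h4
      · exact h3
    have h3 : ∀ a : AM B.dat, ∃ a', t • (f : AM B.dat →+ U) a' = (f : AM B.dat →+ U) a := fun a => by
      have h4 : a ∈ N := by rw [hN]; trivial
      exact h4
    choose θ hθ using h3
    have hinj : Function.Injective θ := fun a b e => HomY.inj hf (by rw [← hθ a, ← hθ b, e])
    have hbij := Finite.injective_iff_bijective.1 hinj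
    intro a
    obtain ⟨c, rfl⟩ := hbij.2 a
    exact ⟨c, hθ c⟩
  -- a fixed line
  obtain ⟨f, hf⟩ := B.dat.mdl.exists_ne
  choose g hg using line f hf
  have hfi := HomY.inj hf
  have hgadd : ∀ a b, g (a + b) = g a + g b := fun a b => hfi (by rw [← hg, map_add, smul_add, hg, hg, map_add])
  have hginj : Function.Injective g := fun a b e => hfi (smul_left_cancel t (by rw [hg, hg, e]))
  have hgsurj := (Finite.injective_iff_bijective.1 hginj).2
  -- `(g - 1) a` is fixed by `r`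
  have hgr : ∀ a, B.kA hr (g a - a) = g a - a := by
    intro a
    apply hfi
    rw [← B.smul_hom hr]
    have h5 := hrX _ (h1 _ (hom_mem B f a))
    rw [br_def, hg] at h5
    rw [map_sub]
    exact h5
  -- intertwining
  have hgk : ∀ (k : Y) (a : AM B.dat), k • g a = g (B.kA (B.nK' ht (B.YK k.2)) a) := by
    intro k a
    apply hfi
    rw [← hg, ← B.smul_hom, f.2, ← hg]
    change (k : H) • t • (f : AM B.dat →+ U) a = t • (t⁻¹ * (k : H) * t) • (f : AM B.dat →+ U) a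
    rw [smul_smul, smul_smul]
    congr 1
    group
  -- `K`-linearity
  have hglin : ∀ (κ : KK Y (AM B.dat)) (a : AM B.dat), g (κ • a) = κ • g a := by
    intro κ
    have hgs := hgsurj
    choose gi hgi using hgs
    have hgi' : ∀ a, gi (g a) = a := fun a => hginj (hgi _)
    have hgiadd : ∀ a b, gi (a + b) = gi a + gi b := fun a b => hginj (by rw [hgi, hgadd, hgi, hgi])
    let κ' : KK Y (AM B.dat) := KK.mk Y (AM B.dat)
      (AddMonoidHom.mk' (fun a => g (κ • gi a)) fun a b => by rw [hgiadd, smul_add, hgadd]) (by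
        intro k a
        change g (κ • gi (k • a)) = k • g (κ • gi a)
        have h5 := hgk k (gi a)
        rw [hgi] at h5
        rw [h5, hgi', hgk, B.kA_smul])
    have hκ' : ∀ a, κ' • g a = g (κ • a) := fun a => by
      change g (κ • gi (g a)) = g (κ • a)
      rw [hgi']
    by_cases he : κ' = κ
    · intro a
      rw [← hκ', he]
    exfalso
    have h5 : ∀ a : AM B.dat, B.kA hr ((κ' - κ) • g a) = (κ' - κ) • g a := by
      intro a
      have e : (κ' - κ) • g a = (g (κ • a) - κ • a) - κ • (g a - a) := by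
        rw [sub_smul, hκ', smul_sub]
        abel
      rw [e, map_sub, hgr, B.kA_smul, hgr]
    have h6 : κ' - κ ≠ 0 := sub_ne_zero.2 he
    apply ha0
    obtain ⟨c, hc⟩ := hgsurj ((κ' - κ)⁻¹ • a0)
    have h7 := h5 c
    rw [hc, smul_smul, mul_inv_cancel₀ h6, one_smul] at h7
    exact h7
  let gl : AM B.dat →ₗ[KK Y (AM B.dat)] AM B.dat :=
    { toFun := g
      map_add' := hgadd
      map_smul' := fun κ a => by rw [RingHom.id_apply]; exact hglin κ a }
  -- all lines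
  have all : ∀ (f' : HomY Y (AM B.dat) U) (a : AM B.dat), t • (f' : AM B.dat →+ U) a = (f' : AM B.dat →+ U) (g a) := by
    intro f' a
    by_cases hf' : ∃ κ : KK Y (AM B.dat), f' = κ • f
    · obtain ⟨κ, rfl⟩ := hf'
      rw [HomY.smul_apply, HomY.smul_apply, hg, hglin]
    have hf'0 : f' ≠ 0 := by
      rintro rfl
      exact hf' ⟨0, by rw [zero_smul]⟩
    have hsum0 : f + f' ≠ 0 := by
      intro e
      apply hf'
      refine ⟨-1, ?_⟩
      rw [neg_smul, one_smul]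
      exact (neg_eq_of_add_eq_zero_right e).symm
    obtain ⟨c, hc⟩ := line (f + f') hsum0 a
    obtain ⟨d, hd⟩ := line f' hf'0 a
    have h5 : (f : AM B.dat →+ U) (c - g a) = (f' : AM B.dat →+ U) (d - c) := by
      have h6 : ((f + f' : HomY Y (AM B.dat) U) : AM B.dat →+ U) a =
          (f : AM B.dat →+ U) a + (f' : AM B.dat →+ U) a := rfl
      have h7 : ((f + f' : HomY Y (AM B.dat) U) : AM B.dat →+ U) c =
          (f : AM B.dat →+ U) c + (f' : AM B.dat →+ U) c := rfl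
      rw [h6, smul_add, hg, hd, h7] at hc
      rw [map_sub, map_sub, sub_eq_sub_iff_add_eq_add, ← hc]
      abel
    have h8 : c - g a = 0 := by
      by_contra hne
      obtain ⟨κ, hκ⟩ := HomY.fact h5 hne
      have hκ0 : κ ≠ 0 := by
        rintro rfl
        rw [zero_smul] at hκ
        exact hf hκ
      exact hf' ⟨κ⁻¹, by rw [hκ, smul_smul, inv_mul_cancel₀ hκ0, one_smul]⟩
    rw [h8, map_zero] at h5
    have h9 : d - c = 0 := by
      by_contra hne
      exact hf'0 (HomY.eq_zero h5.symm hne)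
    rw [hd, sub_eq_zero.1 h9, sub_eq_zero.1 h8]
  obtain ⟨y, hy⟩ := exists_of_sq (allTv B.dat) gl (by
    intro a
    change g (g a - a) = g a - a
    apply hfi
    rw [← hg]
    have h5 := h2 _ (h1 _ (hom_mem B f a))
    rw [br_def, hg] at h5
    rw [map_sub]
    exact h5)
  refine ⟨y, y.2, fun v hv => ?_⟩
  refine B.V1_ind (P := fun v => t • v = (y : H) • v) (by rw [smul_zero, smul_zero])
    (fun a b ha hb => by rw [smul_add, smul_add, ha, hb]) (fun a ha => by rw [smul_neg, smul_neg, ha])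
    (fun f' a => ?_) hv
  rw [all]
  change _ = y • (f' : AM B.dat →+ U) a
  rw [← f'.2, hy]
  rfl

/-- the same for the block `m V₁` -/
theorem exists_ym {m t : H} (hm : m ∈ M) (ht : t ∈ M) {X : AddSubgroup U} (h1 : ∀ v ∈ m • V1 B.dat, br t v ∈ X)
    (h2 : ∀ x ∈ X, t • x = x) {r : H} (hr : r ∈ KV) (hrX : ∀ x ∈ X, r • x = x)
    (hrV : ∃ v ∈ m • V1 B.dat, r • v ≠ v) : ∃ y ∈ Y, ∀ v ∈ m • V1 B.dat, t • v = (m * y * m⁻¹) • v := by
  have hc : ∀ (x : H) (w : U), (m⁻¹ * x * m) • w = m⁻¹ • x • m • w := fun x w => by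
    rw [mul_smul, mul_smul]
  obtain ⟨y, hy, e⟩ := B.exists_y (t := m⁻¹ * t * m) (mul_mem (mul_mem (inv_mem hm) ht) hm) (X := m⁻¹ • X)
    (fun v hv => by
      have h3 := h1 _ (B.mem_smul.2 ⟨v, hv, rfl⟩)
      have h4 : br (m⁻¹ * t * m) v = m⁻¹ • br t (m • v) := by
        rw [br_def, br_def, hc, smul_sub, inv_smul_smul]
      rw [h4]
      exact AddSubgroup.smul_mem_pointwise_smul _ _ _ h3)
    (fun x hx => by
      obtain ⟨x', hx', rfl⟩ := (AddSubgroup.mem_smul_pointwise_iff_exists _ _ _).1 hx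
      rw [hc, smul_inv_smul, h2 _ hx'])
    (r := m⁻¹ * r * m) (B.nK' hm hr)
    (fun x hx => by
      obtain ⟨x', hx', rfl⟩ := (AddSubgroup.mem_smul_pointwise_iff_exists _ _ _).1 hx
      rw [hc, smul_inv_smul, hrX _ hx'])
    (by
      obtain ⟨v, hv, hne⟩ := hrV
      obtain ⟨w, hw, rfl⟩ := B.mem_smul.1 hv
      refine ⟨w, hw, fun h5 => hne ?_⟩
      rw [hc, inv_smul_eq_iff] at h5
      exact h5)
  refine ⟨y, hy, fun v hv => ?_⟩
  obtain ⟨w, hw, rfl⟩ := B.mem_smul.1 hv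
  have h5 := e w hw
  rw [hc, inv_smul_eq_iff] at h5
  rw [h5, mul_smul, mul_smul, inv_smul_smul]

/-- `C_V(C_{YM}(D))` -/
def fc (D : AddSubgroup U) : AddSubgroup U where
  carrier := {v | v ∈ V ∧ ∀ r ∈ B.YM, (∀ d ∈ D, r • d = d) → r • v = v}
  zero_mem' := ⟨zero_mem _, fun r _ _ => smul_zero r⟩
  add_mem' := by
    rintro a b ⟨ha, ha'⟩ ⟨hb, hb'⟩
    exact ⟨add_mem ha hb, fun r hr hD => by rw [smul_add, ha' r hr hD, hb' r hr hD]⟩
  neg_mem' := by
    rintro a ⟨ha, ha'⟩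
    exact ⟨neg_mem ha, fun r hr hD => by rw [smul_neg, ha' r hr hD]⟩

omit [Finite H] [Finite U] in
theorem mem_fc {D : AddSubgroup U} {v : U} :
    v ∈ B.fc D ↔ v ∈ V ∧ ∀ r ∈ B.YM, (∀ d ∈ D, r • d = d) → r • v = v := Iff.rfl

omit [Finite H] [Finite U] in
theorem fc_le (D : AddSubgroup U) : B.fc D ≤ V := fun _ hv => hv.1

omit [Finite H] [Finite U] in
theorem le_fc {D : AddSubgroup U} (hD : D ≤ V) : D ≤ B.fc D := fun _ hv => ⟨hD hv, fun _ _ h => h _ hv⟩

omit [Finite H] [Finite U] in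
theorem fc_mono {D D' : AddSubgroup U} (hD : D ≤ D') : B.fc D ≤ B.fc D' :=
  fun _ hv => ⟨hv.1, fun r hr h => hv.2 r hr fun d hd => h d (hD hd)⟩

/-- `m V₁` is bad: not contained in `fc D` -/
def Bad (D : AddSubgroup U) (m : H) : Prop := ∃ w ∈ m • V1 B.dat, w ∉ B.fc D

/-- the sum of the bad blocks -/
def bad (D : AddSubgroup U) : AddSubgroup U :=
  AddSubgroup.closure {v | ∃ m ∈ M, B.Bad D m ∧ v ∈ m • V1 B.dat}

omit [Finite H] [Finite U] in
theorem Bad_congr {D : AddSubgroup U} {m m' : H} (e : m • V1 B.dat = m' • V1 B.dat) (h : B.Bad D m) : B.Bad D m' := by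
  unfold Bad at *
  rwa [← e]

omit [Finite H] [Finite U] in
theorem bad_le_all (D : AddSubgroup U) : B.bad D ≤ B.all := by
  refine (AddSubgroup.closure_le _).2 ?_
  rintro v ⟨m, hm, -, hv⟩
  exact B.le_all hm hv

omit [Finite H] [Finite U] in
theorem bad_le (D : AddSubgroup U) : B.bad D ≤ V := (B.bad_le_all D).trans B.all_le

theorem le_bad_sup (D : AddSubgroup U) : V ≤ B.bad D ⊔ B.fc D := by
  intro v hv
  obtain ⟨a, ha, c, hc, hx, rfl⟩ := B.gen_dec hv
  refine add_mem ?_ (le_sup_right (a := B.bad D) (show c ∈ B.fc D from ⟨hc, fun r hr _ => hx r hr⟩))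
  have h1 : B.all ≤ B.bad D ⊔ B.fc D := by
    refine (AddSubgroup.closure_le _).2 ?_
    rintro w ⟨m, hm, hw⟩
    by_cases hb : B.Bad D m
    · exact le_sup_left (a := B.bad D) (AddSubgroup.subset_closure ⟨m, hm, hb, hw⟩)
    · refine le_sup_right (a := B.bad D) ?_
      by_contra hcon
      exact hb ⟨w, hw, hcon⟩
  exact h1 ha

variable {D : AddSubgroup U} {t : H}

/-- the product of the elements `m y m⁻¹` over a set of bad blocks -/
theorem exists_ys (ht : t ∈ M) (h1 : ∀ v ∈ V, br t v ∈ D) (h2 : ∀ d ∈ D, t • d = d) (s : Finset H) :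
    ∃ y ∈ B.YM,
      (∀ m ∈ M, (∃ m' ∈ s, m' ∈ M ∧ m' • V1 B.dat = m • V1 B.dat) → B.Bad D m → ∀ v ∈ m • V1 B.dat, y • v = t • v) ∧
      ∀ m ∈ M, ((¬ ∃ m' ∈ s, m' ∈ M ∧ m' • V1 B.dat = m • V1 B.dat) ∨ ¬ B.Bad D m) →
        ∀ v ∈ m • V1 B.dat, y • v = v := by
  classical
  induction s using Finset.induction_on with
  | empty =>
    refine ⟨1, one_mem _, ?_, fun _ _ _ _ _ => one_smul _ _⟩
    rintro m hm ⟨m', hm', -⟩
    simp at hm'
  | insert m0 s hm0s ih =>
    obtain ⟨y, hy, hy1, hy2⟩ := ih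
    by_cases hc : m0 ∈ M ∧ B.Bad D m0 ∧ ¬ ∃ m' ∈ s, m' ∈ M ∧ m' • V1 B.dat = m0 • V1 B.dat
    · obtain ⟨hm0, hb0, hn0⟩ := hc
      obtain ⟨w, hw, hwn⟩ := hb0
      have hwV := B.smul_V1_le hm0 hw
      have h3 : ∃ r ∈ B.YM, (∀ d ∈ D, r • d = d) ∧ r • w ≠ w := by
        by_contra hcon
        push Not at hcon
        exact hwn ⟨hwV, hcon⟩
      obtain ⟨r, hr, hrD, hrw⟩ := h3
      obtain ⟨y0, hy0, e0⟩ := B.exists_ym hm0 ht (fun v hv => h1 v (B.smul_V1_le hm0 hv)) h2 (B.YM_le hr) hrD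
        ⟨w, hw, hrw⟩
      refine ⟨m0 * y0 * m0⁻¹ * y, mul_mem (B.conj_mem_YM hm0 hy0) hy, ?_, ?_⟩
      · rintro m hm ⟨m', hm', hm'M, e'⟩ hbm v hv
        by_cases e : m0 • V1 B.dat = m • V1 B.dat
        · rw [mul_smul, hy2 m hm (Or.inl (by rwa [← e])) v hv, ← e0 v (by rwa [e])]
        · have h4 : m' ∈ s := by
            rcases Finset.mem_insert.1 hm' with rfl | h5
            · exact absurd e' e
            · exact h5
          rw [mul_smul, hy1 m hm ⟨m', h4, hm'M, e'⟩ hbm v hv]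
          refine B.cent hm0 hm e hy0 ?_
          rw [← hy1 m hm ⟨m', h4, hm'M, e'⟩ hbm v hv]
          exact B.smul_V1_K hm (B.YM_le hy) hv
      · intro m hm hor v hv
        have e : m0 • V1 B.dat ≠ m • V1 B.dat := by
          intro e
          rcases hor with h5 | h5
          · exact h5 ⟨m0, Finset.mem_insert_self _ _, hm0, e⟩
          · exact h5 (B.Bad_congr e ⟨w, hw, hwn⟩)
        have h6 : (¬ ∃ m' ∈ s, m' ∈ M ∧ m' • V1 B.dat = m • V1 B.dat) ∨ ¬ B.Bad D m := by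
          rcases hor with h5 | h5
          · left
            rintro ⟨m', h7, h8⟩
            exact h5 ⟨m', Finset.mem_insert_of_mem h7, h8⟩
          · exact Or.inr h5
        rw [mul_smul, hy2 m hm h6 v hv]
        exact B.cent hm0 hm e hy0 hv
    · refine ⟨y, hy, ?_, ?_⟩
      · rintro m hm ⟨m', hm', hm'M, e'⟩ hbm v hv
        rcases Finset.mem_insert.1 hm' with rfl | h5
        · have h6 : ∃ m'' ∈ s, m'' ∈ M ∧ m'' • V1 B.dat = m • V1 B.dat := by
            by_contra hcon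
            exact hc ⟨hm'M, B.Bad_congr e'.symm hbm, by rwa [e']⟩
          exact hy1 m hm h6 hbm v hv
        · exact hy1 m hm ⟨m', h5, hm'M, e'⟩ hbm v hv
      · intro m hm hor v hv
        refine hy2 m hm ?_ v hv
        rcases hor with h5 | h5
        · left
          rintro ⟨m', h7, h8⟩
          exact h5 ⟨m', Finset.mem_insert_of_mem h7, h8⟩
        · exact Or.inr h5

/-- an element of `m V₁` in `rest m + C(YM)` is zero -/
theorem block_sep {m : H} (hm : m ∈ M) {x b c : U} (hx : x ∈ m • V1 B.dat) (hb : b ∈ B.rest m)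
    (hc : ∀ r ∈ B.YM, r • c = c) (e : x = b + c) : x = 0 := by
  have h1 : c ∈ B.all := by
    have e1 : c = x - b := by rw [e]; abel
    rw [e1]
    exact sub_mem (B.le_all hm hx) (B.rest_le_all m hb)
  have h2 : c = 0 := B.all_sep h1 fun m' hm' k hk => hc _ (B.conj_mem_YM hm' hk)
  rw [h2, add_zero] at e
  have h3 : x ∈ m • V1 B.dat ⊓ B.rest m := AddSubgroup.mem_inf.2 ⟨hx, e ▸ hb⟩
  rwa [B.indep hm, AddSubgroup.mem_bot] at h3

/-- `t` agrees on the bad blocks with an element of `YM` which fixes `D` and the good blocks -/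
theorem exists_yD (ht : t ∈ M) (h1 : ∀ v ∈ V, br t v ∈ D) (h2 : ∀ d ∈ D, t • d = d) (hD : D ≤ V) :
    ∃ y ∈ B.YM, (∀ v ∈ B.bad D, y • v = t • v) ∧ (∀ d ∈ D, y • d = d) ∧ ∀ v ∈ B.bad D, y⁻¹ • v ∈ B.bad D := by
  classical
  have := Fintype.ofFinite H
  obtain ⟨y, hy, hy1, hy2⟩ := B.exists_ys ht h1 h2 Finset.univ
  have hyK := B.YM_le hy
  have hy1' : ∀ m ∈ M, B.Bad D m → ∀ v ∈ m • V1 B.dat, y • v = t • v := fun m hm hb =>
    hy1 m hm ⟨m, Finset.mem_univ _, hm, rfl⟩ hb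
  have hy2' : ∀ m ∈ M, ¬ B.Bad D m → ∀ v ∈ m • V1 B.dat, y • v = v := fun m hm hb => hy2 m hm (Or.inr hb)
  refine ⟨y, hy, ?_, ?_, ?_⟩
  · intro v hv
    induction hv using AddSubgroup.closure_induction with
    | mem v hv =>
      obtain ⟨m, hm, hb, hv⟩ := hv
      exact hy1' m hm hb v hv
    | zero => rw [smul_zero, smul_zero]
    | add a b _ _ ha hb => rw [smul_add, smul_add, ha, hb]
    | neg a _ ha => rw [smul_neg, smul_neg, ha]
  · intro d hd
    obtain ⟨a, ha, c, hc, hx, rfl⟩ := B.gen_dec (hD hd)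
    have h3 : y • a - a = 0 := by
      refine B.all_sep' (sub_mem (B.all_M (B.KM hyK) ha) ha) fun m hm => ?_
      obtain ⟨a1, ha1, b1, hb1, rfl⟩ := B.mem_all ha m
      have h4 : y • a1 = a1 := by
        by_cases hb : B.Bad D m
        swap
        · exact hy2' m hm hb a1 ha1
        have h5 := hy1' m hm hb a1 ha1
        have h6 : (t * m) • V1 B.dat = m • V1 B.dat := by
          rw [mul_smul]
          refine AddSubgroup.eq_of_le_of_card_ge ?_ (card_smul t _).ge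
          intro v hv
          obtain ⟨w, hw, rfl⟩ := (AddSubgroup.mem_smul_pointwise_iff_exists _ _ _).1 hv
          rw [← hy1' m hm hb w hw]
          exact B.smul_V1_K hm hyK hw
        have h7 : t • b1 ∈ B.rest m := by
          have h8 := B.smul_rest ht hb1
          rwa [B.rest_congr h6] at h8
        have h9 : ∀ r ∈ B.YM, r • (t • c) = t • c := by
          intro r hr
          have h10 := hx _ (B.YM_conj (inv_mem ht) hr)
          rw [inv_inv, mul_smul, mul_smul, inv_smul_eq_iff] at h10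
          exact h10
        have h11 := h2 _ hd
        rw [smul_add, smul_add] at h11
        have h12 : t • a1 - a1 = 0 := by
          refine B.block_sep hm (x := t • a1 - a1) (b := b1 - t • b1) (c := c - t • c) (sub_mem ?_ ha1)
            (sub_mem hb1 h7) (fun r hr => by rw [smul_sub, hx r hr, h9 r hr]) ?_
          · rw [← h5]
            exact B.smul_V1_K hm hyK ha1
          · have h13 : t • a1 = a1 + b1 + c - t • b1 - t • c := by
              rw [← h11]
              abel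
            rw [h13]
            abel
        rw [h5]
        exact sub_eq_zero.1 h12
      have e : y • (a1 + b1) - (a1 + b1) = y • b1 - b1 := by
        rw [smul_add, h4]
        abel
      rw [e]
      exact sub_mem (B.rest_K hm hyK hb1) hb1
    rw [smul_add, hx y hy, sub_eq_zero.1 h3]
  · intro v hv
    induction hv using AddSubgroup.closure_induction with
    | mem v hv =>
      obtain ⟨m, hm, hb, hv⟩ := hv
      exact AddSubgroup.subset_closure ⟨m, hm, hb, B.smul_V1_K hm (inv_mem hyK) hv⟩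
    | zero => rw [smul_zero]; exact zero_mem _
    | add a b _ _ ha hb => rw [smul_add]; exact add_mem ha hb
    | neg a _ ha => rw [smul_neg]; exact neg_mem ha

/-- **LEMMA T2**, the local part -/
theorem t2 (ht : t ∈ M) (h1 : ∀ v ∈ V, br t v ∈ D) (h2 : ∀ d ∈ D, t • d = d) (hD : D ≤ V) :
    (∀ v ∈ B.bad D, v ∈ B.fc D → t • v = v) ∧
      ∃ m ∈ M, (∀ v ∈ B.bad D, m • v = v) ∧ ∀ v ∈ B.fc D, m • v = t • v := by
  obtain ⟨y, hy, hy1, hyD, hy3⟩ := B.exists_yD ht h1 h2 hD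
  refine ⟨fun v hv hv' => ?_, t * y⁻¹, mul_mem ht (inv_mem (B.KM (B.YM_le hy))), fun v hv => ?_, fun v hv => ?_⟩
  · rw [← hy1 v hv]
    exact hv'.2 y hy hyD
  · rw [mul_smul, ← hy1 _ (hy3 v hv), smul_inv_smul]
  · rw [mul_smul]
    congr 1
    rw [inv_smul_eq_iff]
    exact (hv.2 y hy hyD).symm

/-- `fc (C_V(S)) = C_V(S ∩ YM)` -/
theorem fc_fx {Z : AddSubgroup U} (hZ : ∀ z, z ∈ Z ↔ z ∈ V ∧ ∀ s ∈ S, s • z = z) {v : U} :
    v ∈ B.fc Z ↔ v ∈ V ∧ ∀ s ∈ S, s ∈ B.YM → s • v = v := by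
  constructor
  · rintro ⟨hv, h3⟩
    exact ⟨hv, fun s hs hsY => h3 s hsY fun d hd => ((hZ d).1 hd).2 s hs⟩
  · rintro ⟨hv, h3⟩
    exact ⟨hv, fun r hr hrZ => B.hX hr (fun z hz hzS => hrZ z ((hZ z).2 ⟨hz, hzS⟩)) hv h3⟩

/-- `C_V(Q) = F` -/
theorem mem_F {v : U} (hv : v ∈ V) (hQ : ∀ d ∈ Q, d • v = v) : v ∈ F := by
  obtain ⟨a, f, haf⟩ := B.dat.mdl.V_span hv
  by_cases ha : a ∈ B.dat.AZM
  · obtain ⟨u, rfl⟩ := B.dat.mdl.psi_surj f
    have h3 := B.dat.mdl.inF a ha u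
    rw [Mdl.psi_apply] at haf
    have e : v = (v - B.dat.bt a u) + B.dat.bt a u := by abel
    rw [e]
    exact add_mem haf h3
  obtain ⟨s, hs, hs0⟩ := B.dat.mdl.ne
  obtain ⟨d, hd, e⟩ := B.dat.mdl.surj a ha s hs
  have hdQ : (d : H) ∈ Q := mem_subgroupOf.1 hd
  have h3 : (f : AM B.dat →+ U) s = 0 := by
    rw [← e, map_sub, f.2]
    have h4 := B.dat.mdl.qF d hd _ haf
    have h5 : d • v = v := hQ _ hdQ
    rw [smul_sub, h5] at h4
    have h6 : d • (f : AM B.dat →+ U) a = (f : AM B.dat →+ U) a := by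
      have h7 := congrArg (fun x => v - x) h4
      simpa using h7
    rw [h6, sub_self]
  have h4 : f = 0 := HomY.eq_zero h3 hs0
  rw [h4] at haf
  have h5 : ((0 : HomY Y (AM B.dat) U) : AM B.dat →+ U) a = 0 := rfl
  rwa [h5, sub_zero] at haf

/-- `fc F = F` -/
theorem fc_F : B.fc F = F := by
  refine le_antisymm (fun v hv => B.mem_F hv.1 fun d hd => hv.2 d ?_ fun f hf => B.dat.qF d hd f hf) (B.le_fc B.dat.FV)
  have h3 := B.conj_mem_YM (M.one_mem) (B.dat.QY hd)
  rwa [one_mul, inv_one, mul_one] at h3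

end Blk0

end Cfsg.Agent.Omega.NO3b.Exit.BlkZ

end

section


/-!
# NotFFG, the base point: LEMMA T2 over a family of blocks (helper255, bb 23362)

`Fa : Fam W M 𝒴` (helper957) and `gas` : `W = sm W 𝒴 + C_W(RR 𝒴)`.

* `sm W 𝒴 = Σ [W, Y]`, `rst W 𝒴 Y = Σ_{Y' ≠ Y} [W, Y']`; `Fam.sep`, `Fam.comp_ne`;
* `fcl 𝒴 D` : `C_W(C_{RR}(D))`; `bd 𝒴 D` : the sum of the blocks which are not contained in `fcl 𝒴 D`;
* **`Fam.tt`** : `t ∈ M`, `[W, t] ≤ D ≤ C_W(t)`: some `y ∈ RR 𝒴` is equal to `t` on `bd 𝒴 D` and trivial on `D`;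
* **`Fam.fcl_fx`** : `fcl (C_W(S)) = C_W(S ∩ RR 𝒴)`; `fcl_flat` : `fcl F = F` for `F = C_W(Q)`, `Q ≤ Y`.
-/

set_option autoImplicit false
set_option linter.unusedSectionVars false

namespace Cfsg.Agent.Omega.NO3b.BasePt

open Subgroup
open Cfsg.Agent.Omega.NO3b.Exit Cfsg.Agent.Omega.NO3b.Exit.Ten Cfsg.Agent.Omega.NO3b.Exit.Descent
open Cfsg.Agent.Omega.NO3b.Exit.TBlk (Sn)
open Cfsg.Agent.Omega.NO3b.Exit.BlkZ (exists_of_sq sn_odd)
open Cfsg.Agent.Omega.FF.Basic (fx mem_fx)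
open scoped Pointwise

universe u v w

section one

variable {Γ : Type u} [Group Γ] {W : Type v} [AddCommGroup W] [DistribMulAction Γ W]
variable {Y : Subgroup Γ} {A : Type w} [AddCommGroup A] [Finite A] [DistribMulAction Y A] [hI : IsIrr Y A]

theorem img_ind {P : W → Prop} (h0 : P 0) (hadd : ∀ a b, P a → P b → P (a + b)) (hneg : ∀ a, P a → P (-a))
    (hom : ∀ (f : HomY Y A W) (a : A), P ((f : A →+ W) a)) {v : W} (hv : v ∈ img Y A W) : P v := by
  induction hv using AddSubgroup.closure_induction with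
  | mem v hv =>
    obtain ⟨f, a, rfl⟩ := hv
    exact hom f a
  | zero => exact h0
  | add a b _ _ ha hb => exact hadd a b ha hb
  | neg a _ ha => exact hneg a ha

/-- One block: `t` normalises `Y`, `[A ⊗ E, t] ≤ X ≤ C(t)` and some `r ∈ Y` fixes `X` and moves `A`: `t` acts on
`A ⊗ E` as an element of `Y`. -/
theorem exists_blkT [Finite W] (htv : AllTv Y A) (hne : ∃ f : HomY Y A W, f ≠ 0) {t : Γ}
    (hn : ∀ k ∈ Y, t⁻¹ * k * t ∈ Y) {X : AddSubgroup W} (h1 : ∀ v ∈ img Y A W, t • v - v ∈ X)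
    (h2 : ∀ x ∈ X, t • x = x) {r : Y} (hrX : ∀ x ∈ X, r • x = x) (hrA : ∃ a : A, r • a ≠ a) :
    ∃ y : Y, ∀ v ∈ img Y A W, t • v = y • v := by
  classical
  obtain ⟨a0, ha0⟩ := hrA
  let tk : Y → Y := fun k => ⟨t⁻¹ * (k : Γ) * t, hn k k.2⟩
  have htk : ∀ (k : Y) (w : W), k • t • w = t • tk k • w := fun k w => by
    change (k : Γ) • t • w = t • (t⁻¹ * (k : Γ) * t) • w
    rw [smul_smul, smul_smul]
    congr 1
    group
  -- the lines
  have line : ∀ f : HomY Y A W, f ≠ 0 → ∀ a : A, ∃ a' : A, t • (f : A →+ W) a = (f : A →+ W) a' := by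
    intro f hf
    let N : AddSubgroup A :=
      { carrier := {a | ∃ a', t • (f : A →+ W) a' = (f : A →+ W) a}
        zero_mem' := ⟨0, by rw [map_zero, smul_zero]⟩
        add_mem' := by
          rintro a b ⟨a', ha⟩ ⟨b', hb⟩
          exact ⟨a' + b', by rw [map_add, smul_add, ha, hb, map_add]⟩
        neg_mem' := by
          rintro a ⟨a', ha⟩
          exact ⟨-a', by rw [map_neg, smul_neg, ha, map_neg]⟩ }
    have hN : N = ⊤ := by
      rcases hI.irr N (fun k n hn' => by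
        obtain ⟨n', hn'⟩ := hn'
        exact ⟨tk k • n', by rw [f.2, f.2, ← hn', htk]⟩) with h3 | h3
      · exfalso
        have h4 : r • a0 - a0 ∈ N := by
          refine ⟨tk r • a0 - a0, ?_⟩
          have h5 := hrX _ (h1 _ (mem_img f a0))
          rw [smul_sub, ← f.2, htk, ← f.2] at h5
          rw [map_sub, map_sub, smul_sub]
          exact sub_eq_sub_iff_sub_eq_sub.1 h5
        rw [h3, AddSubgroup.mem_bot, sub_eq_zero] at h4
        exact ha0 h4
      · exact h3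
    have h3 : ∀ a : A, ∃ a', t • (f : A →+ W) a' = (f : A →+ W) a := fun a => by
      have h4 : a ∈ N := by rw [hN]; trivial
      exact h4
    choose θ hθ using h3
    have hinj : Function.Injective θ := fun a b e => HomY.inj hf (by rw [← hθ a, ← hθ b, e])
    have hbij := Finite.injective_iff_bijective.1 hinj
    intro a
    obtain ⟨c, rfl⟩ := hbij.2 a
    exact ⟨c, hθ c⟩
  -- a fixed line
  obtain ⟨f, hf⟩ := hne
  choose g hg using line f hf
  have hfi := HomY.inj hf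
  have hgadd : ∀ a b, g (a + b) = g a + g b := fun a b => hfi (by rw [← hg, map_add, smul_add, hg, hg, map_add])
  have hginj : Function.Injective g := fun a b e => hfi (smul_left_cancel t (by rw [hg, hg, e]))
  have hgsurj := (Finite.injective_iff_bijective.1 hginj).2
  have hgr : ∀ a, r • (g a - a) = g a - a := by
    intro a
    apply hfi
    have h5 := hrX _ (h1 _ (mem_img f a))
    rw [hg, ← map_sub, ← f.2] at h5
    exact h5
  have hgk : ∀ (k : Y) (a : A), k • g a = g (tk k • a) := by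
    intro k a
    apply hfi
    rw [← hg, f.2, ← hg, htk, ← f.2]
  have hglin : ∀ (κ : KK Y A) (a : A), g (κ • a) = κ • g a := by
    intro κ
    have hgs := hgsurj
    choose gi hgi using hgs
    have hgi' : ∀ a, gi (g a) = a := fun a => hginj (hgi _)
    have hgiadd : ∀ a b, gi (a + b) = gi a + gi b := fun a b => hginj (by rw [hgi, hgadd, hgi, hgi])
    let κ' : KK Y A := KK.mk Y A
      (AddMonoidHom.mk' (fun a => g (κ • gi a)) fun a b => by rw [hgiadd, smul_add, hgadd]) (by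
        intro k a
        change g (κ • gi (k • a)) = k • g (κ • gi a)
        have h5 := hgk k (gi a)
        rw [hgi] at h5
        rw [h5, hgi', hgk, KK.smul_smul_comm])
    have hκ' : ∀ a, κ' • g a = g (κ • a) := fun a => by
      change g (κ • gi (g a)) = g (κ • a)
      rw [hgi']
    by_cases he : κ' = κ
    · intro a
      rw [← hκ', he]
    exfalso
    have h5 : ∀ a : A, r • ((κ' - κ) • g a) = (κ' - κ) • g a := by
      intro a
      have e : (κ' - κ) • g a = (g (κ • a) - κ • a) - κ • (g a - a) := by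
        rw [sub_smul, hκ', smul_sub]
        abel
      rw [e, smul_sub, hgr, ← KK.smul_smul_comm, hgr]
    have h6 : κ' - κ ≠ 0 := sub_ne_zero.2 he
    apply ha0
    obtain ⟨c, hc⟩ := hgsurj ((κ' - κ)⁻¹ • a0)
    have h7 := h5 c
    rw [hc, smul_smul, mul_inv_cancel₀ h6, one_smul] at h7
    exact h7
  let gl : A →ₗ[KK Y A] A :=
    { toFun := g
      map_add' := hgadd
      map_smul' := fun κ a => by rw [RingHom.id_apply]; exact hglin κ a }
  have all : ∀ (f' : HomY Y A W) (a : A), t • (f' : A →+ W) a = (f' : A →+ W) (g a) := by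
    intro f' a
    by_cases hf' : ∃ κ : KK Y A, f' = κ • f
    · obtain ⟨κ, rfl⟩ := hf'
      rw [HomY.smul_apply, HomY.smul_apply, hg, hglin]
    have hf'0 : f' ≠ 0 := by
      rintro rfl
      exact hf' ⟨0, by rw [zero_smul]⟩
    have hsum0 : f + f' ≠ 0 := by
      intro e
      apply hf'
      refine ⟨-1, ?_⟩
      rw [neg_smul, one_smul]
      exact (neg_eq_of_add_eq_zero_right e).symm
    obtain ⟨c, hc⟩ := line (f + f') hsum0 a
    obtain ⟨d, hd⟩ := line f' hf'0 a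
    have h5 : (f : A →+ W) (c - g a) = (f' : A →+ W) (d - c) := by
      have h6 : ((f + f' : HomY Y A W) : A →+ W) a = (f : A →+ W) a + (f' : A →+ W) a := rfl
      have h7 : ((f + f' : HomY Y A W) : A →+ W) c = (f : A →+ W) c + (f' : A →+ W) c := rfl
      rw [h6, smul_add, hg, hd, h7] at hc
      rw [map_sub, map_sub, sub_eq_sub_iff_add_eq_add, ← hc]
      abel
    have h8 : c - g a = 0 := by
      by_contra hne
      obtain ⟨κ, hκ⟩ := HomY.fact h5 hne
      have hκ0 : κ ≠ 0 := by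
        rintro rfl
        rw [zero_smul] at hκ
        exact hf hκ
      exact hf' ⟨κ⁻¹, by rw [hκ, smul_smul, inv_mul_cancel₀ hκ0, one_smul]⟩
    rw [h8, map_zero] at h5
    have h9 : d - c = 0 := by
      by_contra hne
      exact hf'0 (HomY.eq_zero h5.symm hne)
    rw [hd, sub_eq_zero.1 h9, sub_eq_zero.1 h8]
  obtain ⟨y, hy⟩ := exists_of_sq htv gl (by
    intro a
    change g (g a - a) = g a - a
    apply hfi
    rw [← hg]
    have h5 := h2 _ (h1 _ (mem_img f a))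
    rw [hg, ← map_sub] at h5
    exact h5)
  refine ⟨y, fun v hv => ?_⟩
  refine img_ind (P := fun v => t • v = y • v) (by rw [smul_zero, smul_zero])
    (fun a b ha hb => by rw [smul_add, smul_add, ha, hb]) (fun a ha => by rw [smul_neg, smul_neg, ha])
    (fun f' a => ?_) hv
  rw [all, ← f'.2, hy]
  rfl

/-- `Y` moves `A` -/
theorem exists_move (htv : AllTv Y A) (hd : 2 ≤ Module.finrank (KK Y A) A) : ∃ (y : Y) (a : A), y • a ≠ a := by
  classical
  have : Module.Finite (KK Y A) A := Module.Finite.of_finite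
  let b := Module.finBasis (KK Y A) A
  let i : Fin (Module.finrank (KK Y A) A) := ⟨0, by omega⟩
  let j : Fin (Module.finrank (KK Y A) A) := ⟨1, by omega⟩
  have hij : i ≠ j := by simp [i, j, Fin.ext_iff]
  obtain ⟨y, hy⟩ := htv (b.coord i) (b j) (by
    rw [Module.Basis.coord_apply, Module.Basis.repr_self, Finsupp.single_apply, if_neg hij.symm])
  refine ⟨y, b i, fun h => ?_⟩
  rw [hy, Module.Basis.coord_apply, Module.Basis.repr_self, Finsupp.single_apply, if_pos rfl, one_smul] at h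
  exact b.ne_zero j (left_eq_add.1 h.symm)

/-- an element of `A ⊗ E` fixed by `Y` is zero -/
theorem img_fix [Finite W] (htv : AllTv Y A) (hd : 2 ≤ Module.finrank (KK Y A) A) {v : W} (hv : v ∈ img Y A W)
    (hf : ∀ y : Y, y • v = v) : v = 0 := by
  classical
  obtain ⟨d, f, hfi, hco⟩ := exists_coord (Y := Y) (A := A) (U := W)
  obtain ⟨a, rfl⟩ := hco v hv
  have h1 : ∀ y : Y, ∀ i, y • a i = a i := by
    intro y i
    have h2 := hf y
    rw [Finset.smul_sum] at h2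
    have h3 := HomY.ind hfi Finset.univ (fun i => y • a i - a i) (by
      rw [← sub_eq_zero.2 h2, ← Finset.sum_sub_distrib]
      exact Finset.sum_congr rfl fun i _ => by rw [map_sub, (f i).2]) i (Finset.mem_univ _)
    exact sub_eq_zero.1 h3
  refine Finset.sum_eq_zero fun i _ => ?_
  let N : AddSubgroup A :=
    { carrier := {x | ∀ y : Y, y • x = x}
      zero_mem' := fun y => smul_zero y
      add_mem' := fun {x z} hx hz y => by rw [smul_add, hx y, hz y]
      neg_mem' := fun {x} hx y => by rw [smul_neg, hx y] }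
  rcases hI.irr N (fun k n hn y => by rw [hn k, hn y]) with h | h
  · have h3 : a i ∈ N := fun y => h1 y i
    rw [h, AddSubgroup.mem_bot] at h3
    rw [h3, map_zero]
  · exfalso
    obtain ⟨y, x, hx⟩ := exists_move htv hd
    have h3 : x ∈ N := by rw [h]; trivial
    exact hx (h3 y)

end one

/-! ### the family -/

variable {Γ : Type u} [Group Γ] {W : Type v} [AddCommGroup W] [DistribMulAction Γ W]

variable (W) in
/-- the sum of the blocks -/
def sm (𝒴 : Set (Subgroup Γ)) : AddSubgroup W := AddSubgroup.closure {v | ∃ Y ∈ 𝒴, v ∈ cm W Y}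

variable (W) in
/-- the sum of the blocks different from `[W, Y]` -/
def rst (𝒴 : Set (Subgroup Γ)) (Y : Subgroup Γ) : AddSubgroup W :=
  AddSubgroup.closure {v | ∃ Y' ∈ 𝒴, Y' ≠ Y ∧ v ∈ cm W Y'}

theorem br_mem_cm {Y : Subgroup Γ} {y : Γ} (hy : y ∈ Y) (w : W) : y • w - w ∈ cm W Y :=
  AddSubgroup.subset_closure ⟨y, hy, w, rfl⟩

/-- `m [W, Y] = [W, m Y m⁻¹]` -/
theorem smul_cm {Y : Subgroup Γ} (m : Γ) {v : W} (hv : v ∈ cm W Y) :
    m • v ∈ cm W (Y.map (MulAut.conj m).toMonoidHom) := by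
  induction hv using AddSubgroup.closure_induction with
  | mem v hv =>
    obtain ⟨y, hy, w, rfl⟩ := hv
    refine AddSubgroup.subset_closure ⟨m * y * m⁻¹, ⟨y, hy, rfl⟩, m • w, ?_⟩
    rw [smul_sub, smul_smul, smul_smul, inv_mul_cancel_right]
  | zero => rw [smul_zero]; exact zero_mem _
  | add a b _ _ ha hb => rw [smul_add]; exact add_mem ha hb
  | neg a _ ha => rw [smul_neg]; exact neg_mem ha

theorem smul_cm_self {Y : Subgroup Γ} {y : Γ} (hy : y ∈ Y) {v : W} (hv : v ∈ cm W Y) : y • v ∈ cm W Y := by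
  have e : y • v = (y • v - v) + v := by abel
  rw [e]
  exact add_mem (br_mem_cm hy v) hv

theorem cm_le_sm {𝒴 : Set (Subgroup Γ)} {Y : Subgroup Γ} (hY : Y ∈ 𝒴) : cm W Y ≤ sm W 𝒴 :=
  fun _ hv => AddSubgroup.subset_closure ⟨Y, hY, hv⟩

theorem cm_le_rst {𝒴 : Set (Subgroup Γ)} {Y Y' : Subgroup Γ} (hY : Y' ∈ 𝒴) (hne : Y' ≠ Y) :
    cm W Y' ≤ rst W 𝒴 Y := fun _ hv => AddSubgroup.subset_closure ⟨Y', hY, hne, hv⟩

theorem rst_le_sm (𝒴 : Set (Subgroup Γ)) (Y : Subgroup Γ) : rst W 𝒴 Y ≤ sm W 𝒴 :=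
  AddSubgroup.closure_mono (by rintro v ⟨Y', hY', -, hv⟩; exact ⟨Y', hY', hv⟩)

theorem sm_dec {𝒴 : Set (Subgroup Γ)} (Y : Subgroup Γ) {v : W} (hv : v ∈ sm W 𝒴) :
    ∃ a ∈ cm W Y, ∃ b ∈ rst W 𝒴 Y, v = a + b := by
  classical
  induction hv using AddSubgroup.closure_induction with
  | mem v hv =>
    obtain ⟨Y', hY', hv⟩ := hv
    by_cases e : Y' = Y
    · exact ⟨v, e ▸ hv, 0, zero_mem _, (add_zero v).symm⟩
    · exact ⟨0, zero_mem _, v, cm_le_rst hY' e hv, (zero_add v).symm⟩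
  | zero => exact ⟨0, zero_mem _, 0, zero_mem _, (add_zero 0).symm⟩
  | add a b _ _ ha hb =>
    obtain ⟨a1, ha1, a2, ha2, rfl⟩ := ha
    obtain ⟨b1, hb1, b2, hb2, rfl⟩ := hb
    exact ⟨a1 + b1, add_mem ha1 hb1, a2 + b2, add_mem ha2 hb2, by abel⟩
  | neg a _ ha =>
    obtain ⟨a1, ha1, a2, ha2, rfl⟩ := ha
    exact ⟨-a1, neg_mem ha1, -a2, neg_mem ha2, by abel⟩

theorem IsBlk.fix [Finite W] {Y : Subgroup Γ} (b : IsBlk W Y) {v : W} (hv : v ∈ cm W Y)
    (hf : ∀ y ∈ Y, y • v = v) : v = 0 := by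
  obtain ⟨A, _, _, _, _, htv, -, e, h2, -⟩ := b.ex
  rw [e] at hv
  exact img_fix htv h2 hv fun y => hf y y.2

namespace Fam

variable {M : Subgroup Γ} {𝒴 : Set (Subgroup Γ)} (Fa : Fam W M 𝒴)
include Fa

theorem triv_rst {Y : Subgroup Γ} (hY : Y ∈ 𝒴) {y : Γ} (hy : y ∈ Y) {v : W} (hv : v ∈ rst W 𝒴 Y) : y • v = v := by
  induction hv using AddSubgroup.closure_induction with
  | mem v hv =>
    obtain ⟨Y', hY', hne, hv⟩ := hv
    exact Fa.triv Y hY Y' hY' (Ne.symm hne) y hy v hv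
  | zero => exact smul_zero y
  | add a b _ _ ha hb => rw [smul_add, ha, hb]
  | neg a _ ha => rw [smul_neg, ha]

/-- an element of `RR` acts on a block as an element of `Y` -/
theorem RR_cm {r : Γ} (hr : r ∈ RR 𝒴) : ∀ Y ∈ 𝒴, ∃ y ∈ Y, ∀ v ∈ cm W Y, r • v = y • v := by
  let K : Subgroup Γ :=
    { carrier := {r | ∀ Y ∈ 𝒴, ∃ y ∈ Y, ∀ v ∈ cm W Y, r • v = y • v}
      one_mem' := fun Y _ => ⟨1, one_mem _, fun v _ => rfl⟩
      mul_mem' := by
        intro a b ha hb Y hY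
        obtain ⟨x, hx, hxv⟩ := ha Y hY
        obtain ⟨y, hy, hyv⟩ := hb Y hY
        exact ⟨x * y, mul_mem hx hy, fun v hv => by rw [mul_smul, hyv v hv, hxv _ (smul_cm_self hy hv), mul_smul]⟩
      inv_mem' := by
        intro a ha Y hY
        obtain ⟨x, hx, hxv⟩ := ha Y hY
        refine ⟨x⁻¹, inv_mem hx, fun v hv => ?_⟩
        rw [inv_smul_eq_iff, hxv _ (smul_cm_self (inv_mem hx) hv), smul_inv_smul] }
  have h1 : RR 𝒴 ≤ K := by
    refine sSup_le fun Y' hY' r hr Y hY => ?_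
    by_cases e : Y' = Y
    · subst e
      exact ⟨r, hr, fun v _ => rfl⟩
    · exact ⟨1, one_mem _, fun v hv => by rw [one_smul, Fa.triv Y' hY' Y hY e r hr v hv]⟩
  exact h1 hr

theorem smul_cm_RR {r : Γ} (hr : r ∈ RR 𝒴) {Y : Subgroup Γ} (hY : Y ∈ 𝒴) {v : W} (hv : v ∈ cm W Y) :
    r • v ∈ cm W Y := by
  obtain ⟨y, hy, hyv⟩ := Fa.RR_cm hr Y hY
  rw [hyv v hv]
  exact smul_cm_self hy hv

theorem smul_rst_RR {r : Γ} (hr : r ∈ RR 𝒴) {Y : Subgroup Γ} {v : W} (hv : v ∈ rst W 𝒴 Y) :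
    r • v ∈ rst W 𝒴 Y := by
  induction hv using AddSubgroup.closure_induction with
  | mem v hv =>
    obtain ⟨Y', hY', hne, hv⟩ := hv
    exact AddSubgroup.subset_closure ⟨Y', hY', hne, Fa.smul_cm_RR hr hY' hv⟩
  | zero => rw [smul_zero]; exact zero_mem _
  | add a b _ _ ha hb => rw [smul_add]; exact add_mem ha hb
  | neg a _ ha => rw [smul_neg]; exact neg_mem ha

theorem smul_sm_RR {r : Γ} (hr : r ∈ RR 𝒴) {v : W} (hv : v ∈ sm W 𝒴) : r • v ∈ sm W 𝒴 := by
  induction hv using AddSubgroup.closure_induction with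
  | mem v hv =>
    obtain ⟨Y', hY', hv⟩ := hv
    exact AddSubgroup.subset_closure ⟨Y', hY', Fa.smul_cm_RR hr hY' hv⟩
  | zero => rw [smul_zero]; exact zero_mem _
  | add a b _ _ ha hb => rw [smul_add]; exact add_mem ha hb
  | neg a _ ha => rw [smul_neg]; exact neg_mem ha

theorem RR_le : RR 𝒴 ≤ M := sSup_le Fa.le

theorem smul_rst {t : Γ} (ht : t ∈ M) {Y : Subgroup Γ} (hn : Y.map (MulAut.conj t).toMonoidHom = Y) {v : W}
    (hv : v ∈ rst W 𝒴 Y) : t • v ∈ rst W 𝒴 Y := by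
  induction hv using AddSubgroup.closure_induction with
  | mem v hv =>
    obtain ⟨Y', hY', hne, hv⟩ := hv
    refine AddSubgroup.subset_closure ⟨_, Fa.conj Y' hY' t ht, fun e => hne ?_, smul_cm t hv⟩
    exact Subgroup.map_injective (MulAut.conj t).injective (e.trans hn.symm)
  | zero => rw [smul_zero]; exact zero_mem _
  | add a b _ _ ha hb => rw [smul_add]; exact add_mem ha hb
  | neg a _ ha => rw [smul_neg]; exact neg_mem ha

theorem RR_conj {m r : Γ} (hm : m ∈ M) (hr : r ∈ RR 𝒴) : m * r * m⁻¹ ∈ RR 𝒴 := by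
  have h1 : RR 𝒴 ≤ (RR 𝒴).comap (MulAut.conj m).toMonoidHom := by
    refine sSup_le fun Y hY y hy => ?_
    exact (le_sSup (Fa.conj Y hY m hm) : _ ≤ RR 𝒴) ⟨y, hy, rfl⟩
  exact h1 hr

theorem indep [Finite W] {Y : Subgroup Γ} (hY : Y ∈ 𝒴) {v : W} (hv : v ∈ cm W Y) (hv' : v ∈ rst W 𝒴 Y) : v = 0 :=
  (Fa.blk Y hY).fix hv fun _ hy => Fa.triv_rst hY hy hv'

/-- an element of `sm` fixed by all `Y` is zero -/
theorem sep [Finite Γ] [Finite W] {v : W} (hv : v ∈ sm W 𝒴) (hf : ∀ Y ∈ 𝒴, ∀ y ∈ Y, y • v = v) : v = 0 := by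
  classical
  have hfin : Finite (Subgroup Γ) := inferInstance
  let A : Finset (Subgroup Γ) → AddSubgroup W := fun T =>
    AddSubgroup.closure {v | ∃ Y ∈ T, Y ∈ 𝒴 ∧ v ∈ cm W Y}
  have key : ∀ T : Finset (Subgroup Γ), ∀ v ∈ A T, (∀ Y ∈ 𝒴, ∀ y ∈ Y, y • v = v) → v = 0 := by
    intro T
    induction T using Finset.induction with
    | empty =>
      intro v hv _
      have h1 : A ∅ ≤ ⊥ := (AddSubgroup.closure_le _).2 (by
        rintro v ⟨Y, hY, -⟩
        exact absurd hY (Finset.notMem_empty _))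
      exact AddSubgroup.mem_bot.1 (h1 hv)
    | insert Y T hYT ih =>
      intro v hv hf
      have hdec : ∀ v ∈ A (insert Y T), ∃ w v', v = w + v' ∧ v' ∈ A T ∧ w ∈ cm W Y ∧ (w ≠ 0 → Y ∈ 𝒴) := by
        intro y hy
        induction hy using AddSubgroup.closure_induction with
        | mem y hy =>
          obtain ⟨Y', hY', hm, hyW⟩ := hy
          rcases Finset.mem_insert.1 hY' with hY' | hY'
          · rw [hY'] at hm hyW
            exact ⟨y, 0, (add_zero y).symm, zero_mem _, hyW, fun _ => hm⟩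
          · exact ⟨0, y, (zero_add y).symm, AddSubgroup.subset_closure ⟨Y', hY', hm, hyW⟩, zero_mem _,
              fun h => absurd rfl h⟩
        | zero => exact ⟨0, 0, (add_zero 0).symm, zero_mem _, zero_mem _, fun h => absurd rfl h⟩
        | add a b _ _ ha hb =>
          obtain ⟨a1, a2, rfl, ha2, ha1, ha3⟩ := ha
          obtain ⟨b1, b2, rfl, hb2, hb1, hb3⟩ := hb
          refine ⟨a1 + b1, a2 + b2, by abel, add_mem ha2 hb2, add_mem ha1 hb1, fun h => ?_⟩
          by_cases h0 : a1 = 0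
          · exact hb3 fun h4 => h (by rw [h0, h4, add_zero])
          · exact ha3 h0
        | neg a _ ha =>
          obtain ⟨a1, a2, rfl, ha2, ha1, ha3⟩ := ha
          exact ⟨-a1, -a2, by abel, neg_mem ha2, neg_mem ha1, fun h => ha3 fun h4 => h (by rw [h4, neg_zero])⟩
      obtain ⟨w, v', rfl, hv', hw, hwY⟩ := hdec v hv
      have hw0 : w = 0 := by
        by_contra h0
        have hY := hwY h0
        have h1 : v' ∈ rst W 𝒴 Y := by
          have h2 : A T ≤ rst W 𝒴 Y := (AddSubgroup.closure_le _).2 (by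
            rintro x ⟨Y', hY', hY'', hx⟩
            exact AddSubgroup.subset_closure ⟨Y', hY'', fun e => hYT (e ▸ hY'), hx⟩)
          exact h2 hv'
        refine h0 ((Fa.blk Y hY).fix hw fun k hk => ?_)
        have h2 := hf Y hY k hk
        rw [smul_add, Fa.triv_rst hY hk h1] at h2
        exact add_right_cancel h2
      subst hw0
      rw [zero_add] at hf ⊢
      exact ih v' hv' hf
  have := Fintype.ofFinite (Subgroup Γ)
  refine key Finset.univ v ?_ hf
  have h2 : sm W 𝒴 ≤ A Finset.univ := (AddSubgroup.closure_le _).2 (by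
    rintro x ⟨Y, hY, hx⟩
    exact AddSubgroup.subset_closure ⟨Y, Finset.mem_univ _, hY, hx⟩)
  exact h2 hv

theorem sep' [Finite Γ] [Finite W] {v : W} (hv : v ∈ sm W 𝒴) (hf : ∀ Y ∈ 𝒴, v ∈ rst W 𝒴 Y) : v = 0 :=
  Fa.sep hv fun Y hY _ hy => Fa.triv_rst hY hy (hf Y hY)

theorem mem_RR {Y : Subgroup Γ} (hY : Y ∈ 𝒴) {y : Γ} (hy : y ∈ Y) : y ∈ RR 𝒴 := (le_sSup hY : Y ≤ RR 𝒴) hy

/-- an element of a block in `rst + C(RR)` is zero -/
theorem block_sep [Finite Γ] [Finite W] {Y : Subgroup Γ} (hY : Y ∈ 𝒴) {x b c : W} (hx : x ∈ cm W Y)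
    (hb : b ∈ rst W 𝒴 Y) (hc : ∀ r ∈ RR 𝒴, r • c = c) (e : x = b + c) : x = 0 := by
  have h1 : c ∈ sm W 𝒴 := by
    have e1 : c = x - b := by rw [e]; abel
    rw [e1]
    exact sub_mem (cm_le_sm hY hx) (rst_le_sm _ _ hb)
  have h2 : c = 0 := Fa.sep h1 fun Y' hY' y hy => hc _ (Fa.mem_RR hY' hy)
  rw [h2, add_zero] at e
  exact Fa.indep hY hx (e ▸ hb)

end Fam

/-! ### the closure -/

/-- `C_W(C_{RR}(D))` -/
def fcl (𝒴 : Set (Subgroup Γ)) (D : AddSubgroup W) : AddSubgroup W where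
  carrier := {v | ∀ r ∈ RR 𝒴, (∀ d ∈ D, r • d = d) → r • v = v}
  zero_mem' := fun r _ _ => smul_zero r
  add_mem' := fun {a b} ha hb r hr hD => by rw [smul_add, ha r hr hD, hb r hr hD]
  neg_mem' := fun {a} ha r hr hD => by rw [smul_neg, ha r hr hD]

theorem mem_fcl {𝒴 : Set (Subgroup Γ)} {D : AddSubgroup W} {v : W} :
    v ∈ fcl 𝒴 D ↔ ∀ r ∈ RR 𝒴, (∀ d ∈ D, r • d = d) → r • v = v := Iff.rfl

theorem le_fcl {𝒴 : Set (Subgroup Γ)} (D : AddSubgroup W) : D ≤ fcl 𝒴 D := fun _ hv _ _ h => h _ hv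

theorem fcl_mono {𝒴 : Set (Subgroup Γ)} {D D' : AddSubgroup W} (hD : D ≤ D') : fcl 𝒴 D ≤ fcl 𝒴 D' :=
  fun _ hv r hr h => hv r hr fun d hd => h d (hD hd)

/-- `fcl F = F` for a flat `F = C_W(Q)`, `Q ≤ Y ∈ 𝒴` -/
theorem fcl_flat {𝒴 : Set (Subgroup Γ)} {Y Q : Subgroup Γ} (hY : Y ∈ 𝒴) (hQ : Q ≤ Y) :
    fcl 𝒴 (fx W Q) = fx W Q :=
  le_antisymm (fun _ hv d hd => hv d ((le_sSup hY : Y ≤ RR 𝒴) (hQ hd)) fun _ hf => hf d hd) (le_fcl _)

/-- the block `[W, Y]` is bad: not contained in `fcl D` -/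
def Bd (𝒴 : Set (Subgroup Γ)) (D : AddSubgroup W) (Y : Subgroup Γ) : Prop := ∃ w ∈ cm W Y, w ∉ fcl 𝒴 D

/-- the sum of the bad blocks -/
def bd (𝒴 : Set (Subgroup Γ)) (D : AddSubgroup W) : AddSubgroup W :=
  AddSubgroup.closure {v | ∃ Y ∈ 𝒴, Bd 𝒴 D Y ∧ v ∈ cm W Y}

theorem bd_le_sm (𝒴 : Set (Subgroup Γ)) (D : AddSubgroup W) : bd 𝒴 D ≤ sm W 𝒴 :=
  AddSubgroup.closure_mono (by rintro v ⟨Y, hY, -, hv⟩; exact ⟨Y, hY, hv⟩)

namespace Fam

variable [Finite Γ] [Finite W] {M : Subgroup Γ} {𝒴 : Set (Subgroup Γ)} (Fa : Fam W M 𝒴)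
variable (gas : ∀ w : W, ∃ a ∈ sm W 𝒴, ∃ c : W, (∀ r ∈ RR 𝒴, r • c = c) ∧ w = a + c)
include Fa gas

omit Fa [Finite Γ] [Finite W] in
theorem le_bd_sup (D : AddSubgroup W) (v : W) : v ∈ bd 𝒴 D ⊔ fcl 𝒴 D := by
  obtain ⟨a, ha, c, hc, rfl⟩ := gas v
  refine add_mem ?_ (le_sup_right (a := bd 𝒴 D) (show c ∈ fcl 𝒴 D from fun r hr _ => hc r hr))
  have h1 : sm W 𝒴 ≤ bd 𝒴 D ⊔ fcl 𝒴 D := by
    refine (AddSubgroup.closure_le _).2 ?_
    rintro w ⟨Y, hY, hw⟩
    by_cases hb : Bd 𝒴 D Y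
    · exact le_sup_left (a := bd 𝒴 D) (AddSubgroup.subset_closure ⟨Y, hY, hb, hw⟩)
    · refine le_sup_right (a := bd 𝒴 D) ?_
      by_contra hcon
      exact hb ⟨w, hw, hcon⟩
  exact h1 ha

/-- the components of a fixed vector are fixed -/
theorem fix_comp {r : Γ} (hr : r ∈ RR 𝒴) {Y : Subgroup Γ} (hY : Y ∈ 𝒴) {a b c : W} (ha : a ∈ cm W Y)
    (hb : b ∈ rst W 𝒴 Y) (hc : ∀ r ∈ RR 𝒴, r • c = c) (h : r • (a + b + c) = a + b + c) : r • a = a := by
  rw [smul_add, smul_add, hc r hr] at h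
  have h1 : r • a - a = 0 := by
    refine Fa.indep hY (sub_mem (Fa.smul_cm_RR hr hY ha) ha) ?_
    have e : r • a - a = b - r • b := by
      have h2 : r • a = a + b + c - r • b - c := by rw [← h]; abel
      rw [h2]
      abel
    rw [e]
    exact sub_mem hb (Fa.smul_rst_RR hr hb)
  exact sub_eq_zero.1 h1

/-- if `r ∈ RR` fixes `D` then its component in `Y` fixes `D` -/
theorem fix_part {r : Γ} (hr : r ∈ RR 𝒴) {D : AddSubgroup W} (hD : ∀ d ∈ D, r • d = d) {Y : Subgroup Γ} (hY : Y ∈ 𝒴)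
    {y : Γ} (hy : y ∈ Y) (hyr : ∀ v ∈ cm W Y, r • v = y • v) {d : W} (hd : d ∈ D) : y • d = d := by
  obtain ⟨a0, ha0, c, hc, e⟩ := gas d
  obtain ⟨a, ha, b, hb, rfl⟩ := sm_dec Y ha0
  have h1 := hD d hd
  rw [e] at h1
  have h2 := Fa.fix_comp gas hr hY ha hb hc h1
  rw [e, smul_add, smul_add, ← hyr a ha, h2, Fa.triv_rst hY hy hb, hc y (Fa.mem_RR hY hy)]

/-- **One bad block** -/
theorem exists_y {t : Γ} (ht : t ∈ M) {D : AddSubgroup W} (h1 : ∀ w : W, t • w - w ∈ D) (h2 : ∀ d ∈ D, t • d = d)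
    {Y : Subgroup Γ} (hY : Y ∈ 𝒴) (hb : Bd 𝒴 D Y) : ∃ y ∈ Y, ∀ v ∈ cm W Y, t • v = y • v := by
  obtain ⟨w, hw, hwn⟩ := hb
  have h3 : ∃ r ∈ RR 𝒴, (∀ d ∈ D, r • d = d) ∧ r • w ≠ w := by
    by_contra hcon
    push Not at hcon
    exact hwn hcon
  obtain ⟨r0, hr0, hrD0, hrw⟩ := h3
  obtain ⟨r, hr, hrr⟩ := Fa.RR_cm hr0 Y hY
  have hrD : ∀ d ∈ D, r • d = d := fun d hd => Fa.fix_part gas hr0 hrD0 hY hr hrr hd
  rw [hrr w hw] at hrw
  -- `t` normalises `Y`
  have hn : Y.map (MulAut.conj t⁻¹).toMonoidHom = Y := by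
    by_contra hne
    apply hrw
    have h4 : t⁻¹ * r * t ∈ Y.map (MulAut.conj t⁻¹).toMonoidHom := ⟨r, hr, by
      change t⁻¹ * r * t⁻¹⁻¹ = _
      rw [inv_inv]⟩
    have h5 := Fa.triv _ (Fa.conj Y hY t⁻¹ (inv_mem ht)) Y hY hne _ h4 w hw
    have h6 : r • t • w = t • w := by
      conv_rhs => rw [← h5]
      rw [smul_smul, smul_smul]
      congr 1
      group
    have h7 := hrD _ (h1 w)
    rw [smul_sub, h6] at h7
    exact (sub_right_inj.1 h7)
  obtain ⟨A, _, _, _, _, htv, -, e, hd, hd'⟩ := (Fa.blk Y hY).ex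
  have hne : ∃ f : HomY Y A W, f ≠ 0 := by
    have : Nontrivial (HomY Y A W) := Module.nontrivial_of_finrank_pos (R := KK Y A) (by omega)
    exact exists_ne 0
  obtain ⟨y, hy⟩ := exists_blkT (W := W) htv hne (t := t) (fun k hk => by
      have h4 : t⁻¹ * k * t ∈ Y.map (MulAut.conj t⁻¹).toMonoidHom := ⟨k, hk, by
        change t⁻¹ * k * t⁻¹⁻¹ = _
        rw [inv_inv]⟩
      rwa [hn] at h4) (X := D) (fun v _ => h1 v) h2 (r := ⟨r, hr⟩) hrD (by
      by_contra hcon
      push Not at hcon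
      apply hrw
      rw [e] at hw
      exact img_ind (P := fun v => r • v = v) (smul_zero _) (fun a b ha hb => by rw [smul_add, ha, hb])
        (fun a ha => by rw [smul_neg, ha]) (fun f a => by
          have h4 := f.2 ⟨r, hr⟩ a
          rw [hcon] at h4
          exact h4.symm) hw)
  exact ⟨y, y.2, fun v hv => hy v (e ▸ hv)⟩

/-- the product over a set of bad blocks -/
theorem exists_ys {t : Γ} (ht : t ∈ M) {D : AddSubgroup W} (h1 : ∀ w : W, t • w - w ∈ D)
    (h2 : ∀ d ∈ D, t • d = d) (s : Finset (Subgroup Γ)) :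
    ∃ y ∈ RR 𝒴, (∀ Y ∈ 𝒴, Y ∈ s → Bd 𝒴 D Y → ∀ v ∈ cm W Y, y • v = t • v) ∧
      ∀ Y ∈ 𝒴, (Y ∉ s ∨ ¬ Bd 𝒴 D Y) → ∀ v ∈ cm W Y, y • v = v := by
  classical
  induction s using Finset.induction_on with
  | empty => exact ⟨1, one_mem _, fun Y _ h => absurd h (Finset.notMem_empty _), fun _ _ _ _ _ => one_smul _ _⟩
  | insert Y0 s hs ih =>
    obtain ⟨y, hy, hy1, hy2⟩ := ih
    by_cases hc : Y0 ∈ 𝒴 ∧ Bd 𝒴 D Y0
    · obtain ⟨hY0, hb0⟩ := hc
      obtain ⟨y0, hy0, e0⟩ := Fa.exists_y gas ht h1 h2 hY0 hb0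
      refine ⟨y0 * y, mul_mem (Fa.mem_RR hY0 hy0) hy, fun Y hY hYs hb v hv => ?_, fun Y hY hor v hv => ?_⟩
      · by_cases e : Y0 = Y
        · subst e
          rw [mul_smul, hy2 Y0 hY (Or.inl hs) v hv, ← e0 v hv]
        · have h4 : Y ∈ s := (Finset.mem_insert.1 hYs).resolve_left (Ne.symm e)
          have h5 := hy1 Y hY h4 hb v hv
          rw [mul_smul, Fa.triv Y0 hY0 Y hY e y0 hy0 _ (Fa.smul_cm_RR hy hY hv), h5]
      · have e : Y0 ≠ Y := by
          rintro rfl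
          rcases hor with h5 | h5
          · exact h5 (Finset.mem_insert_self _ _)
          · exact h5 hb0
        have h6 : Y ∉ s ∨ ¬ Bd 𝒴 D Y := hor.imp (fun h h' => h (Finset.mem_insert_of_mem h')) id
        rw [mul_smul, hy2 Y hY h6 v hv, Fa.triv Y0 hY0 Y hY e y0 hy0 v hv]
    · refine ⟨y, hy, fun Y hY hYs hb v hv => ?_, fun Y hY hor v hv => ?_⟩
      · rcases Finset.mem_insert.1 hYs with rfl | h5
        · exact absurd ⟨hY, hb⟩ hc
        · exact hy1 Y hY h5 hb v hv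
      · refine hy2 Y hY (hor.imp (fun h h' => h (Finset.mem_insert_of_mem h')) id) v hv

/-- **LEMMA T2**: `t` agrees on the bad blocks with an element of `RR` which fixes `D` -/
theorem tt {t : Γ} (ht : t ∈ M) {D : AddSubgroup W} (h1 : ∀ w : W, t • w - w ∈ D) (h2 : ∀ d ∈ D, t • d = d) :
    ∃ y ∈ RR 𝒴, (∀ v ∈ bd 𝒴 D, y • v = t • v) ∧ (∀ d ∈ D, y • d = d) ∧ ∀ v ∈ bd 𝒴 D, y⁻¹ • v ∈ bd 𝒴 D := by
  classical
  have := Fintype.ofFinite (Subgroup Γ)
  obtain ⟨y, hy, hy1, hy2⟩ := Fa.exists_ys gas ht h1 h2 Finset.univ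
  have hy1' : ∀ Y ∈ 𝒴, Bd 𝒴 D Y → ∀ v ∈ cm W Y, y • v = t • v := fun Y hY => hy1 Y hY (Finset.mem_univ _)
  have hy2' : ∀ Y ∈ 𝒴, ¬ Bd 𝒴 D Y → ∀ v ∈ cm W Y, y • v = v := fun Y hY hb => hy2 Y hY (Or.inr hb)
  refine ⟨y, hy, ?_, ?_, ?_⟩
  · intro v hv
    induction hv using AddSubgroup.closure_induction with
    | mem v hv =>
      obtain ⟨Y, hY, hb, hv⟩ := hv
      exact hy1' Y hY hb v hv
    | zero => rw [smul_zero, smul_zero]
    | add a b _ _ ha hb => rw [smul_add, smul_add, ha, hb]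
    | neg a _ ha => rw [smul_neg, smul_neg, ha]
  · intro d hd
    obtain ⟨a, ha, c, hc, e⟩ := gas d
    have h3 : y • a - a = 0 := by
      refine Fa.sep' (sub_mem (Fa.smul_sm_RR hy ha) ha) fun Y hY => ?_
      obtain ⟨a1, ha1, b1, hb1, rfl⟩ := sm_dec Y ha
      have h4 : y • a1 = a1 := by
        by_cases hb : Bd 𝒴 D Y
        swap
        · exact hy2' Y hY hb a1 ha1
        have h5 := hy1' Y hY hb a1 ha1
        -- `t` normalises `Y`
        have hn : Y.map (MulAut.conj t).toMonoidHom = Y := by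
          by_contra hne
          obtain ⟨v, hv, hv0⟩ : ∃ v ∈ cm W Y, v ≠ 0 := by
            obtain ⟨w, hw, hwn⟩ := hb
            exact ⟨w, hw, fun h0 => hwn (h0 ▸ zero_mem _)⟩
          have h6 : t • v ∈ cm W Y := by
            rw [← hy1' Y hY hb v hv]
            exact Fa.smul_cm_RR hy hY hv
          have h7 : t • v ∈ rst W 𝒴 Y := cm_le_rst (Fa.conj Y hY t ht) hne (smul_cm t hv)
          have h8 := Fa.indep hY h6 h7
          exact hv0 (by rw [← inv_smul_smul t v, h8, smul_zero])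
        have h7 : t • b1 ∈ rst W 𝒴 Y := Fa.smul_rst ht hn hb1
        have h9 : ∀ r ∈ RR 𝒴, r • (t • c) = t • c := by
          intro r hr
          have h10 := hc _ (Fa.RR_conj (inv_mem ht) hr)
          rw [inv_inv, mul_smul, mul_smul, inv_smul_eq_iff] at h10
          exact h10
        have h11 := h2 _ hd
        rw [e, smul_add, smul_add] at h11
        have h12 : t • a1 - a1 = 0 := by
          refine Fa.block_sep hY (x := t • a1 - a1) (b := b1 - t • b1) (c := c - t • c) (sub_mem ?_ ha1)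
            (sub_mem hb1 h7) (fun r hr => by rw [smul_sub, hc r hr, h9 r hr]) ?_
          · rw [← h5]
            exact Fa.smul_cm_RR hy hY ha1
          · have h13 : t • a1 = a1 + b1 + c - t • b1 - t • c := by
              rw [← h11]
              abel
            rw [h13]
            abel
        rw [h5]
        exact sub_eq_zero.1 h12
      have e : y • (a1 + b1) - (a1 + b1) = y • b1 - b1 := by
        rw [smul_add, h4]
        abel
      rw [e]
      exact sub_mem (Fa.smul_rst_RR hy hb1) hb1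
    rw [e, smul_add, hc y hy, sub_eq_zero.1 h3]
  · intro v hv
    induction hv using AddSubgroup.closure_induction with
    | mem v hv =>
      obtain ⟨Y, hY, hb, hv⟩ := hv
      exact AddSubgroup.subset_closure ⟨Y, hY, hb, Fa.smul_cm_RR (inv_mem hy) hY hv⟩
    | zero => rw [smul_zero]; exact zero_mem _
    | add a b _ _ ha hb => rw [smul_add]; exact add_mem ha hb
    | neg a _ ha => rw [smul_neg]; exact neg_mem ha

/-- **LEMMA T2**, second form -/
theorem tt' {t : Γ} (ht : t ∈ M) {D : AddSubgroup W} (h1 : ∀ w : W, t • w - w ∈ D) (h2 : ∀ d ∈ D, t • d = d) :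
    (∀ v ∈ bd 𝒴 D, v ∈ fcl 𝒴 D → t • v = v) ∧
      ∃ m ∈ M, (∀ v ∈ bd 𝒴 D, m • v = v) ∧ ∀ v ∈ fcl 𝒴 D, m • v = t • v := by
  obtain ⟨y, hy, hy1, hyD, hy3⟩ := Fa.tt gas ht h1 h2
  refine ⟨fun v hv hv' => ?_, t * y⁻¹, mul_mem ht (inv_mem (Fa.RR_le hy)), fun v hv => ?_, fun v hv => ?_⟩
  · rw [← hy1 v hv]
    exact hv' y hy hyD
  · rw [mul_smul, ← hy1 _ (hy3 v hv), smul_inv_smul]
  · rw [mul_smul]
    congr 1
    rw [inv_smul_eq_iff]
    exact (hv y hy hyD).symm

end Fam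

end Cfsg.Agent.Omega.NO3b.BasePt

end

section


/-!
# The base point (#22310 LEMMA T2, helper506; #22211 (4), helper16), the count

`V` elementary abelian and NotFF, `W ≤ V`, `Fc ≤ V`, `V = W Fc`; `A ≤ N(V) ∩ N(Fc)`, `[V, A, A] = 1`; for `a ∈ A` some
`m ∈ N(V)` is trivial on `W` and acts on `Fc` as `a`.  Then `A` centralises `Fc` or `|A : C_A(Fc)| < |Fc : C_Fc(A)|`.
-/

set_option autoImplicit false

namespace Cfsg.Agent.Omega.NO3b.BasePt.Count

open Subgroup
open Cfsg.Agent.Omega.NO3b.EZero (NotFF)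

universe u

variable {G : Type u} [Group G]

/-- the action of `a` on `W` -/
def rs (W : Subgroup G) (a : G) : W → G := fun w => a * w * a⁻¹

theorem rs_eq_iff {W : Subgroup G} {a b : G} : rs W a = rs W b ↔ b⁻¹ * a ∈ centralizer (W : Set G) := by
  constructor
  · intro h
    rw [mem_centralizer_iff]
    intro w hw
    have h1 : a * w * a⁻¹ = b * w * b⁻¹ := congrFun h ⟨w, hw⟩
    calc w * (b⁻¹ * a) = b⁻¹ * (b * w * b⁻¹) * a := by group
      _ = b⁻¹ * (a * w * a⁻¹) * a := by rw [h1]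
      _ = b⁻¹ * a * w := by group
  · intro h
    funext w
    have h1 := mem_centralizer_iff.1 h w w.2
    change a * w * a⁻¹ = b * w * b⁻¹
    calc a * (w : G) * a⁻¹ = b * (b⁻¹ * a * w) * a⁻¹ := by group
      _ = b * (w * (b⁻¹ * a)) * a⁻¹ := by rw [h1]
      _ = b * w * b⁻¹ := by group

/-- `|A : C_A(W)|` is the number of restrictions -/
theorem relIndex_eq (A W : Subgroup G) :
    (centralizer (W : Set G)).relIndex A = Nat.card (rs W '' (A : Set G)) := by
  have e : (centralizer (W : Set G)).relIndex A = Nat.card (A ⧸ (centralizer (W : Set G)).subgroupOf A) := rfl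
  rw [e]
  refine Nat.card_congr (Equiv.ofBijective (fun q => Quotient.liftOn' q
    (fun a => (⟨rs W (a : G), Set.mem_image_of_mem _ a.2⟩ : rs W '' (A : Set G))) fun a b hab => ?_) ⟨?_, ?_⟩)
  · rw [QuotientGroup.leftRel_apply, mem_subgroupOf] at hab
    exact Subtype.ext (rs_eq_iff.2 hab).symm
  · intro p q
    refine Quotient.inductionOn₂' p q fun a b hab => ?_
    have h1 : rs W (a : G) = rs W (b : G) := congrArg Subtype.val hab
    refine Quotient.sound' ?_
    rw [QuotientGroup.leftRel_apply, mem_subgroupOf]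
    exact rs_eq_iff.1 h1.symm
  · rintro ⟨_, a, ha, rfl⟩
    exact ⟨Quotient.mk'' ⟨a, ha⟩, rfl⟩

/-- a group which acts on `V` as an elementary abelian 2-group acts there as a 2-subgroup. -/
theorem exists_two [Finite G] {A V : Subgroup G} (hAV : A ≤ normalizer (V : Set G))
    (h2 : ∀ a ∈ A, a * a ∈ centralizer (V : Set G)) : ∃ P ≤ A, IsPGroup 2 P ∧
      ∀ a ∈ A, ∃ p ∈ P, p⁻¹ * a ∈ centralizer (V : Set G) := by
  have hf : Fact (Nat.Prime 2) := ⟨Nat.prime_two⟩
  let N : Subgroup A := (centralizer (V : Set G)).subgroupOf A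
  have hN : N.Normal := ⟨fun n hn g => by
    have h1 : (n : G) ∈ centralizer (V : Set G) := mem_subgroupOf.1 hn
    have h3 := hAV g.2
    refine mem_subgroupOf.2 (mem_centralizer_iff.2 fun v hv => ?_)
    change v * ((g : G) * n * (g : G)⁻¹) = (g : G) * n * (g : G)⁻¹ * v
    have h4 : (g : G)⁻¹ * v * g ∈ V := (mem_normalizer_iff''.1 h3 v).1 hv
    have h5 := mem_centralizer_iff.1 h1 _ h4
    calc v * ((g : G) * n * (g : G)⁻¹) = g * ((g : G)⁻¹ * v * g * n) * (g : G)⁻¹ := by group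
      _ = g * (n * ((g : G)⁻¹ * v * g)) * (g : G)⁻¹ := by rw [h5]
      _ = (g : G) * n * (g : G)⁻¹ * v := by group⟩
  obtain ⟨P⟩ : Nonempty (Sylow 2 A) := inferInstance
  have hq : IsPGroup 2 (A ⧸ N) := by
    intro q
    refine ⟨1, ?_⟩
    obtain ⟨a, rfl⟩ := QuotientGroup.mk_surjective q
    rw [pow_one, ← QuotientGroup.mk_pow, QuotientGroup.eq_one_iff, pow_two]
    exact mem_subgroupOf.2 (h2 a a.2)
  obtain ⟨n, hn⟩ := IsPGroup.iff_card.1 hq
  have hn' : N.index = 2 ^ n := hn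
  have h3 : ((P : Subgroup A) ⊔ N).index ∣ 2 ^ n := hn' ▸ index_dvd_of_le le_sup_right
  have h4 : ¬ 2 ∣ ((P : Subgroup A) ⊔ N).index := fun h =>
    P.not_dvd_index (h.trans (index_dvd_of_le le_sup_left))
  obtain ⟨k, -, hk⟩ := (Nat.dvd_prime_pow Nat.prime_two).1 h3
  have h5 : ((P : Subgroup A) ⊔ N).index = 1 := by
    rcases Nat.eq_zero_or_pos k with h0 | h0
    · rw [hk, h0, pow_zero]
    · exact absurd (hk ▸ dvd_pow_self 2 h0.ne') h4
  have h6 : (P : Subgroup A) ⊔ N = ⊤ := index_eq_one.1 h5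
  refine ⟨(P : Subgroup A).map A.subtype, map_subtype_le _, P.isPGroup'.map _, fun a ha => ?_⟩
  have h7 : (⟨a, ha⟩ : A) ∈ (P : Subgroup A) ⊔ N := by rw [h6]; trivial
  obtain ⟨p, hp, c, hc, e⟩ := mem_sup_of_normal_right.1 h7
  refine ⟨p, ⟨p, hp, rfl⟩, ?_⟩
  have e' : (p : G) * c = a := congrArg Subtype.val e
  rw [← e', inv_mul_cancel_left]
  exact mem_subgroupOf.1 hc

/-- `|V : C_V(P)| = |Fc : C_Fc(P)|` if `V = W Fc` and `P` centralises `W`. -/
theorem relIndex_sup {V W Fc : Subgroup G} (ab : ∀ v ∈ V, ∀ w ∈ V, v * w = w * v) (hW : W ≤ V) (hF : Fc ≤ V)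
    (hV : V ≤ W ⊔ Fc) {C : Subgroup G} (hC : W ≤ C) : C.relIndex V = C.relIndex Fc := by
  have hn : ∀ X : Subgroup V, X.Normal := fun X => ⟨fun n hn g => by
    have e : g * n * g⁻¹ = n := by
      apply Subtype.ext
      change (g : G) * n * (g : G)⁻¹ = n
      rw [ab g g.2 n n.2]
      group
    rw [e]; exact hn⟩
  let X : Subgroup V := C.subgroupOf V
  let N : Subgroup V := Fc.subgroupOf V
  have hX := hn X
  have h1 : N ⊔ X = ⊤ := by
    rw [eq_top_iff]
    intro v _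
    have h2 : W.subgroupOf V ⊔ Fc.subgroupOf V = ⊤ := by
      rw [← subgroupOf_sup hW hF, subgroupOf_eq_top]
      exact hV
    have h3 : W.subgroupOf V ⊔ Fc.subgroupOf V ≤ N ⊔ X :=
      sup_le ((subgroupOf_mono V hC).trans le_sup_right) le_sup_left
    exact h3 (by rw [h2]; trivial)
  have h2 : X.relIndex (N ⊔ X) = X.relIndex N := relIndex_sup_right N X
  rw [h1, relIndex_top_right] at h2
  have h3 : X.relIndex N = C.relIndex Fc := relIndex_subgroupOf hF
  change X.index = _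
  rw [h2, h3]

/-- **The count.** -/
theorem count [Finite G] {V W Fc A D : Subgroup G} (ab : ∀ v ∈ V, ∀ w ∈ V, v * w = w * v)
    (sq : ∀ v ∈ V, v * v = 1) (hW : W ≤ V) (hF : Fc ≤ V) (hV : V ≤ W ⊔ Fc) (hAV : A ≤ normalizer (V : Set G))
    (hAF : A ≤ normalizer (Fc : Set G))
    (hm : ∀ a ∈ A, ∃ m ∈ normalizer (V : Set G), (∀ w ∈ W, m * w = w * m) ∧
      ∀ v ∈ Fc, m * v * m⁻¹ = a * v * a⁻¹)
    (hVD : ∀ a ∈ A, ∀ v ∈ V, a * v * a⁻¹ * v⁻¹ ∈ D) (hDA : ∀ a ∈ A, ∀ d ∈ D, a * d = d * a) (hNF : NotFF V)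
    (hne : ¬ A ≤ centralizer (Fc : Set G)) :
    (centralizer (Fc : Set G)).relIndex A < (centralizer (A : Set G)).relIndex Fc := by
  -- `Â`
  let Ah : Subgroup G :=
    { carrier := {m | m ∈ normalizer (V : Set G) ∧ (∀ w ∈ W, m * w = w * m) ∧ ∃ a ∈ A, ∀ v ∈ Fc, m * v * m⁻¹ = a * v * a⁻¹}
      one_mem' := ⟨one_mem _, fun w _ => by rw [one_mul, mul_one], 1, one_mem _, fun _ _ => rfl⟩
      mul_mem' := by
        rintro m n ⟨h1, h2, a, ha, h3⟩ ⟨h1', h2', b, hb, h3'⟩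
        refine ⟨mul_mem h1 h1', fun w hw => ?_, a * b, mul_mem ha hb, fun v hv => ?_⟩
        · rw [mul_assoc, h2' w hw, ← mul_assoc, h2 w hw, mul_assoc]
        · have h4 : b * v * b⁻¹ ∈ Fc := (mem_normalizer_iff.1 (hAF hb) v).1 hv
          calc m * n * v * (m * n)⁻¹ = m * (n * v * n⁻¹) * m⁻¹ := by group
            _ = m * (b * v * b⁻¹) * m⁻¹ := by rw [h3' v hv]
            _ = a * (b * v * b⁻¹) * a⁻¹ := h3 _ h4
            _ = a * b * v * (a * b)⁻¹ := by group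
      inv_mem' := by
        rintro m ⟨h1, h2, a, ha, h3⟩
        refine ⟨inv_mem h1, fun w hw => ?_, a⁻¹, inv_mem ha, fun v hv => ?_⟩
        · have := h2 w hw
          calc m⁻¹ * w = m⁻¹ * (w * m) * m⁻¹ := by group
            _ = m⁻¹ * (m * w) * m⁻¹ := by rw [this]
            _ = w * m⁻¹ := by group
        · have h4 : a⁻¹ * v * a⁻¹⁻¹ ∈ Fc := (mem_normalizer_iff.1 (hAF (inv_mem ha)) v).1 hv
          have h5 := h3 _ h4
          calc m⁻¹ * v * m⁻¹⁻¹ = m⁻¹ * (a * (a⁻¹ * v * a⁻¹⁻¹) * a⁻¹) * m := by group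
            _ = m⁻¹ * (m * (a⁻¹ * v * a⁻¹⁻¹) * m⁻¹) * m := by rw [h5]
            _ = a⁻¹ * v * a⁻¹⁻¹ := by group }
  have hAhV : Ah ≤ normalizer (V : Set G) := fun m hm => hm.1
  -- elements acting equally on `W` and `Fc` act equally on `V`
  have hcen : ∀ x : G, (∀ w ∈ W, x * w = w * x) → (∀ v ∈ Fc, x * v = v * x) → x ∈ centralizer (V : Set G) := by
    intro x h1 h2
    have h3 : V ≤ centralizer ({x} : Set G) := hV.trans (sup_le
      (fun w hw => mem_centralizer_iff.2 fun y hy => by rw [Set.mem_singleton_iff.1 hy]; exact h1 w hw)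
      (fun w hw => mem_centralizer_iff.2 fun y hy => by rw [Set.mem_singleton_iff.1 hy]; exact h2 w hw))
    exact mem_centralizer_iff.2 fun v hv => (mem_centralizer_iff.1 (h3 hv) x rfl).symm
  have hsqA : ∀ a ∈ A, ∀ v ∈ V, a * (a * v * a⁻¹) * a⁻¹ = v := by
    intro a ha v hv
    have h1 := hDA a ha _ (hVD a ha v hv)
    have h2 : a * v * a⁻¹ ∈ V := (mem_normalizer_iff.1 (hAV ha) v).1 hv
    have h3 : a * v * a⁻¹ * v⁻¹ * (a * v * a⁻¹ * v⁻¹) = 1 := sq _ (mul_mem h2 (inv_mem hv))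
    calc a * (a * v * a⁻¹) * a⁻¹ = a * (a * v * a⁻¹ * v⁻¹) * a⁻¹ * (a * v * a⁻¹) := by group
      _ = a * v * a⁻¹ * v⁻¹ * a * a⁻¹ * (a * v * a⁻¹) := by rw [h1]
      _ = a * v * a⁻¹ * v⁻¹ * (a * v * a⁻¹ * v⁻¹) * v := by group
      _ = v := by rw [h3, one_mul]
  have hsq : ∀ m ∈ Ah, m * m ∈ centralizer (V : Set G) := by
    rintro m ⟨h1, h2, a, ha, h3⟩
    refine hcen _ (fun w hw => ?_) fun v hv => ?_
    · rw [mul_assoc, h2 w hw, ← mul_assoc, h2 w hw, mul_assoc]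
    · have h4 : a * v * a⁻¹ ∈ Fc := (mem_normalizer_iff.1 (hAF ha) v).1 hv
      have h5 : m * (m * v * m⁻¹) * m⁻¹ = v := by
        rw [h3 v hv, h3 _ h4]
        exact hsqA a ha v (hF hv)
      calc m * m * v = m * (m * v * m⁻¹) * m⁻¹ * (m * m) := by group
        _ = v * (m * m) := by rw [h5]
  obtain ⟨P, hPA, hP2, hP⟩ := exists_two hAhV hsq
  -- the restrictions to `Fc`
  have himg : rs Fc '' (P : Set G) = rs Fc '' (A : Set G) := by
    ext f
    constructor
    · rintro ⟨p, hp, rfl⟩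
      obtain ⟨-, -, a, ha, h3⟩ := hPA hp
      exact ⟨a, ha, funext fun v => (h3 v v.2).symm⟩
    · rintro ⟨a, ha, rfl⟩
      obtain ⟨m, h1, h2, h3⟩ := hm a ha
      obtain ⟨p, hp, h4⟩ := hP m ⟨h1, h2, a, ha, h3⟩
      refine ⟨p, hp, ?_⟩
      have h5 : rs Fc m = rs Fc p := rs_eq_iff.2 (centralizer_le hF h4)
      rw [← h5]
      exact funext fun v => h3 v v.2
  have e1 : (centralizer (Fc : Set G)).relIndex A = (centralizer (V : Set G)).relIndex P := by
    rw [relIndex_eq A Fc, ← himg, ← relIndex_eq P Fc, ← inf_relIndex_right (centralizer (Fc : Set G)) P,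
      ← inf_relIndex_right (centralizer (V : Set G)) P]
    congr 1
    refine le_antisymm (fun x hx => ⟨hcen x (hPA hx.2).2.1 fun v hv =>
      (mem_centralizer_iff.1 hx.1 v hv).symm, hx.2⟩) (inf_le_inf_right _ (centralizer_le hF))
  have e2 : (centralizer (A : Set G)).relIndex Fc = (centralizer (P : Set G)).relIndex V := by
    rw [relIndex_sup ab hW hF hV (C := centralizer (P : Set G)) fun w hw =>
      mem_centralizer_iff.2 fun p hp => (hPA hp).2.1 w hw,
      ← inf_relIndex_right (centralizer (A : Set G)) Fc, ← inf_relIndex_right (centralizer (P : Set G)) Fc]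
    congr 1
    ext v
    simp only [mem_inf]
    constructor
    · rintro ⟨h1, h2⟩
      refine ⟨mem_centralizer_iff.2 fun p hp => ?_, h2⟩
      obtain ⟨-, -, a, ha, h3⟩ := hPA hp
      have h4 := mem_centralizer_iff.1 h1 a ha
      have h5 := h3 v h2
      rw [h4, mul_inv_cancel_right] at h5
      rw [← mul_inv_eq_iff_eq_mul]
      exact h5
    · rintro ⟨h1, h2⟩
      refine ⟨mem_centralizer_iff.2 fun a ha => ?_, h2⟩
      have h6 : rs Fc a ∈ rs Fc '' (P : Set G) := by rw [himg]; exact ⟨a, ha, rfl⟩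
      obtain ⟨p, hp, h3⟩ := h6
      have h4 := mem_centralizer_iff.1 h1 p hp
      have h5 : p * v * p⁻¹ = a * v * a⁻¹ := congrFun h3 ⟨v, h2⟩
      rw [h4, mul_inv_cancel_right] at h5
      rw [← mul_inv_eq_iff_eq_mul]
      exact h5.symm
  rw [e1, e2]
  refine hNF P hP2 (hPA.trans hAhV) (fun a ha => by rw [pow_two]; exact hsq a (hPA ha)) (fun a ha b hb => ?_) ?_
  · -- commutators
    have h1 := hsq _ (mul_mem (hPA ha) (hPA hb))
    have h2 := hsq _ (inv_mem (hPA ha))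
    have h3 := hsq _ (inv_mem (hPA hb))
    -- `a b a⁻¹ b⁻¹ = (a b)² b⁻¹ a⁻² b · b⁻²`
    have e : a * b * a⁻¹ * b⁻¹ = a * b * (a * b) * (b⁻¹ * (a⁻¹ * a⁻¹) * b) * (b⁻¹ * b⁻¹) := by group
    rw [e]
    refine mul_mem (mul_mem h1 ?_) h3
    have hnor' : ∀ x ∈ centralizer (V : Set G), b⁻¹ * x * b ∈ centralizer (V : Set G) := by
      intro x hx
      have hb' := hAhV (hPA hb)
      refine mem_centralizer_iff.2 fun v hv => ?_
      have h4 : b * v * b⁻¹ ∈ V := (mem_normalizer_iff.1 hb' v).1 hv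
      have h5 := mem_centralizer_iff.1 hx _ h4
      calc v * (b⁻¹ * x * b) = b⁻¹ * (b * v * b⁻¹ * x) * b := by group
        _ = b⁻¹ * (x * (b * v * b⁻¹)) * b := by rw [h5]
        _ = b⁻¹ * x * b * v := by group
    exact hnor' _ h2
  · intro hPC
    apply hne
    intro a ha
    have h6 : rs Fc a ∈ rs Fc '' (P : Set G) := by rw [himg]; exact ⟨a, ha, rfl⟩
    obtain ⟨p, hp, h3⟩ := h6
    refine mem_centralizer_iff.2 fun v hv => ?_
    have h4 := mem_centralizer_iff.1 (hPC hp) v (hF hv)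
    have h5 : p * v * p⁻¹ = a * v * a⁻¹ := congrFun h3 ⟨v, hv⟩
    rw [← h4, mul_inv_cancel_right] at h5
    rw [eq_comm, ← mul_inv_eq_iff_eq_mul]
    exact h5.symm

end Cfsg.Agent.Omega.NO3b.BasePt.Count

end
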