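import Cfsg.Agent.Mrg.Omega.NO3b.FPB.Cen
import Cfsg.Agent.Mrg.Omega.NOThreeL.Star
import Cfsg.Agent.MinSimple.EmptyE.Trans
import Cfsg.Agent.Mrg.Omega.NO3b.K0.FullOff
import Cfsg.Agent.Mrg.Omega.NO3b.K0.Mix.Pan

section


/-!
# (CEN) for a module (#16134, #17875 (1)(b), #18743)

`Y ≤ G` elementary abelian, `S` a 2-group normalising `Y`, `Γ = Y ⋊ Aut(Y)`; `hat A` is the preimage in `Γ` of the
image of `A ≤ N_G(Y)` in `Aut(Y)`.

* `cen_mod` : `T ≤ S`, `X` a minimal parabolic over `T`, normalising `Y`, `V ≤ Y`, `C_S(V) ≤ T`, every `A ≤ S` with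
  `|A : C_A(Y)| |C_Y(A)|` maximal centralises `V`, some such `A ≤ T` is not in `O₂(X)`, `X` centralises `C_Y(S)`: then
  `O²(X)` centralises `C_Y(T)`.
-/

set_option autoImplicit false

namespace Cfsg.Agent.Omega.NO3b.Exit.Holo

open Subgroup Cfsg Cfsg.Agent.PLocal.ThompsonJ Cfsg.Agent.ZN Cfsg.Agent.ZN.ChoiceBase
open Cfsg.Agent.ZN.ChoiceSit
open Cfsg.Agent.Omega.NO3b.FPB.Base
open Cfsg.Agent.Omega.FFThm (ElemM)
open Cfsg.Agent.Omega.NOThreeL.Star (Opt Ok ff rel_mul_card)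
open Cfsg.Agent.MinSimple.MinParabolic (IsMinPar)
open Cfsg.Agent.MinSimple.VModule (oddGen oddGen_le mem_oddGen le_normalizer_oddGen oddGen_le_of_sup)

universe u

variable {G : Type u} [Group G]

/-! ### `Γ = Y ⋊ Aut(Y)` -/

/-- `Γ = Y ⋊ Aut(Y)` -/
abbrev Gam (Y : Subgroup G) : Type u := Y ⋊[MonoidHom.id (MulAut Y)] MulAut Y

instance [Finite G] (Y : Subgroup G) : Finite (Gam Y) :=
  Finite.of_equiv _ SemidirectProduct.equivProd.symm

/-- `x ∈ Γ` acts on `Y` as `a ∈ G` by conjugation. -/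
def Ind (Y : Subgroup G) (a : G) (x : Gam Y) : Prop := ∀ y : Y, ((x.right y : Y) : G) = a * y * a⁻¹

section basic

variable {Y : Subgroup G}

theorem Ind.one : Ind Y 1 1 := fun y => by simp

theorem Ind.mul {a b : G} {x z : Gam Y} (h : Ind Y a x) (h' : Ind Y b z) : Ind Y (a * b) (x * z) := by
  intro y
  rw [SemidirectProduct.mul_right, MulAut.mul_apply, h, h']
  group

theorem Ind.inv {a : G} {x : Gam Y} (h : Ind Y a x) : Ind Y a⁻¹ x⁻¹ := by
  intro y
  rw [SemidirectProduct.inv_right]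
  have h1 := h (x.right⁻¹ y)
  rw [← MulAut.mul_apply, mul_inv_cancel, MulAut.one_apply] at h1
  rw [h1]; group

theorem Ind.pow {a : G} {x : Gam Y} (h : Ind Y a x) (n : ℕ) : Ind Y (a ^ n) (x ^ n) := by
  induction n with
  | zero => rw [pow_zero, pow_zero]; exact Ind.one
  | succ n ih => rw [pow_succ, pow_succ]; exact ih.mul h

theorem Ind.right_eq {a : G} {x z : Gam Y} (h : Ind Y a x) (h' : Ind Y a z) : x.right = z.right := by
  ext y
  rw [h, h']

/-- the lift of `a ∈ N_G(Y)` -/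
noncomputable def lift (Y : Subgroup G) (a : G) (ha : a ∈ normalizer (Y : Set G)) : Gam Y :=
  SemidirectProduct.inr (Y.normalizerMonoidHom ⟨a, ha⟩)

theorem ind_lift {a : G} (ha : a ∈ normalizer (Y : Set G)) : Ind Y a (lift Y a ha) := fun _ => rfl

theorem Ind.mem_norm [Finite G] {a : G} {x : Gam Y} (h : Ind Y a x) : a ∈ normalizer (Y : Set G) := by
  rw [mem_normalizer_iff_cj]
  refine eq_of_le_of_card_ge ?_ (card_cj _ _).ge
  rintro _ ⟨y, hy, rfl⟩
  have h1 := h ⟨y, hy⟩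
  change a * y * a⁻¹ ∈ Y
  rw [← h1]
  exact (x.right ⟨y, hy⟩).2

/-- `Y` in `Γ` -/
def YY (Y : Subgroup G) : Subgroup (Gam Y) := (SemidirectProduct.rightHom : Gam Y →* MulAut Y).ker

theorem mem_YY {x : Gam Y} : x ∈ YY Y ↔ x.right = 1 := Iff.rfl

/-- the embedding `Y → Γ` -/
def inY (Y : Subgroup G) : Y →* Gam Y := SemidirectProduct.inl

theorem inY_mem (y : Y) : inY Y y ∈ YY Y := mem_YY.2 rfl

theorem eq_inY {x : Gam Y} (hx : x ∈ YY Y) : x = inY Y x.left := by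
  apply SemidirectProduct.ext
  · rfl
  · exact hx

theorem inY_inj : Function.Injective (inY Y) := SemidirectProduct.inl_injective

variable (hc : ∀ a ∈ Y, ∀ b ∈ Y, a * b = b * a)
include hc

theorem conj_inY (x : Gam Y) (y : Y) : x * inY Y y * x⁻¹ = inY Y (x.right y) := by
  have hY : ∀ a b : Y, a * b = b * a := fun a b => Subtype.ext (hc a a.2 b b.2)
  apply SemidirectProduct.ext
  · simp only [SemidirectProduct.mul_left, SemidirectProduct.mul_right, SemidirectProduct.inv_left,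
      inY, SemidirectProduct.left_inl, SemidirectProduct.right_inl, mul_one, MonoidHom.id_apply, map_inv]
    rw [← MulAut.mul_apply, mul_inv_cancel, MulAut.one_apply, hY x.left, mul_inv_cancel_right]
  · simp [inY]

theorem comm_inY_iff (x : Gam Y) (y : Y) : x * inY Y y = inY Y y * x ↔ x.right y = y := by
  constructor
  · intro h
    apply inY_inj
    rw [← conj_inY hc, h, mul_inv_cancel_right]
  · intro h
    have h1 := conj_inY hc x y
    rw [h] at h1
    exact mul_inv_eq_iff_eq_mul.1 h1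

theorem Ind.comm_iff {a : G} {x : Gam Y} (h : Ind Y a x) (y : Y) :
    x * inY Y y = inY Y y * x ↔ a * y = y * a := by
  rw [comm_inY_iff hc]
  constructor
  · intro h1
    have h2 := h y
    rw [h1] at h2
    exact (mul_inv_eq_iff_eq_mul.1 h2.symm)
  · intro h1
    apply Subtype.ext
    rw [h y, h1, mul_inv_cancel_right]

/-- `C_Γ(Y) ≤ Y` -/
theorem cent_YY : centralizer (YY Y : Set (Gam Y)) ≤ YY Y := by
  intro x hx
  rw [mem_YY]
  ext y
  have h1 := mem_centralizer_iff.1 hx (inY Y y) (inY_mem y)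
  rw [(comm_inY_iff hc x y).1 h1.symm]
  rfl

omit hc in
theorem norm_YY (B : Subgroup (Gam Y)) : B ≤ normalizer (YY Y : Set (Gam Y)) := by
  have h1 : (YY Y).Normal := MonoidHom.normal_ker _
  rw [normalizer_eq_top]
  exact le_top

theorem YY_elem (h2 : ∀ y ∈ Y, y ^ 2 = 1) : IsElementaryAbelian 2 (YY Y) := by
  refine isElementaryAbelian_iff.2 ⟨fun a ha b hb => ?_, fun a ha => ?_⟩
  · rw [eq_inY ha, eq_inY hb, ← map_mul, ← map_mul]
    congr 1
    exact Subtype.ext (hc _ a.left.2 _ b.left.2)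
  · rw [eq_inY ha, ← map_pow]
    have : a.left ^ 2 = 1 := Subtype.ext (h2 _ a.left.2)
    rw [this, map_one]

end basic

/-! ### the preimages -/

/-- the image of `A` in `Aut(Y)` -/
def im (Y A : Subgroup G) : Subgroup (MulAut Y) where
  carrier := {α | ∃ a ∈ A, ∀ y : Y, ((α y : Y) : G) = a * y * a⁻¹}
  one_mem' := ⟨1, one_mem _, fun y => by simp⟩
  mul_mem' := by
    rintro α β ⟨a, ha, h1⟩ ⟨b, hb, h2⟩
    refine ⟨a * b, mul_mem ha hb, fun y => ?_⟩
    rw [MulAut.mul_apply, h1, h2]; group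
  inv_mem' := by
    rintro α ⟨a, ha, h1⟩
    refine ⟨a⁻¹, inv_mem ha, fun y => ?_⟩
    have h2 := h1 (α⁻¹ y)
    rw [← MulAut.mul_apply, mul_inv_cancel, MulAut.one_apply] at h2
    rw [h2]; group

/-- the preimage of `A` in `Γ` -/
def hat (Y A : Subgroup G) : Subgroup (Gam Y) := (im Y A).comap SemidirectProduct.rightHom

section hat

variable {Y A B : Subgroup G}

theorem mem_hat {x : Gam Y} : x ∈ hat Y A ↔ ∃ a ∈ A, Ind Y a x := Iff.rfl

theorem YY_le_hat : YY Y ≤ hat Y A := fun x hx => mem_hat.2 ⟨1, one_mem _, fun y => by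
  rw [mem_YY.1 hx]; simp⟩

theorem hat_mono (h : A ≤ B) : hat Y A ≤ hat Y B := fun _ ⟨a, ha, h1⟩ => ⟨a, h ha, h1⟩

theorem lift_mem {a : G} (ha : a ∈ A) (hn : a ∈ normalizer (Y : Set G)) : lift Y a hn ∈ hat Y A :=
  mem_hat.2 ⟨a, ha, ind_lift hn⟩

/-- the elements of `X` inducing an element of `E` -/
def low (X : Subgroup G) (E : Subgroup (Gam Y)) : Subgroup G where
  carrier := {a | a ∈ X ∧ ∃ x ∈ E, Ind Y a x}
  one_mem' := ⟨one_mem _, 1, one_mem _, Ind.one⟩
  mul_mem' := by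
    rintro a b ⟨ha, x, hx, h1⟩ ⟨hb, z, hz, h2⟩
    exact ⟨mul_mem ha hb, x * z, mul_mem hx hz, h1.mul h2⟩
  inv_mem' := by
    rintro a ⟨ha, x, hx, h1⟩
    exact ⟨inv_mem ha, x⁻¹, inv_mem hx, h1.inv⟩

theorem mem_low {X : Subgroup G} {E : Subgroup (Gam Y)} {a : G} :
    a ∈ low X E ↔ a ∈ X ∧ ∃ x ∈ E, Ind Y a x := Iff.rfl

theorem low_le {X : Subgroup G} {E : Subgroup (Gam Y)} : low X E ≤ X := fun _ h => h.1

theorem le_hat_low {X : Subgroup G} {E : Subgroup (Gam Y)} (h : E ≤ hat Y X) : E ≤ hat Y (low X E) := by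
  intro x hx
  obtain ⟨a, ha, h1⟩ := mem_hat.1 (h hx)
  exact mem_hat.2 ⟨a, ⟨ha, x, hx, h1⟩, h1⟩

theorem ind_one_iff {a : G} : Ind Y a 1 ↔ a ∈ centralizer (Y : Set G) := by
  constructor
  · intro h
    rw [mem_centralizer_iff]
    intro y hy
    have h1 := h ⟨y, hy⟩
    have h2 : y = a * y * a⁻¹ := h1
    exact eq_mul_inv_iff_mul_eq.1 h2
  · intro h y
    have h1 := mem_centralizer_iff.1 h y y.2
    change (y : G) = a * y * a⁻¹
    rw [← h1]; group

theorem Ind.cent {a b : G} {x z : Gam Y} (h : Ind Y a x) (h' : Ind Y b z) (e : x.right = z.right) :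
    a⁻¹ * b ∈ centralizer (Y : Set G) := by
  rw [← ind_one_iff]
  intro y
  have h1 := (h.inv.mul h') y
  have e1 : (x⁻¹ * z).right = 1 := by
    rw [SemidirectProduct.mul_right, SemidirectProduct.inv_right, e, inv_mul_cancel]
  rw [e1] at h1
  exact h1

/-- `|E : E ∩ Y| = |A : C_A(Y)|` if `E` and `A` induce the same automorphisms -/
theorem rel_le [Finite G] {E : Subgroup (Gam Y)} (h : ∀ x ∈ E, ∃ a ∈ A, Ind Y a x) :
    (YY Y).relIndex E ≤ (centralizer (Y : Set G)).relIndex A := by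
  rw [← Subgroup.inf_relIndex_left, ← Subgroup.inf_relIndex_left A]
  classical
  choose! f hf hf' using h
  refine Nat.card_le_card_of_injective
    (Quotient.map' (s₁ := QuotientGroup.leftRel ((E ⊓ YY Y).subgroupOf E))
      (s₂ := QuotientGroup.leftRel ((A ⊓ centralizer (Y : Set G)).subgroupOf A))
      (fun x : E => (⟨f x, hf x x.2⟩ : A)) ?_) ?_
  · intro x z hxz
    rw [QuotientGroup.leftRel_apply] at hxz ⊢
    rw [mem_subgroupOf] at hxz ⊢
    refine ⟨A.mul_mem (A.inv_mem (hf x x.2)) (hf z z.2), ?_⟩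
    refine (hf' x x.2).cent (hf' z z.2) ?_
    have h1 : ((x : Gam Y)⁻¹ * z).right = 1 := mem_YY.1 hxz.2
    rw [SemidirectProduct.mul_right, SemidirectProduct.inv_right] at h1
    exact inv_mul_eq_one.1 h1
  · intro q r
    refine Quotient.inductionOn₂' q r fun x z hxz => ?_
    have h1 := Quotient.exact' hxz
    rw [QuotientGroup.leftRel_apply, mem_subgroupOf] at h1
    apply Quotient.sound'
    rw [QuotientGroup.leftRel_apply, mem_subgroupOf]
    refine ⟨E.mul_mem (E.inv_mem x.2) z.2, mem_YY.2 ?_⟩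
    have h2 := (hf' x x.2).inv.mul (hf' z z.2)
    have h3 : Ind Y ((f x)⁻¹ * f z) 1 := ind_one_iff.2 h1.2
    exact h2.right_eq h3

theorem rel_ge [Finite G] {E : Subgroup (Gam Y)} (h : ∀ a ∈ A, ∃ x ∈ E, Ind Y a x) :
    (centralizer (Y : Set G)).relIndex A ≤ (YY Y).relIndex E := by
  rw [← Subgroup.inf_relIndex_left, ← Subgroup.inf_relIndex_left E]
  classical
  choose! f hf hf' using h
  refine Nat.card_le_card_of_injective
    (Quotient.map' (s₁ := QuotientGroup.leftRel ((A ⊓ centralizer (Y : Set G)).subgroupOf A))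
      (s₂ := QuotientGroup.leftRel ((E ⊓ YY Y).subgroupOf E))
      (fun x : A => (⟨f x, hf x x.2⟩ : E)) ?_) ?_
  · intro x z hxz
    rw [QuotientGroup.leftRel_apply] at hxz ⊢
    rw [mem_subgroupOf] at hxz ⊢
    refine ⟨E.mul_mem (E.inv_mem (hf x x.2)) (hf z z.2), mem_YY.2 ?_⟩
    have h3 : Ind Y ((x : G)⁻¹ * z) 1 := ind_one_iff.2 hxz.2
    exact ((hf' x x.2).inv.mul (hf' z z.2)).right_eq h3
  · intro q r
    refine Quotient.inductionOn₂' q r fun x z hxz => ?_
    have h1 := Quotient.exact' hxz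
    rw [QuotientGroup.leftRel_apply, mem_subgroupOf] at h1
    apply Quotient.sound'
    rw [QuotientGroup.leftRel_apply, mem_subgroupOf]
    refine ⟨A.mul_mem (A.inv_mem x.2) z.2, ?_⟩
    refine (hf' x x.2).cent (hf' z z.2) ?_
    have h4 : ((f x)⁻¹ * f z).right = 1 := mem_YY.1 h1.2
    rw [SemidirectProduct.mul_right, SemidirectProduct.inv_right] at h4
    exact inv_mul_eq_one.1 h4

theorem card_eq [Finite G] (E : Subgroup (Gam Y)) :
    (YY Y).relIndex E * Nat.card ↥(E ⊓ YY Y) = Nat.card E := rel_mul_card _ _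

/-- `C_Y(A) Ã` -/
def til (Y A : Subgroup G) : Subgroup (Gam Y) where
  carrier := {x | (x.left : G) ∈ centralizer (A : Set G) ∧ ∃ a ∈ A, Ind Y a x}
  one_mem' := ⟨by rw [SemidirectProduct.one_left]; exact one_mem _, 1, one_mem _, Ind.one⟩
  mul_mem' := by
    rintro x z ⟨hx, a, ha, h1⟩ ⟨hz, b, hb, h2⟩
    refine ⟨?_, a * b, mul_mem ha hb, h1.mul h2⟩
    rw [SemidirectProduct.mul_left, Subgroup.coe_mul, MonoidHom.id_apply, h1, mem_centralizer_iff.1 hz a ha,
      mul_inv_cancel_right]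
    exact mul_mem hx hz
  inv_mem' := by
    rintro x ⟨hx, a, ha, h1⟩
    refine ⟨?_, a⁻¹, inv_mem ha, h1.inv⟩
    rw [SemidirectProduct.inv_left, MonoidHom.id_apply]
    have h2 := h1.inv (x.left⁻¹)
    rw [SemidirectProduct.inv_right] at h2
    rw [h2, Subgroup.coe_inv, inv_inv, mem_centralizer_iff.1 (inv_mem hx) _ (inv_mem ha), inv_mul_cancel_right]
    exact inv_mem hx

theorem mem_til {x : Gam Y} :
    x ∈ til Y A ↔ (x.left : G) ∈ centralizer (A : Set G) ∧ ∃ a ∈ A, Ind Y a x := Iff.rfl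

theorem til_le_hat : til Y A ≤ hat Y A := fun _ h => h.2

theorem til_elem (hc : ∀ a ∈ Y, ∀ b ∈ Y, a * b = b * a) (h2 : ∀ y ∈ Y, y ^ 2 = 1) (ok : ElemM Y A) :
    IsElementaryAbelian 2 (til Y A) := by
  have key : ∀ x ∈ til Y A, ∀ z ∈ til Y A, (x * z).left = x.left * z.left := by
    rintro x ⟨-, a, ha, h1⟩ z ⟨hz, -⟩
    apply Subtype.ext
    rw [SemidirectProduct.mul_left, Subgroup.coe_mul, MonoidHom.id_apply, h1, mem_centralizer_iff.1 hz a ha,
      mul_inv_cancel_right, Subgroup.coe_mul]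
  refine isElementaryAbelian_iff.2 ⟨fun x hx z hz => ?_, fun x hx => ?_⟩
  · apply SemidirectProduct.ext
    · rw [key x hx z hz, key z hz x hx]
      exact Subtype.ext (hc _ x.left.2 _ z.left.2)
    · obtain ⟨-, a, ha, h1⟩ := hx
      obtain ⟨-, b, hb, h2⟩ := hz
      have h3 := ok.comm a ha b hb
      have h4 : Ind Y (a * b * a⁻¹ * b⁻¹) 1 := ind_one_iff.2 h3
      have h5 := h4.mul (h2.mul h1)
      rw [one_mul] at h5
      have e : a * b * a⁻¹ * b⁻¹ * (b * a) = a * b := by group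
      rw [e] at h5
      exact (h1.mul h2).right_eq h5
  · rw [pow_two]
    apply SemidirectProduct.ext
    · rw [key x hx x hx]
      have := h2 _ x.left.2
      rw [pow_two] at this
      exact Subtype.ext this
    · obtain ⟨-, a, ha, h1⟩ := hx
      have h3 := ok.sq a ha
      rw [pow_two] at h3
      exact (h1.mul h1).right_eq (ind_one_iff.2 h3)

theorem card_til [Finite G] (hN : A ≤ normalizer (Y : Set G)) : ff Y A ≤ Nat.card (til Y A) := by
  rw [← card_eq]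
  refine Nat.mul_le_mul (rel_ge fun a ha => ⟨lift Y a (hN ha), ⟨?_, a, ha, ind_lift _⟩, ind_lift _⟩) ?_
  · change ((1 : Y) : G) ∈ _
    exact one_mem _
  · refine Nat.card_le_card_of_injective
      (fun y : ↥(Y ⊓ centralizer (A : Set G)) => (⟨inY Y ⟨y, y.2.1⟩, ⟨y.2.2, 1, one_mem _, ?_⟩, inY_mem _⟩ :
        ↥(til Y A ⊓ YY Y))) ?_
    · exact fun z => by simp [inY]
    · intro y z h
      have h1 := congrArg (fun x : ↥(til Y A ⊓ YY Y) => ((x : Gam Y).left : G)) h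
      exact Subtype.ext h1

theorem card_le_ff [Finite G] (hc : ∀ a ∈ Y, ∀ b ∈ Y, a * b = b * a) {E : Subgroup (Gam Y)} (hE : E ≤ hat Y A)
    (hEc : ∀ x ∈ E, ∀ z ∈ E, x * z = z * x) : Nat.card E ≤ ff Y (low A E) := by
  rw [← card_eq E]
  refine Nat.mul_le_mul (rel_le fun x hx => ?_) ?_
  · exact mem_hat.1 (le_hat_low hE hx)
  · refine Nat.card_le_card_of_injective
      (fun x : ↥(E ⊓ YY Y) => (⟨((x : Gam Y).left : G), (x : Gam Y).left.2, ?_⟩ :
        ↥(Y ⊓ centralizer (low A E : Set G)))) ?_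
    · change _ ∈ centralizer (low A E : Set G)
      rw [mem_centralizer_iff]
      rintro a ⟨ha, z, hz, h1⟩
      have h2 := hEc z hz x x.2.1
      rw [eq_inY x.2.2] at h2
      exact (h1.comm_iff hc _).1 h2
    · intro x z h
      have h1 := congrArg Subtype.val h
      have h2 : (x : Gam Y).left = (z : Gam Y).left := Subtype.ext h1
      apply Subtype.ext
      rw [eq_inY x.2.2, eq_inY z.2.2, h2]

theorem low_ok {S : Subgroup G} (hS2 : IsPGroup 2 S) (hSY : S ≤ normalizer (Y : Set G)) {E : Subgroup (Gam Y)}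
    (hE : IsElementaryAbelian 2 E) : Ok Y (low S E) := by
  obtain ⟨h1, h2⟩ := isElementaryAbelian_iff.1 hE
  refine ⟨⟨?_, ?_⟩, hS2.to_le low_le, low_le.trans hSY⟩
  · rintro a ⟨ha, x, hx, h3⟩
    rw [← ind_one_iff]
    have h4 := h3.pow 2
    rwa [h2 x hx] at h4
  · rintro a ⟨ha, x, hx, h3⟩ b ⟨hb, z, hz, h4⟩
    rw [← ind_one_iff]
    have h5 := ((h3.mul h4).mul h3.inv).mul h4.inv
    rwa [h1 x hx z hz, mul_inv_cancel_right, mul_inv_cancel] at h5

end hat

/-! ### Sylow subgroups, minimal parabolics, `O₂` -/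

section trans

variable {Y T X : Subgroup G}

theorem YY_pgroup (h2 : ∀ y ∈ Y, y ^ 2 = 1) : IsPGroup 2 (YY Y) := by
  intro x
  refine ⟨1, Subtype.ext ?_⟩
  rw [pow_one, Subgroup.coe_pow, Subgroup.coe_one, eq_inY x.2, ← map_pow]
  have : (x : Gam Y).left ^ 2 = 1 := Subtype.ext (h2 _ (x : Gam Y).left.2)
  rw [this, map_one]

theorem hat_pgroup (h2 : ∀ y ∈ Y, y ^ 2 = 1) (hT : IsPGroup 2 T) : IsPGroup 2 (hat Y T) := by
  rintro ⟨x, hx⟩
  obtain ⟨a, ha, h1⟩ := mem_hat.1 hx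
  obtain ⟨n, hn⟩ := hT ⟨a, ha⟩
  have hn' : a ^ 2 ^ n = 1 := congrArg Subtype.val hn
  have h3 := h1.pow (2 ^ n)
  rw [hn'] at h3
  have h4 : x ^ 2 ^ n ∈ YY Y := mem_YY.2 (h3.right_eq Ind.one)
  obtain ⟨m, hm⟩ := YY_pgroup h2 ⟨_, h4⟩
  have hm' : (x ^ 2 ^ n) ^ 2 ^ m = 1 := congrArg Subtype.val hm
  refine ⟨n + m, Subtype.ext ?_⟩
  rw [Subgroup.coe_pow, Subgroup.coe_one, pow_add, pow_mul]
  exact hm'

/-- `im` as the image of a homomorphism -/
theorem im_eq (hN : X ≤ normalizer (Y : Set G)) :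
    im Y X = (X.subgroupOf (normalizer (Y : Set G))).map Y.normalizerMonoidHom := by
  ext α
  constructor
  · rintro ⟨a, ha, h1⟩
    refine ⟨⟨a, hN ha⟩, mem_subgroupOf.2 ha, ?_⟩
    ext y
    rw [h1]; rfl
  · rintro ⟨a, ha, rfl⟩
    exact ⟨a, mem_subgroupOf.1 ha, fun y => rfl⟩

theorem syl_im [Finite G] (hT : Syl T X) (hN : X ≤ normalizer (Y : Set G)) : Syl (im Y T) (im Y X) := by
  rw [im_eq (hT.1.trans hN), im_eq hN]
  refine MinSimple.EmptyE.Trans.syl_map _ ?_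
  refine ⟨comap_mono hT.1, hT.2.1.comap_subtype, fun Q hQ hQ2 hle => ?_⟩
  have h1 : Q.map (normalizer (Y : Set G)).subtype = T := by
    refine hT.2.2 _ ?_ (hQ2.map _) ?_
    · rintro _ ⟨q, hq, rfl⟩
      exact mem_subgroupOf.1 (hQ hq)
    · intro t ht
      exact ⟨⟨t, hN (hT.1 ht)⟩, hle (mem_subgroupOf.2 ht), rfl⟩
  rw [← h1, Subgroup.subgroupOf, comap_map_eq_self_of_injective (Subgroup.subtype_injective _)]

theorem syl_hat [Finite G] (h2 : ∀ y ∈ Y, y ^ 2 = 1) (hT : Syl T X) (hN : X ≤ normalizer (Y : Set G)) :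
    Syl (hat Y T) (hat Y X) := by
  refine ⟨hat_mono hT.1, hat_pgroup h2 hT.2.1, fun Q hQ hQ2 hle => ?_⟩
  have h1 := syl_im hT hN
  have h3 : Q.map (SemidirectProduct.rightHom : Gam Y →* MulAut Y) = im Y T := by
    refine h1.2.2 _ ?_ (hQ2.map _) ?_
    · rintro _ ⟨q, hq, rfl⟩
      exact hQ hq
    · intro α hα
      refine ⟨SemidirectProduct.inr α, hle ?_, rfl⟩
      exact hα
  apply le_antisymm _ hle
  intro q hq
  change SemidirectProduct.rightHom q ∈ im Y T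
  rw [← h3]
  exact ⟨q, hq, rfl⟩

/-- `O₂(hat X) ≤ hat (O₂(X))` in the form needed -/
theorem low_o2 [Finite G] (hN : X ≤ normalizer (Y : Set G)) (hT : Syl T X) (hP : IsMinPar T X)
    (hne : ¬ oddGen X ≤ centralizer (Y : Set G)) : T ⊓ low X (o2 (hat Y X)) ≤ o2 X := by
  have hXn : X ≤ normalizer (low X (o2 (hat Y X)) : Set G) := by
    refine Dual.le_norm fun x hx a ha => ?_
    obtain ⟨haX, z, hz, h1⟩ := ha
    refine ⟨mul_mem (mul_mem hx haX) (inv_mem hx), lift Y x (hN hx) * z * (lift Y x (hN hx))⁻¹, ?_, ?_⟩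
    · exact (mem_normalizer_iff.1 (ChoiceSit.le_normalizer_o2 (hat Y X) (lift_mem hx (hN hx))) _).1 hz
    · exact ((ind_lift (hN hx)).mul h1).mul (ind_lift (hN hx)).inv
  rcases K0.min_or hT hP low_le hXn with h1 | h1
  · exfalso
    apply hne
    refine (closure_le _).2 ?_
    rintro x ⟨hx, ho⟩
    obtain ⟨-, z, hz, h2⟩ := h1 (mem_oddGen hx ho)
    obtain ⟨n, hn⟩ := (ChoiceSit.isPGroup_o2 (hat Y X)) ⟨z, hz⟩
    have hn' : z ^ 2 ^ n = 1 := congrArg Subtype.val hn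
    have h3 := h2.pow (2 ^ n)
    rw [hn', ind_one_iff] at h3
    obtain ⟨m, hm⟩ := exists_pow_eq_self_of_coprime (x := x) (n := 2 ^ n)
      (Nat.Coprime.pow_left _ (Nat.coprime_two_left.2 ho))
    change x ∈ centralizer (Y : Set G)
    rw [← hm]
    exact pow_mem h3 m
  · exact h1

/-- `IsMinPar` for the preimages -/
theorem minPar_hat [Finite G] (h2 : ∀ y ∈ Y, y ^ 2 = 1) (hN : X ≤ normalizer (Y : Set G)) (hT : Syl T X)
    (hP : IsMinPar T X) (hne : ¬ oddGen X ≤ centralizer (Y : Set G))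
    (ho : ¬ hat Y T ≤ o2 (hat Y X)) : IsMinPar (hat Y T) (hat Y X) := by
  refine ⟨hat_mono hT.1, fun h0 => ho ?_, ?_⟩
  · exact ZN.le_o2 (hat_mono hT.1) (hat_pgroup h2 hT.2.1) h0
  · obtain ⟨M, hM, hmax⟩ := hP.exists_max
    have hCn : X ≤ normalizer ((X ⊓ centralizer (Y : Set G) : Subgroup G) : Set G) :=
      EZero.le_normalizer_inf_cent hN
    have hC : X ⊓ centralizer (Y : Set G) ≤ M := by
      have h1 : (X ⊓ centralizer (Y : Set G)) ⊔ T ≠ X := by
        intro h0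
        exact hne ((oddGen_le_of_sup hCn h0.ge hT.1 inf_le_left hT.2.1).trans inf_le_right)
      exact le_sup_left.trans (hmax _ le_sup_right (lt_of_le_of_ne (sup_le inf_le_left hT.1) h1))
    refine ⟨hat Y M, lt_of_le_of_ne (hat_mono hM.le) fun h0 => hM.not_ge ?_, fun K hK1 hK2 => ?_⟩
    · intro x hx
      have h1 : lift Y x (hN hx) ∈ hat Y M := by rw [h0]; exact lift_mem hx _
      obtain ⟨m, hm, h3⟩ := mem_hat.1 h1
      have h4 : m⁻¹ * x ∈ centralizer (Y : Set G) := h3.cent (ind_lift (hN hx)) rfl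
      have h5 := mul_mem hm (hC ⟨X.mul_mem (X.inv_mem (hM.le hm)) hx, h4⟩)
      rwa [mul_inv_cancel_left] at h5
    · have h1 : low X K < X := by
        refine lt_of_le_of_ne low_le fun h0 => hK2.not_ge ?_
        intro z hz
        obtain ⟨a, ha, h3⟩ := mem_hat.1 hz
        rw [← h0] at ha
        obtain ⟨-, w, hw, h4⟩ := ha
        have h5 : w⁻¹ * z ∈ YY Y := by
          rw [mem_YY, SemidirectProduct.mul_right, SemidirectProduct.inv_right, h4.right_eq h3, inv_mul_cancel]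
        have h6 := mul_mem hw (hK1 (YY_le_hat h5))
        rwa [mul_inv_cancel_left] at h6
      refine (le_hat_low hK2.le).trans (hat_mono (hmax _ ?_ h1))
      intro t ht
      exact ⟨hT.1 ht, lift Y t (hN (hT.1 ht)), hK1 (lift_mem ht _), ind_lift _⟩

end trans

/-! ### blocks inside `zl T X` -/

open Cfsg.Agent.Omega.SQ1 (BauK.InK BauK.BlkK)
open Cfsg.Agent.Omega.SQ1.FFOne (minH_of exists_inK)
open Cfsg.Agent.Omega.NO3b.FPB (OfInK.N0 OfInK.N0_le OfInK.bk OfS.bk SymIn.exists_off SymIn.main)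

/-- A Baumann block over `bau T` in `X` with its module in `V`. -/
def HasBlk (T X V : Subgroup G) : Prop :=
  ∃ L W : Subgroup G, L ≤ X ∧ W ≤ V ∧ ∀ Y : Subgroup G, W ≤ Y → L ≤ normalizer (Y : Set G) → Bk T Y L W

theorem hasBlk_nat [Finite G] {H T Q V V0 : Subgroup G} {ι : Type} {N A : ι → Subgroup G} {q : ℕ}
    (h : BauK.InK H T Q V V0 N A q) (i : ι) : HasBlk T H V := by
  obtain ⟨L, k⟩ := h.exists_blk i
  exact ⟨L, OfInK.N0 N i L, k.LH h, (OfInK.N0_le k h).trans (h.NV i), fun Y hVY hLY => OfInK.bk k h hVY hLY⟩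

theorem hasBlk_sym [Finite G] {H T Q V : Subgroup G} {ι : Type} {N : ι → Subgroup G} {d t r : ι → G}
    (h : SQ1.BauS.In H T Q V N d t r) (i : ι) : HasBlk T H V := by
  obtain ⟨L, k⟩ := h.exists_blk i
  exact ⟨L, N i, k.LP.trans (h.PP_le i), h.NV i, fun Y hVY hLY => OfS.bk k h hVY hLY⟩

/-- The FF theorem gives a block. -/
theorem hasBlk_of [Finite G] (hFF : FFThm.Stmt.{u}) {T X : Subgroup G} (hT : Syl T X)
    (hP : IsMinPar T X) (hc : X ⊓ centralizer (o2 X : Set G) ≤ o2 X) (hJ : ¬ jj T ≤ o2 X)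
    (hne : (X ⊓ centralizer (zl T X : Set G)) ⊔ T ≠ X) : HasBlk T X (zl T X) := by
  have hm := minH_of hT hP hc
  obtain ⟨A, hA, hoff⟩ := SymIn.exists_off hm hne hJ
  obtain ⟨hno, ⟨F, _, _, _, k, hk, ⟨N⟩⟩ | ⟨k, m, hk, hm2, ⟨N⟩⟩⟩ :=
    hFF G T X hT hP hc ⟨A, hA.2.1.trans hT.1, hoff⟩
  · obtain ⟨N', E, h⟩ := exists_inK hT hP hc hJ hk N
    exact hasBlk_nat h ⟨0, hk⟩
  · obtain ⟨ι, N', d, t, r, ⟨i⟩, h, -⟩ := SymIn.main hm hJ hno hk (by omega) N
    exact hasBlk_sym h i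

/-! ### the theorem -/

/-- **(CEN) for a module.** -/
theorem cen_mod [Finite G] (hFF : FFThm.Stmt.{u}) {S T X Y V A : Subgroup G} (hS2 : IsPGroup 2 S)
    (hSY : S ≤ normalizer (Y : Set G)) (hXY : X ≤ normalizer (Y : Set G))
    (hYc : Y ≤ centralizer (Y : Set G)) (hY2 : ∀ y ∈ Y, y ^ 2 = 1) (hTS : T ≤ S) (hT : Syl T X)
    (hP : IsMinPar T X) (hVY : V ≤ Y) (hVT : S ⊓ centralizer (V : Set G) ≤ T)
    (hopt : ∀ B : Subgroup G, B ≤ S → Ok Y B → (∀ C : Subgroup G, Ok Y C → ff Y C ≤ ff Y B) →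
      B ≤ centralizer (V : Set G))
    (hAT : A ≤ T) (hA : Ok Y A) (hAm : ∀ C : Subgroup G, Ok Y C → ff Y C ≤ ff Y A) (hAX : ¬ A ≤ o2 X)
    (hXZ : X ≤ centralizer ((Y ⊓ centralizer (S : Set G) : Subgroup G) : Set G)) :
    Y ⊓ centralizer (T : Set G) ≤ centralizer (oddGen X : Set G) := by
  by_contra hcon
  have hne : ¬ oddGen X ≤ centralizer (Y : Set G) := fun h0 =>
    hcon (inf_le_left.trans (EZero.cent_symm h0))
  have hc : ∀ a ∈ Y, ∀ b ∈ Y, a * b = b * a := fun a ha b hb =>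
    (mem_centralizer_iff.1 (hYc hb) a ha)
  have hYe := YY_elem hc hY2
  have hAS : A ≤ S := hAT.trans hTS
  have hXS : ∀ z ∈ Y, (∀ s ∈ S, s * z = z * s) → ∀ x ∈ X, x * z = z * x := fun z hz h x hx =>
    (mem_centralizer_iff.1 (hXZ hx) z ⟨hz, mem_centralizer_iff.2 h⟩).symm
  -- the maximal elementary abelian subgroups of `S̃`
  have htil : til Y A ∈ AA (hat Y S) := by
    refine ⟨til_elem hc hY2 hA.toElemM, til_le_hat.trans (hat_mono hAS), fun E hE hES => ?_⟩
    exact (card_le_ff hc hES (isElementaryAbelian_iff.1 hE).1).trans ((hAm _ (low_ok hS2 hSY hE)).trans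
      (card_til hA.norm))
  have hAA : ∀ E ∈ AA (hat Y S), E ≤ hat Y (S ⊓ centralizer (V : Set G)) := by
    intro E hE
    have h1 := low_ok hS2 hSY hE.1
    have h3 : ff Y A ≤ ff Y (low S E) := (card_til hA.norm).trans ((hE.2.2 _ htil.1 htil.2.1).trans
      (card_le_ff hc hE.2.1 (isElementaryAbelian_iff.1 hE.1).1))
    have h4 := hopt _ low_le h1 fun C hC => (hAm C hC).trans h3
    exact (le_hat_low hE.2.1).trans (hat_mono (le_inf low_le h4))
  have hJT : jj (hat Y S) ≤ hat Y (S ⊓ centralizer (V : Set G)) := by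
    rw [jj_eq]
    exact sSup_le hAA
  -- `V ≤ Z(J(S̃))`
  have hVz : ∀ (v : G) (hv : v ∈ V), inY Y ⟨v, hVY hv⟩ ∈ zj (hat Y S) := by
    intro v hv
    have hcom : ∀ j ∈ hat Y (S ⊓ centralizer (V : Set G)), j * inY Y ⟨v, hVY hv⟩ = inY Y ⟨v, hVY hv⟩ * j := by
      intro j hj
      obtain ⟨a, ha, h1⟩ := mem_hat.1 hj
      exact (h1.comm_iff hc _).2 (mem_centralizer_iff.1 ha.2 v hv).symm
    have hsq : inY Y ⟨v, hVY hv⟩ ^ 2 = 1 := by
      rw [← map_pow]
      have : (⟨v, hVY hv⟩ : Y) ^ 2 = 1 := Subtype.ext (hY2 v (hVY hv))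
      rw [this, map_one]
    refine ChoiceBase.mem_zj.2 ⟨?_, hsq, fun j hj => hcom j (hJT hj)⟩
    exact le_jj htil (SQ1.Bau.mem_AA_of_comm htil (YY_le_hat (inY_mem _)) hsq fun a ha => hcom a (hAA _ htil ha))
  -- `B(S̃) ≤ T̃`
  have hBT : bau (hat Y S) ≤ hat Y T := by
    intro b hb
    obtain ⟨h1, h2⟩ := mem_bau.1 hb
    obtain ⟨s, hs, h3⟩ := mem_hat.1 h1
    refine hat_mono hVT (mem_hat.2 ⟨s, ⟨hs, mem_centralizer_iff.2 fun v hv => ?_⟩, h3⟩)
    exact ((h3.comm_iff hc _).1 (h2 _ (hVz v hv)).symm).symm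
  have hjj : jj (hat Y T) = jj (hat Y S) := jj_eq_of_jj_le ((ZN.jj_le_bau _).trans hBT) (hat_mono hTS)
  have hzj : zj (hat Y T) = zj (hat Y S) := by
    ext x
    rw [ChoiceBase.mem_zj, ChoiceBase.mem_zj, hjj]
  have hbau : bau (hat Y T) = bau (hat Y S) := by
    apply le_antisymm
    · intro b hb
      rw [mem_bau, hzj] at hb
      exact mem_bau.2 ⟨hat_mono hTS hb.1, hb.2⟩
    · intro b hb
      refine mem_bau.2 ⟨hBT hb, ?_⟩
      rw [hzj]
      exact (mem_bau.1 hb).2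
  -- `J(T̃) ≰ O₂(X̃)`
  have hJ : ¬ jj (hat Y T) ≤ o2 (hat Y X) := by
    intro h0
    apply hAX
    intro a ha
    refine low_o2 hXY hT hP hne ⟨hAT ha, hT.1 (hAT ha), lift Y a (hA.norm ha), h0 ?_, ind_lift _⟩
    rw [hjj]
    refine le_jj htil ⟨?_, a, ha, ind_lift _⟩
    change ((1 : Y) : G) ∈ _
    exact one_mem _
  have hTX : ¬ hat Y T ≤ o2 (hat Y X) := fun h0 => hJ ((ZN.jj_le _).trans h0)
  have hT' := syl_hat hY2 hT hXY
  have hP' := minPar_hat hY2 hXY hT hP hne hTX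
  have hYo : YY Y ≤ o2 (hat Y X) := ZN.le_o2 YY_le_hat (YY_pgroup hY2) (norm_YY _)
  have hc2 : hat Y X ⊓ centralizer (o2 (hat Y X) : Set (Gam Y)) ≤ o2 (hat Y X) :=
    inf_le_right.trans ((centralizer_le hYo).trans ((cent_YY hc).trans hYo))
  -- `O²(X̃)` moves `C_Y(T)`
  have hmv : ¬ oddGen (hat Y X) ≤ centralizer (zl (hat Y T) (hat Y X) : Set (Gam Y)) := by
    intro h0
    apply hcon
    rintro y ⟨hy, hyT⟩
    have h1 : inY Y ⟨y, hy⟩ ∈ zc (hat Y T) := by
      refine ChoiceBase.mem_zc.2 ⟨YY_le_hat (inY_mem _), ?_, ?_⟩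
      · rw [← map_pow]
        have : (⟨y, hy⟩ : Y) ^ 2 = 1 := Subtype.ext (hY2 y hy)
        rw [this, map_one]
      · intro j hj
        obtain ⟨t, ht, h1⟩ := mem_hat.1 hj
        exact (h1.comm_iff hc _).2 (mem_centralizer_iff.1 hyT t ht)
    have h3 := SQ1.VOf.zc_le_zl (H := hat Y X) h1
    rw [mem_centralizer_iff]
    have h4 : oddGen X ≤ centralizer ({y} : Set G) := by
      refine (closure_le _).2 ?_
      rintro x ⟨hx, ho⟩
      change x ∈ centralizer ({y} : Set G)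
      rw [mem_centralizer_iff]
      rintro z (rfl : z = y)
      have h5 : lift Y x (hXY hx) ∈ oddGen (hat Y X) := by
        refine mem_oddGen (lift_mem hx _) ?_
        refine Odd.of_dvd_nat ho ?_
        refine (orderOf_map_dvd (SemidirectProduct.inr : MulAut Y →* Gam Y) _).trans ?_
        refine (orderOf_map_dvd Y.normalizerMonoidHom _).trans ?_
        rw [← Subgroup.orderOf_coe]
      have h6 := mem_centralizer_iff.1 (h0 h5) _ h3
      exact (((ind_lift (hXY hx)).comm_iff hc _).1 h6.symm).symm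
    intro x hx
    exact (mem_centralizer_iff.1 (h4 hx) y rfl).symm
  obtain ⟨L, W, hLX, hWV, hk⟩ := hasBlk_of hFF hT' hP' hc2 hJ (FPB.Cen.cent_sup_ne hT' hmv)
  have hzY : zl (hat Y T) (hat Y X) ≤ YY Y := by
    refine MinSimple.VModule.zl_le ?_ (norm_YY _)
    intro z hz
    refine cent_YY hc (mem_centralizer_iff.2 fun w hw => ?_)
    exact (ChoiceBase.mem_zc.1 hz).2.2 w (YY_le_hat hw)
  have k := FPB.Move.Bk.of_bau (hk (YY Y) (hWV.trans hzY) (norm_YY _)) hbau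
  refine FPB.Main.not_le_centralizer (hat_pgroup hY2 hS2) hYe YY_le_hat (norm_YY _) k ?_
  refine hLX.trans fun x hx => ?_
  obtain ⟨a, ha, h1⟩ := mem_hat.1 hx
  rw [mem_centralizer_iff]
  intro z hz
  obtain ⟨hz1, hz2, hz3⟩ := ChoiceBase.mem_zc.1 hz
  have hzY' : z ∈ YY Y := cent_YY hc (mem_centralizer_iff.2 fun w hw => hz3 w (YY_le_hat hw))
  rw [eq_inY hzY'] at hz3 ⊢
  refine ((h1.comm_iff hc _).2 (hXS _ z.left.2 (fun s hs => ?_) a ha)).symm
  exact ((ind_lift (hSY hs)).comm_iff hc _).1 (hz3 _ (lift_mem hs _))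

end Cfsg.Agent.Omega.NO3b.Exit.Holo

end

section


/-!
# One noncentral chief factor (duality), for a single panel

`Pan V F T X L Q0` with `¬ Two V X` : `[U, O₂(X)] ≤ F`, duality, `[U₀, O₂(X)] = 1`, `U₀ = [U, O²(X)]`;
`exists_fix` : if `A ≤ T`, `A ≰ O₂(X)`, acts on `U₀` as an elementary abelian offender, then some element of
`C_{U₀}(T)` is moved by `O²(X)`.
-/

set_option autoImplicit false

namespace Cfsg.Agent.Omega.NO3b.K0.Mix

open Subgroup Cfsg Cfsg.Agent.ZN Cfsg.Agent.ZN.ChoiceBase Cfsg.Agent.ZN.ChoiceSit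
open Cfsg.Agent.MinSimple.MinParabolic (IsMinPar)
open Cfsg.Agent.MinSimple.VModule (oddGen oddGen_le mem_oddGen le_normalizer_oddGen oddGen_le_of_sup)
open Cfsg.Agent.Omega.NO3b.EZero
open Cfsg.Agent.Omega.NO3S.NotFF (commutator_le_of_odd le_centralizer_of_commutator commutator_commutator_eq
  normalizer_commutator le_normalizer_bot)
open Cfsg.Agent.Omega.NO3b.Dual (Dat)
open Cfsg.Agent.Omega.NO3b.CTwo (Sit)
open Cfsg.Agent.Omega.NO3b.CTwo.Sit (rr)
open scoped commutatorElement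

universe u

variable {G : Type u} [Group G]

namespace Pan

variable {V F T X L Q0 : Subgroup G} (h : Pan V F T X L Q0)
include h

omit h in
theorem U0_le : (⁅cl V X, oddGen X⁆ : Subgroup G) ≤ cl V X :=
  CTwo.Sit.commutator_le_of_norm ((oddGen_le X).trans (le_normalizer_cl V X))

omit h in
theorem X_norm_U0 : X ≤ normalizer ((⁅cl V X, oddGen X⁆ : Subgroup G) : Set G) :=
  normalizer_commutator (le_normalizer_cl V X) (le_normalizer_oddGen X)

variable [Finite G]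

omit h [Finite G] in
theorem one_of (hX : ¬ Two V X) : One V X := by
  intro N h1 h2 h3
  by_contra h4
  exact hX ⟨N, h1.trans U0_le, h2, fun h5 => h3 (le_antisymm h1 h5), h4⟩

/-- `[U₀, Q] = 1` -/
theorem o2_cent_U0 (hX : ¬ Two V X) : o2 X ≤ centralizer ((⁅cl V X, oddGen X⁆ : Subgroup G) : Set G) := by
  have h1 := h.dual (one_of hX) le_rfl (ChoiceSit.le_normalizer_o2 X) fun u hu k hk => h.comm_Q (one_of hX) hu hk
  rw [commutator_eq_bot_iff_le_centralizer] at h1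
  exact cent_symm h1

theorem U0_not_cent : ¬ (⁅cl V X, oddGen X⁆ : Subgroup G) ≤ centralizer (oddGen X : Set G) := by
  intro h0
  have h1 := h.U0_comm
  rw [commutator_eq_bot_iff_le_centralizer.2 h0] at h1
  exact h.U_not_cent (commutator_eq_bot_iff_le_centralizer.1 h1.symm)

/-- **An offender on `U₀`, one noncentral chief factor**: `O²(X)` moves `C_{U₀}(T)`. -/
theorem exists_fix (hX : ¬ Two V X) (hno : NoOv X) (hfull : FullOff T X) {A : Subgroup G} (hAT : A ≤ T)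
    (hAX : ¬ A ≤ o2 X) (hsq : ∀ a ∈ A, a ^ 2 ∈ centralizer (cl V X : Set G))
    (hcm : ∀ a ∈ A, ∀ b ∈ A, a * b * a⁻¹ * b⁻¹ ∈ centralizer (cl V X : Set G))
    (hoff : (centralizer (A : Set G)).relIndex ⁅cl V X, oddGen X⁆ ≤
      (centralizer ((⁅cl V X, oddGen X⁆ : Subgroup G) : Set G)).relIndex A) :
    ∃ y ∈ (⁅cl V X, oddGen X⁆ : Subgroup G), y ∈ centralizer (T : Set G) ∧ y ∉ centralizer (oddGen X : Set G) := by
  set U0 : Subgroup G := ⁅cl V X, oddGen X⁆ with hU0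
  have hAXle : A ≤ X := hAT.trans h.T_le_X
  have hU0X : X ≤ normalizer (U0 : Set G) := X_norm_U0
  have hQ := h.o2_cent_U0 hX
  have hnc := h.U0_not_cent
  -- elements of `T` centralising `U` lie in `O₂(X)`
  have hTU : ∀ t ∈ T, t ∈ centralizer (cl V X : Set G) → t ∈ o2 X := by
    intro t ht hc
    refine (h.le_o2_of_cent_U (R := T ⊓ centralizer (cl V X : Set G)) (h.isPGroup_T.to_le inf_le_left)
      (inf_le_left.trans h.T_le_X) inf_le_right) ⟨ht, hc⟩
  have hsq' : ∀ a ∈ A, a ^ 2 ∈ o2 X := fun a ha => hTU _ (pow_mem (hAT ha) 2) (hsq a ha)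
  have hcm' : ∀ a ∈ A, ∀ b ∈ A, a * b * a⁻¹ * b⁻¹ ∈ o2 X := fun a ha b hb =>
    hTU _ (mul_mem (mul_mem (mul_mem (hAT ha) (hAT hb)) (inv_mem (hAT ha))) (inv_mem (hAT hb))) (hcm a ha b hb)
  -- `A ∩ C(U₀) = A ∩ O₂(X)`
  have hrel : (centralizer (U0 : Set G)).relIndex A = (o2 X).relIndex A := by
    rw [← inf_relIndex_right, ← inf_relIndex_right (o2 X)]
    congr 1
    apply le_antisymm
    · refine le_inf ?_ inf_le_right
      exact h.le_o2_of_cent hU0X hnc (h.isPGroup_T.to_le (inf_le_right.trans hAT)) (inf_le_right.trans hAXle)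
        inf_le_left
    · exact inf_le_inf_right _ hQ
  rw [hrel] at hoff
  -- the full preimage
  have hcO : X ≤ normalizer ((centralizer (oddGen X : Set G) : Subgroup G) : Set G) := by
    intro x hx
    rw [mem_normalizer_iff_cj, cj_centralizer, mem_normalizer_iff_cj.1 (le_normalizer_oddGen X hx)]
  let D : Subgroup G :=
    { carrier := {y | y ∈ U0 ∧ ∀ a ∈ A, ⁅y, a⁆ ∈ centralizer (oddGen X : Set G)}
      one_mem' := ⟨one_mem _, fun a _ => by rw [commutatorElement_one_left]; exact one_mem _⟩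
      mul_mem' := by
        rintro y z ⟨hy, hy'⟩ ⟨hz, hz'⟩
        refine ⟨mul_mem hy hz, fun a ha => ?_⟩
        have e1 : ⁅y * z, a⁆ = (y * ⁅z, a⁆ * y⁻¹) * ⁅y, a⁆ := by
          simp only [commutatorElement_def]; group
        rw [e1]
        exact mul_mem ((mem_normalizer_iff.1 (hcO (h.U_le_X (U0_le hy))) _).1 (hz' a ha)) (hy' a ha)
      inv_mem' := by
        rintro y ⟨hy, hy'⟩
        have e1 : y⁻¹ = y := inv_eq_of_mul_eq_one_left (by
          have := h.U_sq y (U0_le hy)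
          rwa [pow_two] at this)
        rw [e1]
        exact ⟨hy, hy'⟩ }
  have hDle : D ≤ U0 := fun y hy => hy.1
  have hN : X ≤ normalizer ((U0 ⊓ centralizer (oddGen X : Set G) : Subgroup G) : Set G) :=
    norm_inf hU0X hcO
  have h1 : (o2 X).relIndex A ≤ D.relIndex U0 := by
    refine hno (U0 ⊓ centralizer (oddGen X : Set G)) U0 A D inf_le_left (U0_le.trans h.U_le_X)
      (fun y hy => h.U_sq y (U0_le hy)) (U0_le.trans (h.U_comm.trans (centralizer_le U0_le))) hN hU0X ?_ ?_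
      hAXle hsq' hcm' hDle ?_
    · intro K hK1 hK2 hK3
      rcases h.one' (one_of hX) (hK2.trans U0_le) hK3 with h2 | h2
      · exact Or.inl (le_antisymm (le_inf hK2 h2) hK1)
      · exact Or.inr (le_antisymm hK2 h2)
    · rw [h.U0_comm]
      exact fun h0 => hnc (h0.trans inf_le_right)
    · rw [commutator_le]
      intro y hy a ha
      refine ⟨?_, hy.2 a ha⟩
      have e1 : ⁅y, a⁆ = y * (a * y⁻¹ * a⁻¹) := by simp only [commutatorElement_def]; group
      rw [e1]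
      exact U0.mul_mem hy.1 (conj_mem' hU0X (hAXle ha) (U0.inv_mem hy.1))
  have hCD : U0 ⊓ centralizer (A : Set G) ≤ D := by
    rintro y ⟨hy, hyc⟩
    refine ⟨hy, fun a ha => ?_⟩
    have : ⁅y, a⁆ = 1 := by
      rw [commutatorElement_eq_one_iff_mul_comm]
      exact (mem_centralizer_iff.1 hyc a ha).symm
    rw [this]
    exact one_mem _
  have key : ∀ K L : Subgroup G, L.relIndex K * Nat.card ↥(K ⊓ L) = Nat.card K := by
    intro K L
    have e := relIndex_inf_mul_relIndex (⊥ : Subgroup G) L K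
    rw [relIndex_bot_left, bot_inf_eq, relIndex_bot_left, mul_comm, inf_comm] at e
    exact e
  have k1 := key U0 D
  have k2 := key U0 (centralizer (A : Set G))
  rw [inf_eq_right.2 hDle] at k1
  have k3 : Nat.card ↥(U0 ⊓ centralizer (A : Set G)) ≤ Nat.card D := Subgroup.card_le_of_le hCD
  have p1 : 0 < Nat.card U0 := Nat.card_pos
  have p2 : 0 < Nat.card ↥(U0 ⊓ centralizer (A : Set G)) := Nat.card_pos
  have h2 : D.relIndex U0 ≤ (centralizer (A : Set G)).relIndex U0 := by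
    refine Nat.le_of_mul_le_mul_right (c := Nat.card ↥(U0 ⊓ centralizer (A : Set G))) ?_ p2
    rw [k2]
    exact (Nat.mul_le_mul_left _ k3).trans k1.le
  have h3 : D.relIndex U0 = (centralizer (A : Set G)).relIndex U0 := le_antisymm h2 (hoff.trans h1)
  have h4 : U0 ⊓ centralizer (A : Set G) = D := by
    refine eq_of_le_of_card_ge hCD (le_of_eq ?_)
    have p3 : 0 < D.relIndex U0 := Nat.pos_of_ne_zero fun h0 => by rw [h0, zero_mul] at k1; omega
    rw [← h3, ← k1] at k2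
    exact (Nat.eq_of_mul_eq_mul_left p3 k2).symm
  refine hfull U0 A (U0_le.trans h.U_le_X) (fun y hy => h.U_sq y (U0_le hy))
    (U0_le.trans (h.U_comm.trans (centralizer_le U0_le))) hU0X hQ h.U0_comm ?_ ?_ hAT hsq' hcm' hAX ?_ ?_
  · intro h0
    apply hnc
    rw [← hU0, h0]
    exact bot_le
  · intro K hK1 hK2 hK3
    rcases h.one' (one_of hX) (hK1.trans U0_le) hK2 with h5 | h5
    · exact h5
    · exact absurd (le_antisymm hK1 h5) hK3
  · intro y hy hya
    have h5 : y ∈ D := ⟨hy, hya⟩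
    rw [← h4] at h5
    exact h5.2
  · exact le_antisymm (h1.trans h2) hoff

end Pan

end Cfsg.Agent.Omega.NO3b.K0.Mix

end
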